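import Cfsg.Agent.H79.MTwelve.FromColumns
import Cfsg.Agent.H28.M12.Iso
import Cfsg.Agent.Golay.Mathieu

/-!
# Uniqueness from the block columns
-/

set_option autoImplicit false

namespace Cfsg.Agent.H79.MTwelve

open H28.M12
open scoped Pointwise

/-- The point stabiliser gives a subgroup of index twelve in the Mathieu group. -/
theorem exists_index_twelve_spor :
    ∃ S : Subgroup Cfsg.Spor.M12, S.index = 12 := by
  refine ⟨Cfsg.Spor.M11.subgroupOf Cfsg.Spor.M12, ?_⟩
  have hle : Cfsg.Spor.M11 ≤ Cfsg.Spor.M12 := inf_le_left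
  have h := (Cfsg.Spor.M11.subgroupOf Cfsg.Spor.M12).card_mul_index
  rw [Nat.card_congr (Subgroup.subgroupOfEquivOfLe hle).toEquiv, Golay.card_spor_M11,
    Golay.card_spor_M12] at h
  omega

/-- Block columns determine the group up to isomorphism. -/
theorem nonempty_mulEquiv_of_columns {G : Type*} [Group G] [Finite G] (hG : Cfsg.IsM12 G)
    (hcol : ∃ w s t : G, Columns G w s t) :
    Nonempty (G ≃* ↥Cfsg.Spor.M12) ∧
      ∀ d : Finset Cfsg.GolayPt, d ∈ Cfsg.dodecads →
        Nonempty (G ≃* ↥(MulAction.stabilizer Cfsg.M24 d)) := by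
  haveI := Fintype.ofFinite G
  obtain ⟨w, s, t, h⟩ := hcol
  obtain ⟨S, hS⟩ := exists_index_twelve_of_columns hG h
  obtain ⟨T, hT⟩ := exists_index_twelve_spor
  refine ⟨nonempty_mulEquiv_of_index hG Golay.isM12_spor hS hT, fun d hd => ?_⟩
  obtain ⟨T', hT'⟩ := H28.M12.exists_index_twelve hd
  exact nonempty_mulEquiv_of_index hG (isM12_stabilizer hd) hS hT'

end Cfsg.Agent.H79.MTwelve
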