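import Cfsg.Agent.H79.MTwelve.Exclude

/-!
# The Sylow 11-subgroups of a simple group of order 95040
-/

set_option autoImplicit false
set_option linter.unusedSectionVars false
set_option linter.style.haveILetI false

namespace Cfsg.Agent.H79.MTwelve

open Cfsg Cfsg.Agent.H36 Subgroup

variable {G : Type*} [Group G] [Finite G]

/-- In a group of order `132` with a central subgroup of order `11` and four Sylow `3`-subgroups
the Sylow `2`-subgroup is normal. -/
theorem card_sylow_two_eq_one {C : Type*} [Group C] [Finite C] (hC : Nat.card C = 11 * 12)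
    (Z : Subgroup C) (hZ : Nat.card Z = 11) (hZc : Z ≤ center C)
    (h3 : Nat.card (Sylow 3 C) = 4) : Nat.card (Sylow 2 C) = 1 := by
  haveI : Fact (Nat.Prime 3) := ⟨Nat.prime_three⟩
  haveI : Fact (Nat.Prime 2) := ⟨Nat.prime_two⟩
  haveI : Z.Normal :=
    ⟨fun z hz g => by rw [mem_center_iff.1 (hZc hz) g, mul_inv_cancel_right]; exact hz⟩
  obtain ⟨T⟩ := Sylow.nonempty (p := 3) (G := C)
  have hT : Nat.card (T : Subgroup C) = 3 := by
    simpa using card_sylow_eq hC T (a := 1) (m := 44) (by norm_num) (by norm_num)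
  have hNT : Nat.card (normalizer ((T : Subgroup C) : Set C)) = 33 := by
    have h := card_sylow_mul_normalizer T
    rw [h3, hC] at h; omega
  haveI : IsCyclic (T : Subgroup C) := isCyclic_of_prime_card hT
  haveI : IsMulCommutative (T : Subgroup C) := IsCyclic.isMulCommutative
  have hinf : (T : Subgroup C) ⊓ Z = ⊥ := (disjoint_of_coprime_natCard (by
    rw [hT, hZ]; norm_num)).eq_bot
  have hle : (T : Subgroup C) ⊔ Z ≤ centralizer ((T : Subgroup C) : Set C) :=
    sup_le (le_centralizer _) (fun z hz => mem_centralizer_iff.2 fun t _ =>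
      mem_center_iff.1 (hZc hz) t)
  have hTcen : normalizer ((T : Subgroup C) : Set C) ≤ centralizer ((T : Subgroup C) : Set C) := by
    have hcard : Nat.card ((T : Subgroup C) ⊔ Z : Subgroup C) = 33 := by
      have := Cores.card_sup_mul_card_inf (T : Subgroup C) Z
      rw [hinf, card_bot, mul_one, hT, hZ] at this
      omega
    have heq : (T : Subgroup C) ⊔ Z = normalizer ((T : Subgroup C) : Set C) :=
      eq_of_le_of_card_ge (hle.trans (centralizer_le_normalizer _)) (by rw [hcard, hNT])
    rwa [heq] at hle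
  have hcompl := MonoidHom.ker_transferSylow_isComplement' T hTcen
  set R := (MonoidHom.transferSylow T hTcen).ker
  have hR : Nat.card R = 44 := by
    have := hcompl.card_mul
    rw [hT, hC] at this; omega
  obtain ⟨S⟩ := Sylow.nonempty (p := 2) (G := C)
  have hS : Nat.card (S : Subgroup C) = 4 := by
    simpa using card_sylow_eq hC S (a := 2) (m := 33) (by norm_num) (by norm_num)
  have hRidx : R.index = 3 := by
    have := R.index_mul_card
    rw [hR, hC] at this; omega
  have hin : ∀ S' : Sylow 2 C, (S' : Subgroup C) ≤ R := by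
    intro S' x hx
    rw [← QuotientGroup.eq_one_iff (N := R), ← orderOf_eq_one_iff]
    have h1 : orderOf (x : C ⧸ R) ∣ 4 := (orderOf_map_dvd (QuotientGroup.mk' R) x).trans
      (hS ▸ card_sylow_congr S' S ▸ Subgroup.orderOf_dvd_natCard _ hx)
    have h2 : orderOf (x : C ⧸ R) ∣ 3 := by
      exact (_root_.orderOf_dvd_natCard (x : C ⧸ R)).trans (dvd_of_eq ((index_eq_card R).symm.trans hRidx))
    exact Nat.eq_one_of_dvd_coprimes (by norm_num) h1 h2
  have hZR : Z ≤ R := by
    intro x hx
    rw [← QuotientGroup.eq_one_iff (N := R), ← orderOf_eq_one_iff]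
    have h1 : orderOf (x : C ⧸ R) ∣ 11 := (orderOf_map_dvd (QuotientGroup.mk' R) x).trans
      (hZ ▸ Subgroup.orderOf_dvd_natCard _ hx)
    have h2 : orderOf (x : C ⧸ R) ∣ 3 := by
      exact (_root_.orderOf_dvd_natCard (x : C ⧸ R)).trans (dvd_of_eq ((index_eq_card R).symm.trans hRidx))
    exact Nat.eq_one_of_dvd_coprimes (by norm_num) h1 h2
  have hsup : (S : Subgroup C) ⊔ Z = R := eq_of_le_of_card_ge (sup_le (hin S) hZR) (by
    have := Cores.card_sup_mul_card_inf (S : Subgroup C) Z
    rw [(disjoint_of_coprime_natCard (by rw [hS, hZ]; norm_num)).eq_bot, card_bot, mul_one, hS,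
      hZ] at this
    omega)
  have hRN : R ≤ normalizer ((S : Subgroup C) : Set C) := hsup ▸ sup_le le_normalizer
    (fun z hz => centralizer_le_normalizer _ (mem_centralizer_iff.2 fun t _ =>
      mem_center_iff.1 (hZc hz) t))
  haveI : Subsingleton (Sylow 2 C) := by
    refine ⟨fun A B => ?_⟩
    have key : ∀ A : Sylow 2 C, A = S := fun A => Sylow.ext (le_antisymm
      (fun a ha => ((A.2.inf_normalizer_sylow S).le (mem_inf.2 ⟨ha, hRN (hin A ha)⟩)).2)
      (fun a ha => by
        have hle : (A : Subgroup C) ≤ S :=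
          fun b hb => ((A.2.inf_normalizer_sylow S).le (mem_inf.2 ⟨hb, hRN (hin A hb)⟩)).2
        rw [eq_of_le_of_card_ge hle (card_sylow_congr S A).le]
        exact ha))
    rw [key A, key B]
  exact Nat.card_eq_one_iff_unique.2 ⟨inferInstance, inferInstance⟩

/-- A simple group of order `95040` has `1728` Sylow `11`-subgroups, each self-centralizing. -/
theorem sylow_eleven_data [IsSimpleGroup G] (hn : Nat.card G = 95040) [Fact (Nat.Prime 11)]
    (P : Sylow 11 G) :
    Nat.card (Sylow 11 G) = 1728 ∧ centralizer ((P : Subgroup G) : Set G) = P := by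
  have hG : ¬ IsMulCommutative G := not_comm_of_simple (by rw [hn]; norm_num)
  obtain ⟨hP, d, r, c, hmem, hd, hr, hc⟩ := exists_survivor hG (by rw [hn]; simp) P
  have hmul := card_normalizer_eq_mul (P : Subgroup G)
  rw [hc, hr] at hmul
  simp only [survivors, List.mem_cons, List.not_mem_nil, or_false, Prod.mk.injEq] at hmem
  rcases hmem with ⟨e, -⟩ | ⟨e, -⟩ | ⟨e, -⟩ | ⟨e, -⟩ | ⟨e, -⟩ | ⟨e, -⟩ | ⟨-, rfl, rfl, rfl⟩ |
    ⟨-, rfl, rfl, rfl⟩ | ⟨-, rfl, rfl, rfl⟩
  iterate 6 · exact absurd (e.symm.trans hn) (by norm_num)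
  · exfalso
    haveI : Fact (Nat.Prime 2) := ⟨Nat.prime_two⟩
    haveI : Fact (Nat.Prime 3) := ⟨Nat.prime_three⟩
    set C := centralizer ((P : Subgroup G) : Set G)
    haveI : IsCyclic (P : Subgroup G) := isCyclic_of_prime_card hP
    haveI : IsMulCommutative (P : Subgroup G) := IsCyclic.isMulCommutative
    have hPC : (P : Subgroup G) ≤ C := le_centralizer _
    obtain ⟨hdvd, hmod⟩ := card_sylow_dvd (p := 3) hc (a := 1) (m := 44) (by norm_num) (by norm_num)
    have h3 : Nat.card (Sylow 3 C) = 1 ∨ Nat.card (Sylow 3 C) = 4 ∨ Nat.card (Sylow 3 C) = 22 := by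
      have hk : Nat.card (Sylow 3 C) ∈ Nat.divisors 44 := Nat.mem_divisors.2 ⟨hdvd, by norm_num⟩
      exact (show ∀ k ∈ Nat.divisors 44, k % 3 = 1 → k = 1 ∨ k = 4 ∨ k = 22 by decide +kernel) _ hk hmod
    have hZc : (P : Subgroup G).subgroupOf C ≤ center C := fun z hz =>
      mem_center_iff.2 fun g => Subtype.ext (mem_centralizer_iff.1 g.2 _ hz).symm
    have hZ : Nat.card ((P : Subgroup G).subgroupOf C) = 11 := by
      rw [Nat.card_congr (subgroupOfEquivOfLe hPC).toEquiv, hP]
    rcases h3 with h3 | h3 | h3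
    · exact false_of_normal_part hG P hP hd (q := 3) (a := 1) one_ne_zero hc (by norm_num) h3
        (by rw [hmul]; norm_num) (by rw [hmul]; norm_num) (by rw [hn]; norm_num) (by norm_num)
    · exact false_of_normal_part hG P hP hd (q := 2) (a := 2) two_ne_zero hc (by norm_num)
        (card_sylow_two_eq_one hc _ hZ hZc h3)
        (by rw [hmul]; norm_num) (by rw [hmul]; norm_num) (by rw [hn]; norm_num) (by norm_num)
    · obtain ⟨T⟩ := Sylow.nonempty (p := 3) (G := C)
      have h := card_sylow_mul_normalizer T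
      rw [h3, hc] at h
      have hle : (P : Subgroup G).subgroupOf C ≤ normalizer ((T : Subgroup C) : Set C) :=
        fun z hz => centralizer_le_normalizer _ (mem_centralizer_iff.2 fun t _ =>
          mem_center_iff.1 (hZc hz) t)
      have h11 := hZ ▸ card_dvd_of_le hle
      omega
  · exfalso
    haveI : Fact (Nat.Prime 3) := ⟨Nat.prime_three⟩
    exact false_of_normal_part hG P hP hd (q := 3) (a := 1) one_ne_zero hc (by norm_num)
      (card_sylow_centralizer (a := 1) P hP hc (by norm_num) (by decide +kernel) (by norm_num) (by norm_num))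
      (by rw [hmul]; norm_num) (by rw [hmul]; norm_num) (by rw [hn]; norm_num) (by norm_num)
  · refine ⟨hd, ?_⟩
    haveI : IsCyclic (P : Subgroup G) := isCyclic_of_prime_card hP
    haveI : IsMulCommutative (P : Subgroup G) := IsCyclic.isMulCommutative
    exact (eq_of_le_of_card_ge (le_centralizer _) (by rw [hc, hP, mul_one])).symm

end Cfsg.Agent.H79.MTwelve
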