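import Cfsg.Agent.H79.MTwelve.Simplex
import Cfsg.Agent.H79.MTwelve.Eleven
import Cfsg.Agent.H85.SympFixed
import Cfsg.Agent.CharInduce.Ops

/-!
# The symmetric square of a character of degree eleven

With the degrees of the characters that do not vanish on elements of order eleven, the symmetric
square of a real character of degree eleven is `1 + 54 + χ'` with `χ'` again real of degree eleven.
-/

set_option autoImplicit false
set_option linter.unusedSectionVars false
set_option linter.style.haveILetI false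

namespace Cfsg.Agent.H79.MTwelve

open Matrix Cfsg.Agent.H81
open scoped Kronecker ComplexConjugate

universe u

variable {G : Type u} [Group G] [Fintype G]

/-- The symmetric square of a character is a character. -/
theorem isCharacter_symSq {χ : G → ℂ} (hχ : Cfsg.IsCharacter G χ) :
    Cfsg.IsCharacter G (symSq χ) := by
  classical
  have hcls : Cfsg.IsClassFunction G (symSq χ) := fun g h => by
    have hc := CharBasic.IsChar.isClassFunction hχ
    have h2 : h * g * h⁻¹ * (h * g * h⁻¹) = h * (g * g) * h⁻¹ := by group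
    simp only [symSq, hc g h, h2, hc (g * g) h]
  refine CharInduce.isCharacter_of_coeff hcls fun ψ => ?_
  obtain ⟨d, ρ, hρ⟩ := hχ
  obtain ⟨d', η, hη⟩ := CharInduce.IsChar.conj (CharBasic.IsIrr.isCharacter ψ.2)
  let φ := repHom ρ
  let φ' := repHom η
  let K : G →* Matrix ((Fin d × Fin d) × Fin d') ((Fin d × Fin d) × Fin d') ℂ :=
    { toFun := fun g => tensorSq φ g ⊗ₖ φ' g
      map_one' := by rw [map_one, map_one, one_kronecker_one]
      map_mul' := fun a b => by rw [map_mul, map_mul, mul_kronecker_mul] }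
  haveI : Fintype (⊤ : Subgroup G) := Fintype.ofFinite _
  set S : Matrix ((Fin d × Fin d) × Fin d') ((Fin d × Fin d) × Fin d') ℂ :=
    symMat ⊗ₖ (1 : Matrix (Fin d') (Fin d') ℂ) with hS
  have hSK : ∀ g, S * K g = K g * S := fun g => by
    change symMat ⊗ₖ (1 : Matrix (Fin d') (Fin d') ℂ) * (tensorSq φ g ⊗ₖ φ' g) =
      (tensorSq φ g ⊗ₖ φ' g) * symMat ⊗ₖ (1 : Matrix (Fin d') (Fin d') ℂ)
    rw [← mul_kronecker_mul, ← mul_kronecker_mul, symMat_comm, one_mul, mul_one]
  set A := avgOn K (⊤ : Subgroup G) with hA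
  have hSA : S * A = A * S := by
    simp only [hA, avgOn, mul_smul_comm, smul_mul_assoc, Finset.mul_sum, Finset.sum_mul]
    exact congrArg _ (Finset.sum_congr rfl fun o _ => hSK _)
  have hidem : S * A * (S * A) = S * A := by
    rw [show S * A * (S * A) = S * (A * S) * A by simp only [mul_assoc], ← hSA, ← mul_assoc,
      show S * S = S by rw [hS, ← mul_kronecker_mul, symMat_idem, one_mul], mul_assoc, hA,
      avgOn_idem]
  have htr := trace_eq_finrank (S * A) (LinearMap.range (S * A).mulVecLin) (fun v => ⟨v, rfl⟩) (by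
    rintro _ ⟨w, rfl⟩
    rw [Matrix.mulVecLin_apply, mulVec_mulVec, hidem])
  refine ⟨_, (?_ : Cfsg.classInner (symSq χ) (ψ : G → ℂ) = (S * A).trace).trans htr⟩
  have hterm : ∀ g, (S * K g).trace = symSq χ g * conj ((ψ : G → ℂ) g) := fun g => by
    change (symMat ⊗ₖ (1 : Matrix (Fin d') (Fin d') ℂ) * (tensorSq φ g ⊗ₖ φ' g)).trace = _
    rw [← mul_kronecker_mul, trace_kronecker, one_mul, trace_symMat_tensorSq, trace_repHom ρ,
      show (φ' g).trace = η.character g from congrFun (trace_repHom η) g, hρ, hη]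
  rw [Cfsg.classInner, hA, avgOn, mul_smul_comm, Matrix.trace_smul, smul_eq_mul,
    Nat.card_eq_fintype_card, Fintype.card_congr Subgroup.topEquiv.toEquiv]
  congr 1
  rw [Finset.mul_sum, Matrix.trace_sum]
  exact Fintype.sum_equiv Subgroup.topEquiv.toEquiv.symm _ _ fun g => (hterm g).symm

/-- The coset mean of a character at `1` is a natural number. -/
theorem exists_nat_cosetMean {R : G → ℂ} (hR : Cfsg.IsCharacter G R) (N : Subgroup G)
    [Fintype N] : ∃ k : ℕ, cosetMean N R 1 = k := by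
  obtain ⟨d, ρ, rfl⟩ := hR
  refine ⟨Module.finrank ℂ (LinearMap.range (avgOn (repHom ρ) N).mulVecLin), ?_⟩
  rw [← trace_repHom ρ, ← trace_mul_avgOn, map_one, one_mul]
  exact trace_eq_finrank _ (LinearMap.range (avgOn (repHom ρ) N).mulVecLin) (fun v => ⟨v, rfl⟩)
    (by
      rintro _ ⟨w, rfl⟩
      rw [Matrix.mulVecLin_apply, mulVec_mulVec, avgOn_idem])

/-- Averaging absorbs into a matrix fixed on the right. -/
theorem mul_avgOn_of_fixed {ι : Type*} [Fintype ι] [DecidableEq ι] (φ : G →* Matrix ι ι ℂ)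
    (P : Subgroup G) [Fintype P] {M : Matrix ι ι ℂ} (h : ∀ o ∈ P, M * φ o = M) :
    M * avgOn φ P = M := by
  rw [avgOn, mul_smul_comm, Finset.mul_sum, Finset.sum_congr rfl fun (o : P) _ => h o o.2,
    Finset.sum_const, Finset.card_univ, ← Nat.cast_smul_eq_nsmul ℂ, smul_smul,
    inv_mul_cancel₀ (Nat.cast_ne_zero.2 Fintype.card_ne_zero), one_smul]

/-- Averaging absorbs into a matrix fixed on the left. -/
theorem avgOn_mul_of_fixed {ι : Type*} [Fintype ι] [DecidableEq ι] (φ : G →* Matrix ι ι ℂ)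
    (P : Subgroup G) [Fintype P] {M : Matrix ι ι ℂ} (h : ∀ o ∈ P, φ o * M = M) :
    avgOn φ P * M = M := by
  rw [avgOn, smul_mul_assoc, Finset.sum_mul, Finset.sum_congr rfl fun (o : P) _ => h o o.2,
    Finset.sum_const, Finset.card_univ, ← Nat.cast_smul_eq_nsmul ℂ, smul_smul,
    inv_mul_cancel₀ (Nat.cast_ne_zero.2 Fintype.card_ne_zero), one_smul]

/-- If `P` fixes a line and the other elements of `N` have order five and are conjugate to their
inverses, `N` fixes that line. -/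
theorem cosetMean_eq_one {R : G → ℂ} (hR : Cfsg.IsCharacter G R) (P N : Subgroup G) [Fintype P]
    [Fintype N] (hPN : P ≤ N) (hnorm : ∀ n ∈ N, ∀ o, o ∈ P ↔ n * o * n⁻¹ ∈ P)
    (hord : ∀ n ∈ N, n ∉ P → orderOf n = 5 ∧ IsConj n n⁻¹)
    (h1 : cosetMean P R 1 = 1) : cosetMean N R 1 = 1 := by
  classical
  obtain ⟨d, ρ, hρ⟩ := hR
  have hchar : Cfsg.IsCharacter G R := ⟨d, ρ, hρ⟩
  set φ := repHom ρ with hφ
  have htr : (fun x => (φ x).trace) = R := (trace_repHom ρ).trans hρ
  set E := avgOn φ P with hE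
  have hE2 : E * E = E := avgOn_idem φ P
  have hEt : E.trace = 1 := by rw [← h1, ← htr, ← trace_mul_avgOn, map_one, one_mul]
  obtain ⟨v, hv0, hEv, hline⟩ := exists_rank_one E hE2 hEt
  have hc : ∀ n ∈ N, φ n *ᵥ v = cosetMean P R n • v := fun n hn => by
    have h := congrArg (fun M : Matrix (Fin d) (Fin d) ℂ => M *ᵥ v) (compress E hE2 hEt (φ n))
    simp only [← mulVec_mulVec, smul_mulVec] at h
    rw [hEv] at h
    rw [hE, trace_mul_avgOn, htr] at h
    rw [← h, ← hE, mulVec_mulVec, hE, ← avgOn_comm φ P (hnorm n hn), ← hE, ← mulVec_mulVec, hEv]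
  have hreal : ∀ n ∈ N, n ∉ P → conj (cosetMean P R n) = cosetMean P R n := by
    intro n hn hnP
    simp only [cosetMean, map_mul, map_inv₀, Complex.conj_natCast, map_sum]
    congr 1
    refine Finset.sum_congr rfl fun o _ => ?_
    rw [← CharBasic.IsChar.inv_apply hchar]
    have hno : n * (o : G) ∉ P := fun h => hnP (by simpa using P.mul_mem h (P.inv_mem o.2))
    obtain ⟨c, hc⟩ := isConj_iff.1 (hord _ (N.mul_mem hn (hPN o.2)) hno).2
    rw [← hc, CharBasic.IsChar.isClassFunction hchar _ c]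
  have hfix : ∀ n ∈ N, φ n *ᵥ v = v := by
    intro n hn
    by_cases hnP : n ∈ P
    · conv_lhs => rw [← hEv]
      rw [mulVec_mulVec, hE, avgOn_mul_left φ P hnP, ← hE, hEv]
    set c := cosetMean P R n with hcdef
    have hpow : ∀ i : ℕ, φ (n ^ i) *ᵥ v = c ^ i • v := by
      intro i
      induction i with
      | zero => simp
      | succ i ih =>
        rw [pow_succ, map_mul, ← mulVec_mulVec, hc n hn, mulVec_smul, ih, smul_smul, ← hcdef,
          pow_succ']
    have h5 := hpow 5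
    rw [← (hord n hn hnP).1, pow_orderOf_eq_one, map_one, one_mulVec, (hord n hn hnP).1] at h5
    obtain ⟨i, hi⟩ := Function.ne_iff.1 hv0
    have hc5 : c ^ 5 = 1 := by
      have := congrFun h5 i
      rw [Pi.smul_apply, smul_eq_mul] at this
      exact mul_right_cancel₀ hi ((one_mul _).trans this).symm
    have him : c.im = 0 := Complex.conj_eq_iff_im.1 (hreal n hn hnP)
    have hre : c = (c.re : ℂ) := Complex.ext (by simp) (by simp [him])
    have hre5 : c.re ^ 5 = 1 := by
      rw [hre] at hc5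
      exact Complex.ofReal_injective (by push_cast; exact hc5)
    have hone : c.re = 1 := by
      have h0 : 0 < c.re := (Odd.pow_pos_iff (show Odd 5 by decide)).1 (by rw [hre5]; norm_num)
      exact (pow_eq_one_iff_of_nonneg h0.le (by norm_num)).1 hre5
    rw [hc n hn, ← hcdef, hre, hone, Complex.ofReal_one, one_smul]
  have hNE : ∀ n ∈ N, φ n * E = E := fun n hn => by
    refine Matrix.ext_of_mulVec_single fun j => ?_
    obtain ⟨a, ha⟩ := hline (Pi.single j 1)
    rw [← mulVec_mulVec, ha, mulVec_smul, hfix n hn]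
  have hleft : avgOn φ N * E = E := by
    rw [avgOn, smul_mul_assoc, Finset.sum_mul, Finset.sum_congr rfl fun (o : N) _ => hNE o o.2,
      Finset.sum_const, Finset.card_univ, ← Nat.cast_smul_eq_nsmul ℂ, smul_smul,
      inv_mul_cancel₀ (Nat.cast_ne_zero.2 Fintype.card_ne_zero), one_smul]
  have hright : avgOn φ N * E = avgOn φ N :=
    mul_avgOn_of_fixed φ P fun o ho => avgOn_mul_right φ N (hPN ho)
  rw [← htr, ← trace_mul_avgOn, map_one, one_mul, ← hright, hleft, hEt]

/-- Elements of order five are conjugate to their inverses. -/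
theorem isConj_inv_five [IsSimpleGroup G] (hn : Nat.card G = 95040) {y : G} (hy : orderOf y = 5) :
    IsConj y y⁻¹ := by
  classical
  haveI : Fact (Nat.Prime 5) := ⟨by norm_num⟩
  have hY : Nat.card (Subgroup.zpowers y) = 5 := by rw [Nat.card_zpowers, hy]
  obtain ⟨T, hT⟩ := (IsPGroup.of_card (n := 1) (by rw [hY, pow_one])).exists_le_sylow
  have hTc : Nat.card (T : Subgroup G) = 5 := by
    simpa using H36.card_sylow_eq hn T (a := 1) (m := 19008) (by norm_num) (by norm_num)
  have hTy : (T : Subgroup G) = Subgroup.zpowers y :=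
    (Subgroup.eq_of_le_of_card_ge hT (by rw [hY, hTc])).symm
  have hG : ¬ IsMulCommutative G := H36.not_comm_of_simple (by rw [hn]; norm_num)
  obtain ⟨g, hgN, hgC⟩ := SetLike.not_le_iff_exists.1
    (H36.not_normalizer_le_centralizer hG T (by rw [hn]; norm_num))
  rw [hTy] at hgN hgC
  have hmem := (Subgroup.mem_normalizer_iff.1 hgN y).1 (Subgroup.mem_zpowers y)
  rw [mem_zpowers_iff_mem_range_orderOf, hy, Finset.mem_image] at hmem
  obtain ⟨k, hk, hky⟩ := hmem
  rw [Finset.mem_range] at hk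
  have hy5 : y ^ 5 = 1 := hy ▸ pow_orderOf_eq_one y
  have hmove : ∀ (a : G) (i j : ℕ), a * y ^ i * a⁻¹ = (a * y * a⁻¹) ^ i ∧
      (y ^ i) ^ j = y ^ ((i * j) % 5) := fun a i j => by
    refine ⟨(map_pow (MulAut.conj a) y i), ?_⟩
    rw [← pow_mul, ← pow_mod_orderOf, hy]
  have hinv : y⁻¹ = y ^ 4 := by rw [inv_eq_iff_mul_eq_one, ← pow_succ', hy5]
  interval_cases k
  · exfalso
    rw [pow_zero, eq_comm, conj_eq_one_iff] at hky
    rw [hky, orderOf_one] at hy
    norm_num at hy
  · exfalso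
    refine hgC (Subgroup.mem_centralizer_iff.2 fun z hz => ?_)
    obtain ⟨i, rfl⟩ := Subgroup.mem_zpowers_iff.1 hz
    rw [pow_one, eq_mul_inv_iff_mul_eq] at hky
    exact (show Commute y g from hky).zpow_left i
  · refine isConj_iff.2 ⟨g * g, ?_⟩
    rw [hinv, show g * g * y * (g * g)⁻¹ = g * (g * y * g⁻¹) * g⁻¹ by group, ← hky,
      (hmove g 2 2).1, ← hky, (hmove g 2 2).2]
  · refine isConj_iff.2 ⟨g * g, ?_⟩
    rw [hinv, show g * g * y * (g * g)⁻¹ = g * (g * y * g⁻¹) * g⁻¹ by group, ← hky,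
      (hmove g 3 3).1, ← hky, (hmove g 3 3).2]
  · exact isConj_iff.2 ⟨g, by rw [hinv, hky]⟩

/-- The possible degrees and values on an element of order eleven. -/
def DegreeList (G : Type u) [Group G] : Prop :=
  ∀ χ : Cfsg.IrrCharacter G, (χ : G → ℂ) 1 ≠ 1 → ∀ x : G, orderOf x = 11 →
    ((χ : G → ℂ) x = 0 ∧ ∃ m : ℕ, (χ : G → ℂ) 1 = ((11 * m : ℕ) : ℂ)) ∨
    ((χ : G → ℂ) 1 = 45 ∧ (χ : G → ℂ) x = 1) ∨
    ((χ : G → ℂ) 1 = 54 ∧ (χ : G → ℂ) x = -1) ∨
    ((χ : G → ℂ) 1 = 120 ∧ (χ : G → ℂ) x = -1) ∨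
    ((χ : G → ℂ) 1 = 144 ∧ (χ : G → ℂ) x = 1) ∨
    ((χ : G → ℂ) 1 = 16 ∧ (χ : G → ℂ) x + conj ((χ : G → ℂ) x) = -1)

/-- The list for a character of known degree. -/
theorem DegreeList.cases (hB : DegreeList G) (ψ : Cfsg.IrrCharacter G) {d : ℕ}
    (hd : (ψ : G → ℂ) 1 = (d : ℂ)) (hd1 : d ≠ 1) {x : G} (hx : orderOf x = 11) :
    ((ψ : G → ℂ) x = 0 ∧ ∃ m, d = 11 * m) ∨ (d = 45 ∧ (ψ : G → ℂ) x = 1) ∨
      (d = 54 ∧ (ψ : G → ℂ) x = -1) ∨ d = 120 ∨ d = 144 ∨
      (d = 16 ∧ (ψ : G → ℂ) x + conj ((ψ : G → ℂ) x) = -1) := by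
  rcases hB ψ (by rw [hd]; exact_mod_cast hd1) x hx with
    ⟨e, m, hm⟩ | ⟨hm, e⟩ | ⟨hm, e⟩ | ⟨hm, e⟩ | ⟨hm, e⟩ | ⟨hm, e⟩ <;> rw [hd] at hm
  · exact Or.inl ⟨e, m, by exact_mod_cast hm⟩
  · exact Or.inr (Or.inl ⟨by exact_mod_cast hm, e⟩)
  · exact Or.inr (Or.inr (Or.inl ⟨by exact_mod_cast hm, e⟩))
  · exact Or.inr (Or.inr (Or.inr (Or.inl (by exact_mod_cast hm))))
  · exact Or.inr (Or.inr (Or.inr (Or.inr (Or.inl (by exact_mod_cast hm)))))
  · exact Or.inr (Or.inr (Or.inr (Or.inr (Or.inr ⟨by exact_mod_cast hm, e⟩))))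

/-- The `P`-mean of a character of degree eleven or sixteen is one. -/
theorem cosetMean_sylow (hB : DegreeList G) (P : Subgroup G) [Fintype P]
    (hP : Nat.card P = 11) (ψ : Cfsg.IrrCharacter G)
    (hd : (ψ : G → ℂ) 1 = ((11 : ℕ) : ℂ) ∨ (ψ : G → ℂ) 1 = ((16 : ℕ) : ℂ)) :
    cosetMean P (ψ : G → ℂ) 1 = 1 := by
  classical
  haveI : Fact (Nat.Prime 11) := ⟨by norm_num⟩
  have hcard : Fintype.card P = 11 := by rw [← Nat.card_eq_fintype_card]; exact hP
  have hord : ∀ o : P, o ≠ 1 → orderOf (o : G) = 11 := fun o ho => by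
    rw [Subgroup.orderOf_coe]
    have hd : orderOf o ∣ 11 := hP ▸ orderOf_dvd_natCard o
    exact ((Nat.dvd_prime (by norm_num)).1 hd).resolve_left
      (fun h => ho (orderOf_eq_one_iff.1 h))
  have hsum : ∑ o : P, ((ψ : G → ℂ) o + conj ((ψ : G → ℂ) o)) = 22 := by
    rw [← Finset.add_sum_erase _ _ (Finset.mem_univ (1 : P))]
    rcases hd with hd | hd
    · rw [Finset.sum_eq_zero fun o ho => ?_, add_zero, OneMemClass.coe_one, hd,
        Complex.conj_natCast]
      · norm_num
      · obtain ⟨ho1, -⟩ := Finset.mem_erase.1 ho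
        rcases hB.cases ψ hd (by norm_num) (hord o ho1) with
          ⟨e, -⟩ | ⟨e, -⟩ | ⟨e, -⟩ | e | e | ⟨e, -⟩
        · rw [e, map_zero, add_zero]
        all_goals norm_num at e
    · rw [Finset.sum_congr rfl (g := fun _ => (-1 : ℂ)) fun o ho => ?_, Finset.sum_const,
        Finset.card_erase_of_mem (Finset.mem_univ _), Finset.card_univ, hcard,
        OneMemClass.coe_one, hd, Complex.conj_natCast]
      · norm_num
      · obtain ⟨ho1, -⟩ := Finset.mem_erase.1 ho
        rcases hB.cases ψ hd (by norm_num) (hord o ho1) with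
          ⟨-, m, e⟩ | ⟨e, -⟩ | ⟨e, -⟩ | e | e | ⟨-, e⟩
        · omega
        · norm_num at e
        · norm_num at e
        · norm_num at e
        · norm_num at e
        · exact e
  have hswap : ∑ o : P, conj ((ψ : G → ℂ) o) = ∑ o : P, (ψ : G → ℂ) o :=
    Fintype.sum_equiv (Equiv.inv P) _ _ fun o => by
      rw [Equiv.inv_apply, InvMemClass.coe_inv,
        CharBasic.IsChar.inv_apply (CharBasic.IsIrr.isCharacter ψ.2)]
  rw [Finset.sum_add_distrib, hswap] at hsum
  simp only [cosetMean, one_mul, hcard]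
  linear_combination hsum / 22

/-- The elements of `N(P)` outside `P`. -/
theorem order_of_mem_normalizer [IsSimpleGroup G] (hn : Nat.card G = 95040)
    [Fact (Nat.Prime 11)] (Q : Sylow 11 G) (hP : Nat.card (Q : Subgroup G) = 11)
    (hC : Subgroup.centralizer ((Q : Subgroup G) : Set G) = Q)
    (hNc : Nat.card (Subgroup.normalizer ((Q : Subgroup G) : Set G)) = 55) :
    ∀ n ∈ Subgroup.normalizer ((Q : Subgroup G) : Set G), n ∉ (Q : Subgroup G) →
      orderOf n = 5 ∧ IsConj n n⁻¹ := by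
  set N := Subgroup.normalizer ((Q : Subgroup G) : Set G)
  intro n hn' hnP
  have hd : orderOf n ∣ 55 := hNc ▸ Subgroup.orderOf_dvd_natCard _ hn'
  have hd' : orderOf n ∈ Nat.divisors 55 := Nat.mem_divisors.2 ⟨hd, by norm_num⟩
  rw [show Nat.divisors 55 = {1, 5, 11, 55} by decide] at hd'
  simp only [Finset.mem_insert, Finset.mem_singleton] at hd'
  rcases hd' with h | h | h | h
  · exact absurd (by rw [orderOf_eq_one_iff.1 h]; exact (Q : Subgroup G).one_mem) hnP
  · exact ⟨h, isConj_inv_five hn h⟩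
  · exact absurd (H36.mem_sylow_of_mem_normalizer Q h hn') hnP
  · exfalso
    have h11 : orderOf (n ^ 5) = 11 := by rw [orderOf_pow, h]; norm_num
    have hmem := H36.mem_sylow_of_mem_normalizer Q h11 (N.pow_mem hn' 5)
    refine hnP ?_
    rw [← hC]
    refine Subgroup.mem_centralizer_iff.2 fun z hz => ?_
    rw [SetLike.mem_coe, ← H36.sylow_eq_zpowers Q hP h11 hmem] at hz
    obtain ⟨i, rfl⟩ := Subgroup.mem_zpowers_iff.1 hz
    exact (((Commute.refl n).pow_left 5).zpow_left i).eq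

/-- A character of degree eleven takes the value one on elements of order five. -/
theorem value_five [IsSimpleGroup G] (hn : Nat.card G = 95040) (hB : DegreeList G)
    [Fact (Nat.Prime 11)] (Q : Sylow 11 G) (hP : Nat.card (Q : Subgroup G) = 11)
    (hC : Subgroup.centralizer ((Q : Subgroup G) : Set G) = Q)
    (h1728 : Nat.card (Sylow 11 G) = 1728) {ψ : G → ℂ}
    (hψ : Cfsg.IsIrrCharacter G ψ) (hd : ψ 1 = 11) {g : G} (hg : orderOf g = 5) : ψ g = 1 := by
  classical
  haveI : Fact (Nat.Prime 5) := ⟨by norm_num⟩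
  set P := (Q : Subgroup G) with hPdef
  set N := Subgroup.normalizer (P : Set G) with hNdef
  have hNc : Nat.card N = 55 := by
    have h := H36.card_sylow_mul_normalizer Q
    rw [h1728, hn, ← hPdef, ← hNdef] at h
    omega
  have hPN : P ≤ N := Subgroup.le_normalizer
  have hord := order_of_mem_normalizer hn Q hP hC hNc
  obtain ⟨y, hy⟩ := exists_prime_orderOf_dvd_card' (G := N) 5 (by rw [hNc]; norm_num)
  rw [← Subgroup.orderOf_coe] at hy
  -- `g` is conjugate to a power of `y`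
  have hY : Nat.card (Subgroup.zpowers (y : G)) = 5 := by rw [Nat.card_zpowers, hy]
  have hg' : Nat.card (Subgroup.zpowers g) = 5 := by rw [Nat.card_zpowers, hg]
  have h5 : ∀ T : Sylow 5 G, Nat.card (T : Subgroup G) = 5 := fun T => by
    simpa using H36.card_sylow_eq hn T (a := 1) (m := 19008) (by norm_num) (by norm_num)
  obtain ⟨T, hT⟩ := (IsPGroup.of_card (n := 1) (by rw [hY, pow_one])).exists_le_sylow
  obtain ⟨T', hT'⟩ := (IsPGroup.of_card (n := 1) (by rw [hg', pow_one])).exists_le_sylow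
  obtain ⟨c, hc⟩ := MulAction.exists_smul_eq G T' T
  have hTy : (T : Subgroup G) = Subgroup.zpowers (y : G) :=
    (Subgroup.eq_of_le_of_card_ge hT (by rw [hY, h5])).symm
  have hmem : c * g * c⁻¹ ∈ Subgroup.zpowers (y : G) := by
    rw [← hTy, ← hc, Sylow.coe_subgroup_smul]
    exact Subgroup.smul_mem_pointwise_smul g (MulAut.conj c) _ (hT' (Subgroup.mem_zpowers g))
  rw [← CharBasic.IsIrr.isClassFunction hψ g c]
  set z := c * g * c⁻¹ with hz
  have hzo : orderOf z = 5 := by
    rw [hz, show c * g * c⁻¹ = MulAut.conj c g from rfl, MulEquiv.orderOf_eq, hg]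
  have hzN : z ∈ N := (Subgroup.zpowers_le.2 y.2) hmem
  have hzP : z ∉ P := fun h => by
    have := hP ▸ Subgroup.orderOf_dvd_natCard _ h
    rw [hzo] at this; norm_num at this
  -- the coset `z P` is one conjugacy class
  have hconst : ∀ o : P, ψ (z * o) = ψ z := by
    let F : P → P := fun o => ⟨z⁻¹ * (o : G) * z * (o : G)⁻¹, P.mul_mem (by
      simpa using (Subgroup.mem_normalizer_iff.1 (N.inv_mem hzN) o).1 o.2) (P.inv_mem o.2)⟩
    have hF : Function.Injective F := by
      intro o o' he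
      have he' : z⁻¹ * (o : G) * z * (o : G)⁻¹ = z⁻¹ * (o' : G) * z * (o' : G)⁻¹ :=
        congrArg Subtype.val he
      have hcomm : Commute z ((o' : G)⁻¹ * o) := by
        have h1 : (o : G) * z * (o : G)⁻¹ = o' * z * (o' : G)⁻¹ := by
          have := congrArg (z * ·) he'
          simpa [mul_assoc] using this
        show z * ((o' : G)⁻¹ * o) = (o' : G)⁻¹ * o * z
        calc z * ((o' : G)⁻¹ * o) = (o' : G)⁻¹ * (o' * z * (o' : G)⁻¹) * o := by group
          _ = (o' : G)⁻¹ * o * z := by rw [← h1]; group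
      by_contra hne
      haveI := Fintype.ofFinite P
      set w := (o' : G)⁻¹ * o with hw
      have hw1 : w ≠ 1 := fun h => hne (Subtype.ext (inv_mul_eq_one.1 h).symm)
      have hwP : w ∈ P := P.mul_mem (P.inv_mem o'.2) o.2
      have hwo : orderOf w = 11 := ((Nat.dvd_prime (by norm_num)).1
        (hP ▸ Subgroup.orderOf_dvd_natCard _ hwP)).resolve_left
          (fun h => hw1 (orderOf_eq_one_iff.1 h))
      refine hzP ?_
      rw [← hC]
      refine Subgroup.mem_centralizer_iff.2 fun u hu => ?_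
      rw [SetLike.mem_coe, hPdef, ← H36.sylow_eq_zpowers Q hP hwo hwP] at hu
      obtain ⟨i, rfl⟩ := Subgroup.mem_zpowers_iff.1 hu
      exact (hcomm.symm.zpow_left i).eq
    intro o
    obtain ⟨o', ho'⟩ := (Finite.injective_iff_surjective.1 hF) o
    rw [← ho', show z * ((F o' : P) : G) = (o' : G) * z * (o' : G)⁻¹ by simp [F, mul_assoc]]
    exact CharBasic.IsIrr.isClassFunction hψ z _
  have hP1 : cosetMean P ψ 1 = 1 :=
    cosetMean_sylow hB P hP ⟨ψ, hψ⟩ (Or.inl (by rw [Nat.cast_ofNat]; exact hd))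
  have hN1 : cosetMean N ψ 1 = 1 :=
    cosetMean_eq_one (CharBasic.IsIrr.isCharacter hψ) P N hPN
      (fun n hn' => Subgroup.mem_normalizer_iff.1 hn') hord hP1
  have hval : cosetMean P ψ z = ψ z := by
    simp only [cosetMean, hconst, Finset.sum_const, Finset.card_univ, nsmul_eq_mul]
    rw [← mul_assoc, inv_mul_cancel₀ (Nat.cast_ne_zero.2 Fintype.card_ne_zero), one_mul]
  rw [← hval]
  obtain ⟨d, ρ, -, hρ⟩ := hψ
  rw [← hρ, ← trace_repHom ρ, ← trace_mul_avgOn, map_one, one_mul] at hP1 hN1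
  rw [← hρ, ← trace_repHom ρ, ← trace_mul_avgOn]
  set φ := repHom ρ
  set E := avgOn φ P with hE
  set M := avgOn φ N with hM
  have hME : M * E = M := mul_avgOn_of_fixed φ P fun o ho => avgOn_mul_right φ N (hPN ho)
  have hEM : E * M = M := avgOn_mul_of_fixed φ P fun o ho => avgOn_mul_left φ N (hPN ho)
  have hMeq : M = E := by
    have h := compress E (avgOn_idem φ P) hP1 M
    rw [hEM, hME, hN1, one_smul] at h
    exact h
  rw [← hMeq, avgOn_mul_left φ N hzN, hN1]

/-- The symmetric square of a real character of degree eleven. -/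
theorem symSq_decomp [IsSimpleGroup G] (hn : Nat.card G = 95040) (hB : DegreeList G)
    (P N : Subgroup G) [Fintype P] [Fintype N] (hP : Nat.card P = 11)
    (hmean : ∀ ψ : Cfsg.IrrCharacter G, ((ψ : G → ℂ) 1 = ((11 : ℕ) : ℂ) ∨
      (ψ : G → ℂ) 1 = ((16 : ℕ) : ℂ)) → cosetMean N (ψ : G → ℂ) 1 = 1)
    (hN : ∀ n : N, (n : G) ∈ P ∨ orderOf (n : G) = 5)
    (hy : ∀ ψ : G → ℂ, Cfsg.IsIrrCharacter G ψ → ψ 1 = 11 → ∀ g : G, orderOf g = 5 → ψ g = 1)
    (hPN : P ≤ N) (hNc : Nat.card N = 55)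
    {χ : G → ℂ} (hχ : Cfsg.IsIrrCharacter G χ) (hd : χ 1 = 11) (hreal : ∀ g, (χ g).im = 0) :
    ∃ χ' : G → ℂ, (Cfsg.IsIrrCharacter G χ' ∧ χ' 1 = 11 ∧ ∀ g, (χ' g).im = 0) ∧
      ∃ R : G → ℂ, Cfsg.IsCharacter G R ∧ cosetMean N R 1 = 0 ∧
        ∀ g, symSq χ g = 1 + χ' g + R g := by
  classical
  haveI : Fact (Nat.Prime 11) := ⟨by norm_num⟩
  haveI : Nontrivial P := Finite.one_lt_card_iff_nontrivial.1 (by rw [hP]; norm_num)
  obtain ⟨x, hx1⟩ := exists_ne (1 : P)
  have hordP : ∀ o : P, o ≠ 1 → orderOf (o : G) = 11 := fun o ho => by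
    rw [Subgroup.orderOf_coe]
    have hd : orderOf o ∣ 11 := hP ▸ orderOf_dvd_natCard o
    exact ((Nat.dvd_prime (by norm_num)).1 hd).resolve_left
      (fun h => ho (orderOf_eq_one_iff.1 h))
  have hchar : Cfsg.IsCharacter G χ := CharBasic.IsIrr.isCharacter hχ
  let C : Cfsg.IrrCharacter G := ⟨χ, hχ⟩
  have hdC : (C : G → ℂ) 1 = ((11 : ℕ) : ℂ) := by rw [Nat.cast_ofNat]; exact hd
  have hx0 : ∀ g, orderOf g = 11 → χ g = 0 := fun g hg => by
    rcases hB.cases C hdC (by norm_num) hg with ⟨e, -⟩ | ⟨e, -⟩ | ⟨e, -⟩ | e | e | ⟨e, -⟩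
    · exact e
    all_goals norm_num at e
  have hreal' : ∀ g, conj (χ g) = χ g := fun g => Complex.conj_eq_iff_im.2 (hreal g)
  -- values of the symmetric square
  have hsq1 : symSq χ 1 = 66 := by rw [symSq, mul_one, hd]; norm_num
  have hsqx : ∀ g, orderOf g = 11 → symSq χ g = 0 := fun g hg => by
    rw [symSq, hx0 g hg, hx0 (g * g) (by
      rw [← pow_two, orderOf_pow, hg]; norm_num)]
    norm_num
  have hsqN : cosetMean N (symSq χ) 1 = 2 := by
    have hterm : ∀ n : N, symSq χ n =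
        (if n = 1 then 65 else 0) + (if (n : G) ∈ P then 0 else 1) + (if n = 1 then 1 else 0) := by
      intro n
      rcases hN n with h | h
      · by_cases h1 : n = 1
        · subst h1; rw [if_pos rfl, if_pos rfl, if_pos h, OneMemClass.coe_one, hsq1]; norm_num
        · rw [if_neg h1, if_neg h1, if_pos h, add_zero, add_zero]
          exact hsqx _ (hordP ⟨n, h⟩ fun he => h1 (Subtype.ext (congrArg Subtype.val he :)))
      · have hnP : (n : G) ∉ P := fun hm => by
          have := hP ▸ Subgroup.orderOf_dvd_natCard _ hm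
          rw [h] at this; norm_num at this
        have h1 : n ≠ 1 := fun he => hnP (by rw [he, OneMemClass.coe_one]; exact P.one_mem)
        rw [if_neg h1, if_neg hnP, symSq, hy χ hχ hd _ h,
          hy χ hχ hd _ (by rw [← pow_two, orderOf_pow, h]; norm_num)]
        rw [if_neg h1]; norm_num
    have hcount : (Finset.univ.filter fun n : N => ¬ (n : G) ∈ P).card = 44 := by
      have hcN : Fintype.card N = 55 := by rw [← Nat.card_eq_fintype_card]; exact hNc
      have hp : (Finset.univ.filter fun n : N => (n : G) ∈ P).card = 11 := by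
        rw [← Fintype.card_subtype, ← Nat.card_eq_fintype_card]
        exact (Nat.card_congr (Subgroup.subgroupOfEquivOfLe hPN).toEquiv).trans hP
      have := Finset.card_filter_add_card_filter_not (s := (Finset.univ : Finset N))
        (fun n : N => (n : G) ∈ P)
      rw [Finset.card_univ, hcN, hp] at this
      omega
    simp only [cosetMean, one_mul, hterm, Finset.sum_add_distrib, Finset.sum_ite_eq',
      Finset.mem_univ, if_true]
    rw [Finset.sum_ite, Finset.sum_const_zero, zero_add, Finset.sum_const, hcount,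
      ← Nat.card_eq_fintype_card, hNc]
    norm_num
  have hν : (Nat.card G : ℂ)⁻¹ * ∑ s : G, χ (s * s) = 1 := by
    refine H85.indicator_eq_one_of_odd (⊥ : Subgroup G) hχ hreal (m := 11) ?_ (by decide)
    rw [Cfsg.classInner, Subgroup.card_bot, Nat.cast_one, inv_one, one_mul, map_one]
    simp only [mul_one]
    rw [Fintype.sum_subsingleton _ (1 : (⊥ : Subgroup G)), OneMemClass.coe_one, hd]
    norm_num
  have hsqG : Cfsg.classInner (symSq χ) (fun _ => (1 : ℂ)) = 1 := by
    have h1 := CharBasic.classInner_irr_self hχ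
    simp only [Cfsg.classInner, hreal'] at h1
    simp only [Cfsg.classInner, map_one, mul_one, symSq, ← Finset.sum_div,
      Finset.sum_add_distrib, sq]
    linear_combination (h1 + hν) / 2
  -- coefficients
  have hcharS := isCharacter_symSq hchar
  choose a ha using fun ψ : Cfsg.IrrCharacter G =>
    CharBasic.classInner_isChar_nat hcharS (CharBasic.IsIrr.isCharacter ψ.2)
  have hexp : ∀ g, symSq χ g = ∑ ψ : Cfsg.IrrCharacter G, (a ψ : ℂ) * (ψ : G → ℂ) g := fun g => by
    conv_lhs => rw [CharBasic.classFunction_expansion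
      (CharBasic.IsChar.isClassFunction hcharS)]
    simp [Finset.sum_apply, ha]
  choose f hpos' hf using fun ψ : Cfsg.IrrCharacter G => CharBasic.IsIrr.exists_degree ψ.2
  choose M hM using fun ψ : Cfsg.IrrCharacter G =>
    exists_nat_cosetMean (CharBasic.IsIrr.isCharacter ψ.2) N
  let T : Cfsg.IrrCharacter G := ⟨fun _ => (1 : ℂ), CharBasic.isIrrCharacter_one⟩
  have haT : a T = 1 := by
    have h := (ha T).symm.trans hsqG
    exact_mod_cast h
  have hdeg : ∑ ψ ∈ Finset.univ.erase T, a ψ * f ψ = 65 := by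
    have h := hexp 1
    rw [hsq1, ← Finset.add_sum_erase _ _ (Finset.mem_univ T), haT, Nat.cast_one, one_mul] at h
    have h' : ((65 : ℕ) : ℂ) = ((∑ ψ ∈ Finset.univ.erase T, a ψ * f ψ : ℕ) : ℂ) := by
      push_cast
      rw [Finset.sum_congr rfl fun ψ _ => congrArg ((a ψ : ℂ) * ·) (hf ψ)] at h
      linear_combination h
    exact_mod_cast h'.symm
  have hx : ∑ ψ ∈ Finset.univ.erase T, (a ψ : ℂ) * (ψ : G → ℂ) x = -1 := by
    have h := hexp x
    rw [hsqx _ (hordP x hx1), ← Finset.add_sum_erase _ _ (Finset.mem_univ T), haT, Nat.cast_one,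
      one_mul] at h
    linear_combination -h
  have hmeanSum : ∑ ψ ∈ Finset.univ.erase T, a ψ * M ψ = 1 := by
    have h : cosetMean N (symSq χ) 1 =
        ∑ ψ : Cfsg.IrrCharacter G, (a ψ : ℂ) * cosetMean N (ψ : G → ℂ) 1 := by
      simp only [cosetMean, hexp, Finset.mul_sum]
      rw [Finset.sum_comm]
      exact Finset.sum_congr rfl fun ψ _ => Finset.sum_congr rfl fun n _ => mul_left_comm _ _ _
    rw [hsqN, ← Finset.add_sum_erase _ _ (Finset.mem_univ T), haT, Nat.cast_one, one_mul] at h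
    have hT1 : cosetMean N (T : G → ℂ) 1 = 1 := by simp [cosetMean, T]
    rw [hT1] at h
    have h' : ((∑ ψ ∈ Finset.univ.erase T, a ψ * M ψ : ℕ) : ℂ) = ((1 : ℕ) : ℂ) := by
      push_cast
      simp only [hM] at h
      linear_combination -h
    exact_mod_cast h'
  have hne1 : ∀ ψ ∈ Finset.univ.erase T, f ψ ≠ 1 := fun ψ hψ h1 => by
    have hG : ¬ IsMulCommutative G := H36.not_comm_of_simple (by rw [hn]; norm_num)
    obtain ⟨d, hd2, hd', -⟩ := H36.SelfCentral.exists_degree_two_le hG (χ := ψ)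
      (fun e => (Finset.mem_erase.1 hψ).1 (e.trans (Subtype.ext rfl)))
    rw [hf ψ, h1] at hd'
    have : (1 : ℕ) = d := by exact_mod_cast hd'
    omega
  have hle : ∀ ψ ∈ Finset.univ.erase T, a ψ * f ψ ≤ 65 := fun ψ hψ =>
    hdeg ▸ Finset.single_le_sum (f := fun ψ => a ψ * f ψ) (fun _ _ => Nat.zero_le _) hψ
  have hM1 : ∀ ψ, (f ψ = 11 ∨ f ψ = 16) → M ψ = 1 := fun ψ h => by
    have h1 := hmean ψ (by rcases h with h | h <;> [left; right] <;> rw [hf ψ, h])
    rw [hM ψ] at h1
    exact_mod_cast h1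
  have hor : ∀ ψ ∈ Finset.univ.erase T, 0 < a ψ →
      ((ψ : G → ℂ) x = 0 ∧ ∃ m, f ψ = 11 * m) ∨ (f ψ = 45 ∧ (ψ : G → ℂ) x = 1) ∨
      (f ψ = 54 ∧ (ψ : G → ℂ) x = -1) ∨
      (f ψ = 16 ∧ (ψ : G → ℂ) x + conj ((ψ : G → ℂ) x) = -1) := fun ψ hψ hpos => by
    have hb := (Nat.le_mul_of_pos_left (f ψ) hpos).trans (hle ψ hψ)
    rcases hB.cases ψ (hf ψ) (hne1 ψ hψ) (hordP x hx1) with e | e | e | e | e | e
    · exact Or.inl e
    · exact Or.inr (Or.inl e)
    · exact Or.inr (Or.inr (Or.inl e))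
    · omega
    · omega
    · exact Or.inr (Or.inr (Or.inr e))
  -- no character of degree sixteen occurs
  have h16 : ∀ ψ ∈ Finset.univ.erase T, 0 < a ψ → f ψ ≠ 16 := by
    intro ψ hψ hpos h16
    have hsplit := Finset.add_sum_erase _ (fun ψ => a ψ * M ψ) hψ
    rw [hmeanSum, hM1 ψ (Or.inr h16), mul_one] at hsplit
    have haψ : a ψ = 1 := by omega
    have hrest : ∀ φ ∈ (Finset.univ.erase T).erase ψ,
        ((a φ : ℂ) * (φ : G → ℂ) x).im = 0 := by
      intro φ hφ
      rcases (a φ).eq_zero_or_pos with h0 | h0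
      · rw [h0, Nat.cast_zero, zero_mul, Complex.zero_im]
      have hMφ : a φ * M φ = 0 := by
        have := Finset.single_le_sum (f := fun ψ => a ψ * M ψ) (fun _ _ => Nat.zero_le _) hφ
        omega
      rcases hor φ (Finset.mem_of_mem_erase hφ) h0 with ⟨e, -⟩ | ⟨-, e⟩ | ⟨-, e⟩ | ⟨e, -⟩
      · rw [e, mul_zero, Complex.zero_im]
      · rw [e, mul_one, Complex.natCast_im]
      · rw [e, mul_neg, mul_one, Complex.neg_im, Complex.natCast_im, neg_zero]
      · exfalso
        rw [hM1 φ (Or.inr e), mul_one] at hMφ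
        omega
    have him := congrArg Complex.im hx
    rw [← Finset.add_sum_erase _ _ hψ, haψ, Nat.cast_one, one_mul, Complex.add_im, Complex.im_sum,
      Finset.sum_eq_zero hrest, add_zero, Complex.neg_im, Complex.one_im, neg_zero] at him
    rcases hor ψ hψ hpos with ⟨-, m, e⟩ | ⟨e, -⟩ | ⟨e, -⟩ | ⟨-, e⟩
    · omega
    · omega
    · omega
    rw [Complex.conj_eq_iff_im.2 him] at e
    have hhalf : (ψ : G → ℂ) x = ((-1 / 2 : ℚ) : ℂ) := by push_cast; linear_combination e / 2
    have hint := CharBasic.IsChar.isIntegral (CharBasic.IsIrr.isCharacter ψ.2) (x : G)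
    rw [hhalf, show ((-1 / 2 : ℚ) : ℂ) = algebraMap ℚ ℂ (-1 / 2) by simp] at hint
    obtain ⟨z, hz⟩ := IsIntegrallyClosed.algebraMap_eq_of_integral (R := ℤ)
      ((isIntegral_algebraMap_iff (algebraMap ℚ ℂ).injective).1 hint)
    have h2 : ((2 * z : ℤ) : ℚ) = ((-1 : ℤ) : ℚ) := by
      rw [eq_intCast] at hz
      push_cast
      rw [hz]; norm_num
    have h3 : 2 * z = -1 := Int.cast_injective h2
    omega
  obtain ⟨Y, hY, hYne⟩ := Finset.exists_ne_zero_of_sum_ne_zero
    (show ∑ ψ ∈ Finset.univ.erase T, (a ψ : ℂ) * (ψ : G → ℂ) x ≠ 0 by rw [hx]; norm_num)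
  have hYpos : 0 < a Y := Nat.pos_of_ne_zero fun h => hYne (by rw [h, Nat.cast_zero, zero_mul])
  rcases hor Y hY hYpos with ⟨e, -⟩ | ⟨hY45, hYx⟩ | ⟨hY54, hYx⟩ | ⟨e, -⟩
  · exact absurd (by rw [e, mul_zero]) hYne
  · exfalso
    have hdY := Finset.add_sum_erase _ (fun ψ => a ψ * f ψ) hY
    rw [hdeg, hY45] at hdY
    have haY : a Y = 1 := by omega
    have hzero : ∀ φ ∈ (Finset.univ.erase T).erase Y, (a φ : ℂ) * (φ : G → ℂ) x = 0 := by
      intro φ hφ
      rcases (a φ).eq_zero_or_pos with h0 | h0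
      · rw [h0, Nat.cast_zero, zero_mul]
      have hb : f φ ≤ 20 := by
        have := Finset.single_le_sum (f := fun ψ => a ψ * f ψ) (fun _ _ => Nat.zero_le _) hφ
        have := Nat.le_mul_of_pos_left (f φ) h0
        omega
      rcases hor φ (Finset.mem_of_mem_erase hφ) h0 with ⟨e, -⟩ | ⟨e, -⟩ | ⟨e, -⟩ | ⟨e, -⟩
      · rw [e, mul_zero]
      · omega
      · omega
      · exact absurd e (h16 φ (Finset.mem_of_mem_erase hφ) h0)
    rw [← Finset.add_sum_erase _ _ hY, Finset.sum_eq_zero hzero, haY, hYx] at hx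
    norm_num at hx
  · have hdY := Finset.add_sum_erase _ (fun ψ => a ψ * f ψ) hY
    rw [hdeg, hY54] at hdY
    have haY : a Y = 1 := by omega
    obtain ⟨Z, hZ, hZne⟩ := Finset.exists_ne_zero_of_sum_ne_zero
      (show ∑ ψ ∈ (Finset.univ.erase T).erase Y, a ψ * f ψ ≠ 0 by omega)
    have hZpos : 0 < a Z := Nat.pos_of_ne_zero fun h => hZne (by rw [h, zero_mul])
    have hZ' := Finset.mem_of_mem_erase hZ
    have hZle : a Z * f Z ≤ 11 := by
      have := Finset.single_le_sum (f := fun ψ => a ψ * f ψ) (fun _ _ => Nat.zero_le _) hZ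
      omega
    have hfZ : f Z = 11 := by
      have := Nat.le_mul_of_pos_left (f Z) hZpos
      rcases hor Z hZ' hZpos with ⟨-, m, e⟩ | ⟨e, -⟩ | ⟨e, -⟩ | ⟨e, -⟩
      · have : m ≤ 1 := by omega
        interval_cases m
        · rw [e, mul_zero] at hZne; omega
        · omega
      all_goals omega
    have haZ : a Z = 1 := by rw [hfZ] at hZle; omega
    have hdZ := Finset.add_sum_erase _ (fun ψ => a ψ * f ψ) hZ
    rw [hfZ, haZ] at hdZ
    have hnone : ∀ φ ∈ ((Finset.univ.erase T).erase Y).erase Z, a φ = 0 := by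
      intro φ hφ
      have := Finset.single_le_sum (f := fun ψ => a ψ * f ψ) (fun _ _ => Nat.zero_le _) hφ
      rcases Nat.mul_eq_zero.1 (show a φ * f φ = 0 by omega) with h | h
      · exact h
      · exact absurd h (hpos' φ).ne'
    have hfull : ∀ g, symSq χ g = 1 + (Z : G → ℂ) g + (Y : G → ℂ) g := by
      intro g
      rw [hexp, ← Finset.add_sum_erase _ _ (Finset.mem_univ T), ← Finset.add_sum_erase _ _ hY,
        ← Finset.add_sum_erase _ _ hZ, Finset.sum_eq_zero (fun φ hφ => by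
          rw [hnone φ hφ, Nat.cast_zero, zero_mul]), haT, haY, haZ]
      simp only [T, Nat.cast_one, one_mul, add_zero]
      ring
    have hMY : M Y = 0 := by
      have h := Finset.add_sum_erase _ (fun ψ => a ψ * M ψ) hY
      have h' := Finset.single_le_sum (f := fun ψ => a ψ * M ψ) (fun _ _ => Nat.zero_le _) hZ
      rw [hmeanSum, haY, one_mul] at h
      rw [haZ, hM1 Z (Or.inl hfZ)] at h'
      omega
    -- the new character is real
    let Z' : Cfsg.IrrCharacter G := ⟨fun g => conj ((Z : G → ℂ) g), CharInduce.IsIrr.conj Z.2⟩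
    have hZ'1 : (Z' : G → ℂ) 1 = ((11 : ℕ) : ℂ) := by
      change conj ((Z : G → ℂ) 1) = _
      rw [hf Z, hfZ, Complex.conj_natCast]
    have hS1 : symSq χ = fun g => 1 + (Z : G → ℂ) g + (Y : G → ℂ) g := funext hfull
    have hcoef : a Z' = a Z := by
      have h : (a Z' : ℂ) = conj (a Z : ℂ) := by
        rw [← ha Z', ← ha Z, Cfsg.classInner, Cfsg.classInner, map_mul, map_inv₀,
          Complex.conj_natCast, map_sum]
        congr 1
        refine Finset.sum_congr rfl fun g _ => ?_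
        have hsr : conj (symSq χ g) = symSq χ g := by
          simp only [symSq, map_div₀, map_add, map_pow, hreal', map_ofNat]
        simp [Z', hsr]
      rw [Complex.conj_natCast] at h
      exact_mod_cast h
    have hZZ : Z' = Z := by
      by_contra hne
      have hZ'T : Z' ≠ T := fun e => by
        rw [e] at hZ'1
        norm_num [T] at hZ'1
      have hZ'Y : Z' ≠ Y := fun e => by
        rw [e, hf Y, hY54] at hZ'1
        norm_num at hZ'1
      have := hnone Z' (Finset.mem_erase.2 ⟨hne, Finset.mem_erase.2 ⟨hZ'Y, Finset.mem_erase.2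
        ⟨hZ'T, Finset.mem_univ _⟩⟩⟩)
      omega
    refine ⟨(Z : G → ℂ), ⟨Z.2, by rw [hf Z, hfZ]; norm_num, fun g => ?_⟩, (Y : G → ℂ),
      CharBasic.IsIrr.isCharacter Y.2, by rw [hM Y, hMY, Nat.cast_zero], hfull⟩
    exact Complex.conj_eq_iff_im.1 (congrFun (congrArg Subtype.val hZZ) g)
  · exact absurd e (h16 Y hY hYpos)

/-- A real character of degree eleven gives a subgroup of index twelve. -/
theorem exists_index_twelve_of_eleven [IsSimpleGroup G] (hn : Nat.card G = 95040)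
    (hB : DegreeList G) {χ₀ : G → ℂ} (hχ₀ : Cfsg.IsIrrCharacter G χ₀) (hd₀ : χ₀ 1 = 11)
    (hreal₀ : ∀ g, (χ₀ g).im = 0) : ∃ S : Subgroup G, S.index = 12 := by
  classical
  haveI : Fact (Nat.Prime 11) := ⟨by norm_num⟩
  obtain ⟨Q⟩ := Sylow.nonempty (p := 11) (G := G)
  obtain ⟨h1728, hC⟩ := sylow_eleven_data hn Q
  have hP : Nat.card (Q : Subgroup G) = 11 := by
    simpa using H36.card_sylow_eq hn Q (a := 1) (m := 8640) (by norm_num) (by norm_num)
  set P := (Q : Subgroup G) with hPdef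
  set N := Subgroup.normalizer (P : Set G) with hNdef
  have hNc : Nat.card N = 55 := by
    have h := H36.card_sylow_mul_normalizer Q
    rw [h1728, hn, ← hPdef, ← hNdef] at h
    omega
  have hPN : P ≤ N := Subgroup.le_normalizer
  have hord := order_of_mem_normalizer hn Q hP hC hNc
  have hnorm : ∀ n ∈ N, ∀ o, o ∈ P ↔ n * o * n⁻¹ ∈ P := fun n hn' =>
    Subgroup.mem_normalizer_iff.1 hn'
  have hmean : ∀ ψ : Cfsg.IrrCharacter G, ((ψ : G → ℂ) 1 = ((11 : ℕ) : ℂ) ∨
      (ψ : G → ℂ) 1 = ((16 : ℕ) : ℂ)) → cosetMean N (ψ : G → ℂ) 1 = 1 := fun ψ h =>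
    cosetMean_eq_one (CharBasic.IsIrr.isCharacter ψ.2) P N hPN hnorm hord
      (cosetMean_sylow hB P hP ψ h)
  have hy : ∀ ψ : G → ℂ, Cfsg.IsIrrCharacter G ψ → ψ 1 = 11 → ∀ g : G, orderOf g = 5 → ψ g = 1 := by
    intro ψ hψ hd g hg
    exact value_five hn hB Q hP hC h1728 hψ hd hg
  refine exists_index_twelve hn N hNc
    {χ | Cfsg.IsIrrCharacter G χ ∧ χ 1 = 11 ∧ ∀ g, (χ g).im = 0} ⟨χ₀, hχ₀, hd₀, hreal₀⟩ ?_
  rintro χ ⟨hχ, hd, hr⟩
  refine ⟨hχ, hd, hr, hmean ⟨χ, hχ⟩ (Or.inl (by rw [Nat.cast_ofNat]; exact hd)), ?_⟩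
  exact symSq_decomp hn hB P N hP hmean (fun n => (em ((n : G) ∈ P)).imp id fun h =>
    (hord n n.2 h).1) hy hPN hNc hχ hd hr

end Cfsg.Agent.H79.MTwelve
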