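import Cfsg.Agent.H28.M12.Columns
import Cfsg.Agent.H79.MTwelve.SymSquare
import Cfsg.Agent.H36.SelfCentral

/-!
# The list of degrees from the principal eleven-block
-/

set_option autoImplicit false
set_option linter.unusedSectionVars false

namespace Cfsg.Agent.H79.MTwelve

open scoped ComplexConjugate
open Cfsg.Agent.CharBasic H28.M12

universe u

variable {G : Type u} [Group G] [Fintype G]

/-- What the block data say about an arbitrary character. -/
theorem kind_of_columns {w s t : G} (h : Columns G w s t) :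
    ∃ c : Fin 6 → Cfsg.IrrCharacter G, Function.Injective c ∧
      (∀ i, (c i : G → ℂ) 1 = blockDeg i) ∧
      (∀ i, (c i : G → ℂ) w = (![-3, 6, -8, 0, 0, 0] i : ℤ)) ∧
      (∀ x : G, orderOf x = 11 →
        (∀ i : Fin 4, (c i.castSucc.castSucc : G → ℂ) x = blockSign i) ∧
          (c 4 : G → ℂ) x + (c 5 : G → ℂ) x = -1) ∧
      ∀ (χ : Cfsg.IrrCharacter G) (d : ℕ), (χ : G → ℂ) 1 = d → d ≠ 1 →
        (∃ i, χ = c i) ∨ (11 ∣ d ∧ ∀ x : G, orderOf x = 11 → (χ : G → ℂ) x = 0) := by
  obtain ⟨c, η, hinj, -, hdeg, hwv, -, hx, -, hother⟩ := h.chars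
  refine ⟨c, hinj, hdeg, hwv, hx, fun χ d hd hd1 => ?_⟩
  by_cases hi : ∀ i, χ ≠ c i
  · obtain ⟨⟨m, hm⟩, hvan⟩ := hother χ hi (by rw [hd]; exact_mod_cast hd1)
    rw [hd] at hm
    exact Or.inr ⟨⟨m, by exact_mod_cast hm⟩, hvan⟩
  · push Not at hi
    exact Or.inl hi

/-- The block data give the numbers of characters and the column. -/
theorem data_of_columns {w s t : G} (h : Columns G w s t) (i : Fin 6) :
    (∀ ψ : Cfsg.IrrCharacter G, (ψ : G → ℂ) 1 = (blockDeg i : ℂ) →
      (ψ : G → ℂ) w = (![-3, 6, -8, 0, 0, 0] i : ℤ)) ∧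
    Nat.card {ψ : Cfsg.IrrCharacter G // (ψ : G → ℂ) 1 = (blockDeg i : ℂ)} =
      (Finset.univ.filter fun j => blockDeg j = blockDeg i).card := by
  classical
  obtain ⟨c, hinj, hdeg, hwv, -, hkind⟩ := kind_of_columns h
  have hb : ∀ j : Fin 6, blockDeg j ≠ 1 ∧ ¬ 11 ∣ blockDeg j := by decide
  have hall : ∀ ψ : Cfsg.IrrCharacter G, (ψ : G → ℂ) 1 = (blockDeg i : ℂ) →
      ∃ j, ψ = c j ∧ blockDeg j = blockDeg i := fun ψ hψ => by
    rcases hkind ψ _ hψ (hb i).1 with ⟨j, rfl⟩ | ⟨hdvd, -⟩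
    · rw [hdeg j] at hψ
      exact ⟨j, rfl, by exact_mod_cast hψ⟩
    · exact absurd hdvd (hb i).2
  refine ⟨fun ψ hψ => ?_, ?_⟩
  · obtain ⟨j, rfl, hj⟩ := hall ψ hψ
    rw [hwv j]
    have key : ∀ j i : Fin 6, blockDeg j = blockDeg i →
        (![-3, 6, -8, 0, 0, 0] j : ℤ) = ![-3, 6, -8, 0, 0, 0] i := by decide
    exact_mod_cast key j i hj
  · rw [Nat.card_eq_fintype_card, Fintype.card_subtype, ← Finset.card_image_of_injective _ hinj]
    congr 1
    ext ψ
    simp only [Finset.mem_filter, Finset.mem_univ, true_and, Finset.mem_image]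
    refine ⟨fun hψ => ?_, ?_⟩
    · obtain ⟨j, rfl, hj⟩ := hall ψ hψ
      exact ⟨j, hj, rfl⟩
    · rintro ⟨j, hj, rfl⟩
      rw [hdeg j, hj]

/-- The two characters of degree sixteen are complex conjugate, so the block gives the list. -/
theorem degreeList_of_columns [IsSimpleGroup G] (hn : Nat.card G = 95040) {w s t : G}
    (h : Columns G w s t) (hC11 : ∀ x : G, orderOf x = 11 →
      Nat.card (Subgroup.centralizer ({x} : Set G)) = 11) : DegreeList G := by
  classical
  obtain ⟨c, hinj, hdeg, -, hx, hkind⟩ := kind_of_columns h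
  have hG : ¬ IsMulCommutative G := H36.not_comm_of_simple (by rw [hn]; norm_num)
  intro χ hχ1 x hxo
  obtain ⟨d, -, hd⟩ := IsIrr.exists_degree χ.2
  rcases hkind χ d hd (fun e => hχ1 (by rw [hd, e, Nat.cast_one])) with ⟨i, hi⟩ | ⟨⟨m, hm⟩, hvan⟩
  swap
  · exact Or.inl ⟨hvan x hxo, m, by rw [hd, hm]⟩
  subst hi
  obtain ⟨hfour, hpair⟩ := hx x hxo
  -- the two exceptional characters are conjugate
  have hconj : ∀ j k : Fin 6, blockDeg j = 16 → blockDeg k = 16 → j ≠ k →
      conj ((c j : G → ℂ) x) = (c k : G → ℂ) x := by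
    intro j k hj hk hjk
    let bar : Cfsg.IrrCharacter G := ⟨fun g => conj ((c j : G → ℂ) g), CharInduce.IsIrr.conj (c j).2⟩
    have hbd : (bar : G → ℂ) 1 = (16 : ℕ) := by
      change conj ((c j : G → ℂ) 1) = _
      rw [hdeg j, hj, Complex.conj_natCast]
    rcases hkind bar 16 hbd (by norm_num) with ⟨l, hl⟩ | ⟨hdvd, -⟩
    swap
    · exact absurd hdvd (by norm_num)
    have hl16 : blockDeg l = 16 := by
      rw [hl, hdeg l] at hbd; exact_mod_cast hbd
    have key : ∀ j k l : Fin 6, blockDeg j = 16 → blockDeg k = 16 → blockDeg l = 16 → j ≠ k →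
        l = j ∨ l = k := by decide
    rcases key j k l hj hk hl16 hjk with rfl | rfl
    swap
    · exact congrFun (congrArg Subtype.val hl) x
    -- a real pair contradicts the column of `x`
    exfalso
    have hjk' : (c l : G → ℂ) x + (c k : G → ℂ) x = -1 := by
      have key : ∀ j k : Fin 6, blockDeg j = 16 → blockDeg k = 16 → j ≠ k →
          (j = 4 ∧ k = 5) ∨ (j = 5 ∧ k = 4) := by decide
      rcases key l k hj hk hjk with ⟨rfl, rfl⟩ | ⟨rfl, rfl⟩
      · exact hpair
      · rw [add_comm]; exact hpair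
    have hreal : conj ((c l : G → ℂ) x) = (c l : G → ℂ) x := congrFun (congrArg Subtype.val hl) x
    let F : Cfsg.IrrCharacter G → ℂ := fun ψ => (ψ : G → ℂ) x * conj ((ψ : G → ℂ) x)
    let T : Cfsg.IrrCharacter G := ⟨fun _ => (1 : ℂ), isIrrCharacter_one⟩
    have h11 := second_orthogonality_self (G := G) x
    rw [hC11 x hxo] at h11
    change ∑ ψ, F ψ = _ at h11
    have hT : ∀ i, c i ≠ T := fun i e => by
      have hc := hdeg i
      rw [e] at hc
      have hc' : ((1 : ℕ) : ℂ) = (blockDeg i : ℂ) := Nat.cast_one.trans hc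
      have key : ∀ i : Fin 6, blockDeg i ≠ 1 := by decide
      exact key i (by exact_mod_cast hc'.symm)
    rw [← Finset.sum_subset (s₁ := insert T (Finset.univ.image c)) (Finset.subset_univ _)
      (fun ψ _ hψ => ?_), Finset.sum_insert (by
        simp only [Finset.mem_image, Finset.mem_univ, true_and, not_exists]; exact hT),
      Finset.sum_image (fun a _ b _ e => hinj e)] at h11
    swap
    · simp only [Finset.mem_insert, Finset.mem_image, Finset.mem_univ, true_and, not_or,
        not_exists] at hψ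
      obtain ⟨e, -, he⟩ := IsIrr.exists_degree ψ.2
      have he1 : e ≠ 1 := fun e1 => by
        obtain ⟨d', hd2, hd', -⟩ := H36.SelfCentral.exists_degree_two_le hG (χ := ψ)
          (fun q => hψ.1 (q.trans (Subtype.ext rfl)))
        rw [he, e1] at hd'
        have : (1 : ℕ) = d' := by exact_mod_cast hd'
        omega
      rcases hkind ψ e he he1 with ⟨i, hi⟩ | ⟨-, hv⟩
      · exact absurd hi.symm (hψ.2 i)
      · simp only [F, hv x hxo, zero_mul]
    have hFT : F T = 1 := by
      show (1 : ℂ) * conj (1 : ℂ) = 1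
      rw [map_one, one_mul]
    have hF4 : ∀ i : Fin 4, F (c i.castSucc.castSucc) = 1 := fun i => by
      simp only [F, hfour i, map_intCast]
      fin_cases i <;> norm_num [blockSign]
    simp only [Fin.sum_univ_six] at h11
    have e0 := hF4 0
    have e1 := hF4 1
    have e2 := hF4 2
    have e3 := hF4 3
    simp only [Fin.castSucc_zero, show ((1 : Fin 4).castSucc.castSucc : Fin 6) = 1 from rfl,
      show ((2 : Fin 4).castSucc.castSucc : Fin 6) = 2 from rfl,
      show ((3 : Fin 4).castSucc.castSucc : Fin 6) = 3 from rfl] at e0 e1 e2 e3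
    rw [hFT, e0, e1, e2, e3] at h11
    have hsum : F (c 4) + F (c 5) = 6 := by linear_combination h11
    set z := (c l : G → ℂ) x with hz
    have hzint : IsIntegral ℤ z := IsChar.isIntegral (IsIrr.isCharacter (c l).2) x
    have hck : (c k : G → ℂ) x = -1 - z := by linear_combination hjk'
    have hzz : z * z + (-1 - z) * (-1 - z) = 6 := by
      have key : ∀ j k : Fin 6, blockDeg j = 16 → blockDeg k = 16 → j ≠ k →
          (j = 4 ∧ k = 5) ∨ (j = 5 ∧ k = 4) := by decide
      have hFl : F (c l) = z * z := by simp only [F]; rw [← hz, hreal]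
      have hFk : F (c k) = (-1 - z) * (-1 - z) := by
        simp only [F]; rw [hck, map_sub, map_neg, map_one, hreal]
      rcases key l k hj hk hjk with ⟨rfl, rfl⟩ | ⟨rfl, rfl⟩
      · rw [← hFl, ← hFk]; exact hsum
      · rw [← hFl, ← hFk, add_comm]; exact hsum
    -- `z * z + z` would be the integral rational number `5 / 2`
    have hhalf : z * z + z = ((5 / 2 : ℚ) : ℂ) := by push_cast; linear_combination hzz / 2
    have hint := (hzint.mul hzint).add hzint
    rw [hhalf, show ((5 / 2 : ℚ) : ℂ) = algebraMap ℚ ℂ (5 / 2) by simp] at hint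
    obtain ⟨q, hq⟩ := IsIntegrallyClosed.algebraMap_eq_of_integral (R := ℤ)
      ((isIntegral_algebraMap_iff (algebraMap ℚ ℂ).injective).1 hint)
    rw [eq_intCast] at hq
    have h2 : ((2 * q : ℤ) : ℚ) = ((5 : ℤ) : ℚ) := by push_cast; rw [hq]; norm_num
    have h3 : 2 * q = 5 := Int.cast_injective h2
    omega
  fin_cases i
  · exact Or.inr (Or.inl ⟨by simp [hdeg, blockDeg],
      by simpa [blockSign] using hfour 0⟩)
  · exact Or.inr (Or.inr (Or.inl ⟨by simp [hdeg, blockDeg],
      by simpa [blockSign] using hfour 1⟩))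
  · exact Or.inr (Or.inr (Or.inr (Or.inl ⟨by simp [hdeg, blockDeg],
      by simpa [blockSign] using hfour 2⟩)))
  · exact Or.inr (Or.inr (Or.inr (Or.inr (Or.inl ⟨by simp [hdeg, blockDeg],
      by simpa [blockSign] using hfour 3⟩))))
  · refine Or.inr (Or.inr (Or.inr (Or.inr (Or.inr ⟨by simp [hdeg, blockDeg], ?_⟩))))
    show (c 4 : G → ℂ) x + conj ((c 4 : G → ℂ) x) = -1
    rw [hconj 4 5 rfl rfl (by decide)]
    exact hpair
  · refine Or.inr (Or.inr (Or.inr (Or.inr (Or.inr ⟨by simp [hdeg, blockDeg], ?_⟩))))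
    show (c 5 : G → ℂ) x + conj ((c 5 : G → ℂ) x) = -1
    rw [hconj 5 4 rfl rfl (by decide), add_comm]
    exact hpair

end Cfsg.Agent.H79.MTwelve
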