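import Cfsg.Agent.H79.MTwelve.Section
import Cfsg.Agent.H84.TwoDegreesPrime
import Cfsg.Agent.CharBasic.Integral
import Cfsg.Agent.H80.RealOddTools
import Cfsg.Agent.S0887
import Cfsg.Agent.S0188
import Cfsg.Agent.S0420
import Cfsg.Agent.S2034
import Cfsg.Agent.S2060
import Cfsg.Agent.Perm.M11Degrees
import Mathlib.GroupTheory.SpecificGroups.Alternating

/-!
# The sections of orders 660 and 7920
-/

set_option autoImplicit false
set_option linter.unusedSectionVars false
set_option linter.style.haveILetI false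

open Subgroup Cfsg

namespace Cfsg.Agent.H79.MTwelve

universe u

variable {G : Type u} [Group G] [Finite G]

/-- With a section of order `660`, no degree is divisible by `55`. -/
theorem false_660 (hn : Nat.card G = 95040) (E : Subgroup G) [E.Normal] (N : Subgroup E) [N.Normal]
    (hN : N ≤ center E) (hQ : Nat.card (E ⧸ N) = 660)
    (h : ∃ d ∈ charDegrees G, 55 ∣ d) : False := by
  classical
  obtain ⟨d, ⟨χ, hχ⟩, hd⟩ := h
  haveI := Fintype.ofFinite G
  haveI := Fintype.ofFinite E
  obtain ⟨θ, hθ⟩ := H80.RealOdd.exists_constituent_res (W := E) χ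
  obtain ⟨hdvd, hratio⟩ := Cfsg.Agent.S0887.result E _ χ.2 _ θ.2 hθ d
    (charDegree (θ : E → ℂ)) (by rw [Linear.SLDegrees.one_eq_charDegree, hχ])
    (Linear.SLDegrees.one_eq_charDegree θ)
  set b := charDegree (θ : E → ℂ)
  have hidx : E.index ∣ 144 := by
    have h1 := E.card_mul_index
    rw [hn, card_eq_card_quotient_mul_card_subgroup N, hQ] at h1
    refine Nat.dvd_of_mul_dvd_mul_left (k := 660) (by norm_num) ⟨Nat.card N, ?_⟩
    rw [show 660 * 144 = 95040 by norm_num, ← h1]; ring
  have hb : 55 ∣ b := by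
    have hmul : d / b * b = d := Nat.div_mul_cancel hdvd
    refine Nat.Coprime.dvd_of_dvd_mul_left ?_ (hmul.symm ▸ hd : 55 ∣ d / b * b)
    exact Nat.Coprime.coprime_dvd_right (hratio.trans hidx) (by norm_num)
  obtain ⟨e, he, heq, -, -⟩ := CharBasic.IsIrr.degree_dvd θ.2
  have hb0 : 0 < b := by
    rw [show b = e from Linear.SLDegrees.charDegree_eq heq]; exact he
  have h1 := H84.charDegree_sq_le_index_center θ
  have h2 : (center E).index ≤ N.index :=
    Nat.le_of_dvd (Nat.pos_of_ne_zero index_ne_zero_of_finite) (index_dvd_of_le hN)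
  rw [show N.index = 660 from (index_eq_card N).trans hQ] at h2
  have h3 : 55 ^ 2 ≤ b ^ 2 := Nat.pow_le_pow_left (Nat.le_of_dvd hb0 hb) 2
  have := (h3.trans h1).trans h2
  norm_num at this

/-- A perfect central extension of a simple group of order `7920` is that group. -/
theorem nonempty_equiv_M11 (E : Type u) [Group E] [Finite E] (hperf : commutator E = ⊤)
    (N : Subgroup E) [N.Normal] (hN : N ≤ center E) [IsSimpleGroup (E ⧸ N)]
    (hQ : Nat.card (E ⧸ N) = 7920) : Nonempty (E ≃* ↥Cfsg.Spor.M11) := by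
  obtain ⟨e⟩ := H69.M11.nonempty_mulEquiv (G := E ⧸ N) ⟨inferInstance, hQ⟩ Golay.isM11_spor
  let eS : Shrink.{0} E ≃* E := Shrink.mulEquiv
  let σ : Shrink.{0} E →* ↥Cfsg.Spor.M11 :=
    (e.toMonoidHom.comp (QuotientGroup.mk' N)).comp eS.toMonoidHom
  have hσ : IsStemExtension σ := by
    refine ⟨fun y => ?_, fun x hx => ?_, ?_⟩
    · obtain ⟨q, hq⟩ := QuotientGroup.mk'_surjective N (e.symm y)
      exact ⟨eS.symm q, by simp [σ, ← QuotientGroup.mk'_apply, hq]⟩
    · have hx' : eS x ∈ N := (QuotientGroup.eq_one_iff _).1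
        (e.injective ((show σ x = 1 from hx).trans e.map_one.symm))
      rw [mem_center_iff]
      intro g
      apply eS.injective
      rw [map_mul, map_mul]
      exact mem_center_iff.1 (hN hx') _
    · intro x _
      have h := Subgroup.mem_top (eS x)
      rw [← hperf] at h
      have h2 := Subgroup.mem_map_of_mem eS.symm.toMonoidHom h
      rw [_root_.commutator_def, Subgroup.map_commutator, Subgroup.map_top_of_surjective _
        eS.symm.surjective, ← _root_.commutator_def] at h2
      simpa using h2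
  obtain ⟨π, hπ⟩ := Cfsg.Agent.S2034.result.2 (Shrink.{0} E) σ hσ
  have hker : σ.ker = ⊥ := by
    rw [eq_bot_iff]
    intro x hx
    obtain ⟨a, ha⟩ := hπ ⟨x, hx⟩
    rw [show a = 1 from Subsingleton.elim _ _, map_one] at ha
    exact mem_bot.2 (congrArg Subtype.val ha).symm
  exact ⟨eS.symm.trans
    (MulEquiv.ofBijective σ ⟨(MonoidHom.ker_eq_bot_iff σ).1 hker, hσ.1⟩)⟩

/-- A group of order twelve with a character of degree three is the alternating group. -/
theorem nonempty_altFour (C : Type u) [Group C] [Finite C] (hC : Nat.card C = 12)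
    (h3 : 3 ∈ charDegrees C) : Nonempty (C ≃* alternatingGroup (Fin 4)) := by
  classical
  haveI : Fact (Nat.Prime 3) := ⟨Nat.prime_three⟩
  have hne : Nat.card (Sylow 3 C) ≠ 1 := fun h => by
    refine DegGraphSmall.not_vertex_of_sylow_unique (hC ▸ by norm_num) (by rw [hC]; norm_num) h
      ⟨Nat.prime_three, 3, h3, dvd_rfl⟩
  obtain ⟨hd, hmod⟩ := H36.card_sylow_dvd (p := 3) hC (a := 1) (m := 4) (by norm_num) (by norm_num)
  have h4 : Nat.card (Sylow 3 C) = 4 := by
    have := Nat.le_of_dvd (by norm_num) hd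
    interval_cases h : Nat.card (Sylow 3 C) <;> omega
  haveI := Fintype.ofFinite (Sylow 3 C)
  let f : C →* Equiv.Perm (Sylow 3 C) := MulAction.toPermHom C (Sylow 3 C)
  obtain ⟨P⟩ := Sylow.nonempty (p := 3) (G := C)
  have hP : Nat.card (P : Subgroup C) = 3 := by
    simpa using H36.card_sylow_eq hC P (a := 1) (m := 4) (by norm_num) (by norm_num)
  have hN : normalizer ((P : Subgroup C) : Set C) = (P : Subgroup C) := by
    have h := H36.card_sylow_mul_normalizer P
    rw [h4, hC] at h
    exact (eq_of_le_of_card_ge le_normalizer (by rw [hP]; omega)).symm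
  have hker : f.ker = ⊥ := by
    have hle : f.ker ≤ (P : Subgroup C) := by
      intro x hx
      rw [← hN]
      refine Sylow.smul_eq_iff_mem_normalizer.1 ?_
      exact congrArg (fun σ : Equiv.Perm (Sylow 3 C) => σ P) hx
    haveI : Fact (Nat.card (P : Subgroup C)).Prime := ⟨by rw [hP]; exact Nat.prime_three⟩
    rcases (f.ker.subgroupOf (P : Subgroup C)).eq_bot_or_eq_top_of_prime_card with h | h
    · rwa [subgroupOf_eq_bot, disjoint_iff, inf_eq_left.2 hle] at h
    · exfalso
      have hPk : (P : Subgroup C) = f.ker := le_antisymm (subgroupOf_eq_top.1 h) hle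
      haveI : (P : Subgroup C).Normal := hPk ▸ inferInstance
      haveI := Sylow.unique_of_normal P inferInstance
      exact hne Nat.card_unique
  have hinj : Function.Injective f := (MonoidHom.ker_eq_bot_iff f).1 hker
  let eS : Sylow 3 C ≃ Fin 4 := Finite.equivFinOfCardEq h4
  let g : C →* Equiv.Perm (Fin 4) := eS.permCongrHom.toMonoidHom.comp f
  have hg : Function.Injective g := eS.permCongrHom.injective.comp hinj
  have hidx : g.range.index = 2 := by
    have h := g.range.index_mul_card
    rw [← Nat.card_congr (MonoidHom.ofInjective hg).toEquiv, hC, Nat.card_perm,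
      Nat.card_eq_fintype_card, Fintype.card_fin, show Nat.factorial 4 = 24 from rfl] at h
    omega
  exact ⟨(MonoidHom.ofInjective hg).trans
    (MulEquiv.subgroupCongr (Equiv.Perm.eq_alternatingGroup_of_index_eq_two hidx))⟩

/-- With a section of order `7920` and a degree divisible by `33`, the group is `A₄ × M₁₁`. -/
theorem nonempty_prod (hn : Nat.card G = 95040) (E : Subgroup G) [E.Normal]
    (e : E ≃* ↥Cfsg.Spor.M11) (h33 : ∃ d ∈ charDegrees G, 33 ∣ d) :
    Nonempty (G ≃* alternatingGroup (Fin 4) × ↥Cfsg.Spor.M11) := by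
  classical
  haveI : Finite ↥Cfsg.Spor.M11 := Finite.of_equiv _ e.toEquiv
  haveI : IsSimpleGroup ↥Cfsg.Spor.M11 := Golay.isSimpleGroup_spor_M11
  haveI : Nontrivial E := e.toEquiv.nontrivial
  haveI : IsSimpleGroup E := IsSimpleGroup.isSimpleGroup_of_surjective e.symm.toMonoidHom
    e.symm.surjective
  have hEcard : Nat.card E = 7920 := (Nat.card_congr e.toEquiv).trans Golay.card_spor_M11
  have hna : ¬ IsMulCommutative E := fun h => by
    haveI := h
    letI : CommGroup E := { (inferInstance : Group E) with mul_comm := h.is_comm.comm }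
    have := IsSimpleGroup.prime_card (α := E)
    rw [hEcard] at this
    norm_num at this
  set C := centralizer (E : Set G) with hCdef
  haveI : C.Normal := inferInstance
  have hdis : Disjoint E C := by
    rw [disjoint_def]
    intro x hxE hxC
    have hz : (⟨x, hxE⟩ : E) ∈ center E := mem_center_iff.2 fun g =>
      Subtype.ext (mem_centralizer_iff.1 hxC g g.2)
    rw [H36.center_eq_bot_of_simple hna, mem_bot] at hz
    exact congrArg Subtype.val hz
  have hinn : ∀ σ : MulAut E, ∃ y : E, MulAut.conj y = σ := by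
    intro σ
    have h1 : (Inn ↥Cfsg.Spor.M11) = ⊤ := index_eq_one.1 (by
      rw [index_eq_card]; exact Cfsg.Agent.S2060.result)
    have h2 : (e.symm.trans σ).trans e ∈ Inn ↥Cfsg.Spor.M11 := h1 ▸ mem_top _
    obtain ⟨z, hz⟩ := h2
    refine ⟨e.symm z, ?_⟩
    ext x
    have h3 := congrArg (fun τ : MulAut ↥Cfsg.Spor.M11 => e.symm (τ (e x))) hz
    simp [MulAut.conj_apply] at h3
    simp [MulAut.conj_apply, h3]
  have hcover : E ⊔ C = ⊤ := by
    rw [eq_top_iff]
    intro g _
    obtain ⟨y, hy⟩ := hinn (MulAut.conjNormal g)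
    have hyg : (y : G)⁻¹ * g ∈ C := by
      rw [hCdef, mem_centralizer_iff]
      intro x hx
      have h := congrArg (fun τ : MulAut E => ((τ ⟨x, hx⟩ : E) : G)) hy
      simp [MulAut.conj_apply] at h
      calc x * ((y : G)⁻¹ * g) = (y : G)⁻¹ * ((y : G) * x * (y : G)⁻¹) * g := by group
        _ = (y : G)⁻¹ * (g * x * g⁻¹) * g := by rw [h]
        _ = (y : G)⁻¹ * g * x := by group
    rw [show g = (y : G) * ((y : G)⁻¹ * g) by group]
    exact mul_mem_sup y.2 hyg
  let m : E × C →* G := MonoidHom.noncommCoprod E.subtype C.subtype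
    fun x y => ((mem_centralizer_iff.1 y.2) x x.2)
  have hm : Function.Bijective m := by
    constructor
    · rw [← MonoidHom.ker_eq_bot_iff, eq_bot_iff]
      rintro ⟨x, y⟩ hxy
      have h1 : (x : G) * y = 1 := hxy
      have hxC : (x : G) ∈ C := by
        rw [eq_inv_of_mul_eq_one_left h1]; exact C.inv_mem y.2
      have hx1 := disjoint_def.1 hdis x.2 hxC
      rw [hx1, one_mul] at h1
      exact mem_bot.2 (Prod.ext (Subtype.ext hx1) (Subtype.ext h1))
    · intro g
      have hg : g ∈ E ⊔ C := hcover ▸ mem_top g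
      obtain ⟨x, hx, y, hy, rfl⟩ := mem_sup_of_normal_left.1 hg
      exact ⟨(⟨x, hx⟩, ⟨y, hy⟩), rfl⟩
  let em := MulEquiv.ofBijective m hm
  have hC : Nat.card C = 12 := by
    have h := Nat.card_congr em.toEquiv
    rw [Nat.card_prod, hEcard, hn] at h
    omega
  have h3 : 3 ∈ charDegrees C := by
    obtain ⟨d, hd, h33d⟩ := h33
    rw [← Linear.SLDegrees.charDegrees_congr em] at hd
    obtain ⟨χ, hχ⟩ := hd
    obtain ⟨φ, ψ, hφ, hψ, heq⟩ := (Cfsg.Agent.S0188.result _).1 χ.2
    set a := charDegree φ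
    set b := charDegree ψ
    have hab : d = a * b := by
      rw [← hχ]
      refine Linear.SLDegrees.charDegree_eq ?_
      rw [congrFun heq 1]
      show φ 1 * ψ 1 = _
      rw [show φ 1 = (a : ℂ) from Linear.SLDegrees.one_eq_charDegree ⟨φ, hφ⟩,
        show ψ 1 = (b : ℂ) from Linear.SLDegrees.one_eq_charDegree ⟨ψ, hψ⟩]
      push_cast; rfl
    have ha : a = 1 ∨ a = 11 ∨ a = 44 ∨ a = 45 ∨ a = 55 ∨ a = 10 ∨ a = 16 := by
      have h := (Perm.M11Degrees.degrees_of_isM11 (G := E)
        ⟨inferInstance, hEcard⟩).2 a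
      have hpos : 0 < Nat.card {χ : IrrCharacter E // charDegree (χ : E → ℂ) = a} := by
        haveI : Finite (IrrCharacter E) := CharBasic.finite_irrCharacter
        exact Nat.card_pos_iff.2 ⟨⟨⟨⟨φ, hφ⟩, rfl⟩⟩, inferInstance⟩
      rw [h] at hpos
      split_ifs at hpos with h1 h2 h3 <;> omega
    obtain ⟨k, hk, hkeq, hkd, -⟩ := CharBasic.IsIrr.degree_dvd hψ
    have hbk : b = k := Linear.SLDegrees.charDegree_eq hkeq
    haveI := Fintype.ofFinite C
    have hb2 : b ^ 2 ≤ 12 := hC ▸ (H84.charDegree_sq_le_index_center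
      (⟨ψ, hψ⟩ : IrrCharacter C)).trans (Nat.le_of_dvd Nat.card_pos (index_dvd_card _))
    have hb3 : b ≤ 3 := by nlinarith
    refine ⟨⟨ψ, hψ⟩, ?_⟩
    show b = 3
    rw [hab] at h33d
    rcases ha with h | h | h | h | h | h | h <;> rw [h] at h33d <;> interval_cases b <;>
      first | rfl | (exfalso; omega)
  obtain ⟨eC⟩ := nonempty_altFour C hC h3
  exact ⟨em.symm.trans ((MulEquiv.prodComm).trans (eC.prodCongr e))⟩

end Cfsg.Agent.H79.MTwelve
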