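import Cfsg.Agent.H79.MTwelve.Monomial
import Cfsg.Agent.H87.M12Upper
import Cfsg.Agent.H81.FourTransitive
import Cfsg.Agent.Golay.CodeFacts
import Cfsg.Agent.Linear.SLDegrees

/-!
# Irreducible characters of degree 55 and 66 of the dodecad group

The degree 66 is monomial: the stabiliser of a pair of points of the dodecad fixes a pair of octads
meeting the dodecad in that pair, and its linear character is the product of the two signs.
-/

set_option autoImplicit false
set_option linter.unusedSectionVars false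
set_option linter.style.haveILetI false

open scoped Pointwise
open Cfsg Cfsg.Agent.Golay MulAction Cfsg.Agent.H87

namespace Cfsg.Agent.H79.MTwelve

open Cfsg.Agent.H87.M12Upper

/-- The first octad on the base pair. -/
def octA : ℕ := 3719203

/-- The second octad on the base pair. -/
def octB : ℕ := 12717187

/-- The base pair. -/
def basePair : Finset GolayPt := {pt 0, pt 1}

theorem pair_octads : ∀ m ∈ octadList, m &&& squareMask = 3 → m = octA ∨ m = octB := by
  decide +kernel

theorem oct_facts : octA ∈ octadList ∧ octA &&& squareMask = 3 ∧ ptSet 3 = basePair ∧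
    ptSet (octA &&& squareMask) = ptSet octA ∩ ptSet squareMask ∧ squareMask.testBit 2 = true ∧
    squareMask.testBit 3 = true := by
  decide +kernel

/-- The stabiliser of the base pair. -/
def pairStab : Subgroup ↥Spor.M12 where
  carrier := {g | (g : Equiv.Perm GolayPt) • basePair = basePair}
  one_mem' := one_smul _ _
  mul_mem' := fun {a b} ha hb => by
    show ((a : Equiv.Perm GolayPt) * b) • basePair = basePair
    rw [mul_smul, show (b : Equiv.Perm GolayPt) • basePair = basePair from hb]; exact ha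
  inv_mem' := fun {a} ha => by
    show (a : Equiv.Perm GolayPt)⁻¹ • basePair = basePair
    rw [inv_smul_eq_iff]; exact (show (a : Equiv.Perm GolayPt) • basePair = basePair from ha).symm

theorem pairStab_cases (h : pairStab) :
    ((h.1 : Equiv.Perm GolayPt) (pt 0) = pt 0 ∧ (h.1 : Equiv.Perm GolayPt) (pt 1) = pt 1) ∨
      ((h.1 : Equiv.Perm GolayPt) (pt 0) = pt 1 ∧ (h.1 : Equiv.Perm GolayPt) (pt 1) = pt 0) := by
  have h0 : (h.1 : Equiv.Perm GolayPt) (pt 0) ∈ basePair := by
    rw [← (show (h.1 : Equiv.Perm GolayPt) • basePair = basePair from h.2)]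
    exact Finset.smul_mem_smul_finset (a := (h.1 : Equiv.Perm GolayPt)) (by simp [basePair])
  have h1 : (h.1 : Equiv.Perm GolayPt) (pt 1) ∈ basePair := by
    rw [← (show (h.1 : Equiv.Perm GolayPt) • basePair = basePair from h.2)]
    exact Finset.smul_mem_smul_finset (a := (h.1 : Equiv.Perm GolayPt)) (by simp [basePair])
  have hne : pt 0 ≠ pt 1 := by decide
  simp only [basePair, Finset.mem_insert, Finset.mem_singleton] at h0 h1
  have hinj := (h.1 : Equiv.Perm GolayPt).injective
  rcases h0 with a | a <;> rcases h1 with b | b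
  · exact absurd (hinj (a.trans b.symm)) hne
  · exact Or.inl ⟨a, b⟩
  · exact Or.inr ⟨a, b⟩
  · exact absurd (hinj (a.trans b.symm)) hne

theorem smul_octA (h : pairStab) :
    (h.1 : Equiv.Perm GolayPt) • ptSet octA = ptSet octA ∨
      (h.1 : Equiv.Perm GolayPt) • ptSet octA = ptSet octB := by
  obtain ⟨hmem, h3, hpair, hinter, -, -⟩ := oct_facts
  set σ := (h.1 : Equiv.Perm GolayPt)
  set s := σ • ptSet octA
  have hs : s ∈ octads := smul_mem_octads h.1.2.1 (ptSet_mem_octads hmem)
  have hsm := mem_octads_iff.1 hs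
  have hD : σ • Spor.squareDodecad = Spor.squareDodecad := h.1.2.2
  have hint : s ∩ Spor.squareDodecad = basePair := by
    have h1 : ptSet octA ∩ Spor.squareDodecad = basePair := by
      rw [← ptSet_squareMask, ← hinter, h3, hpair]
    rw [← hD, ← Finset.smul_finset_inter, h1]
    exact h.2
  have hm : maskOf s &&& squareMask = 3 := by
    refine ptSet_injOn ?_ (by norm_num) ?_
    · exact lt_of_le_of_lt Nat.and_le_left (octadList_lt hsm)
    · rw [hpair, ← hint]
      ext p
      rw [mem_ptSet, Nat.testBit_and, Finset.mem_inter, Bool.and_eq_true, ← mem_ptSet, ptSet_maskOf,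
        ← mem_ptSet, ptSet_squareMask]
  rcases pair_octads _ hsm hm with e | e
  · exact Or.inl (by rw [← e, ptSet_maskOf])
  · exact Or.inr (by rw [← e, ptSet_maskOf])

/-- The sign on the pair. -/
noncomputable def pairSign (h : pairStab) : ℂˣ :=
  if (h.1 : Equiv.Perm GolayPt) (pt 0) = pt 0 then 1 else -1

/-- The sign on the octads. -/
noncomputable def octSign (h : pairStab) : ℂˣ :=
  if (h.1 : Equiv.Perm GolayPt) • ptSet octA = ptSet octA then 1 else -1

theorem pairSign_mul (a b : pairStab) : pairSign (a * b) = pairSign a * pairSign b := by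
  have hne : pt 0 ≠ pt 1 := by decide
  have e : ((a * b).1 : Equiv.Perm GolayPt) (pt 0) =
      (a.1 : Equiv.Perm GolayPt) ((b.1 : Equiv.Perm GolayPt) (pt 0)) := rfl
  simp only [pairSign, e]
  rcases pairStab_cases a with ⟨a0, a1⟩ | ⟨a0, a1⟩ <;>
    rcases pairStab_cases b with ⟨b0, b1⟩ | ⟨b0, b1⟩ <;> simp [a0, a1, b0, hne, hne.symm]

theorem octSign_mul (a b : pairStab) : octSign (a * b) = octSign a * octSign b := by
  have hne : ptSet octB ≠ ptSet octA := fun h => by
    have := ptSet_injOn (by decide : octB < 2 ^ 24) (by decide : octA < 2 ^ 24) h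
    exact absurd this (by decide)
  have e : ((a * b).1 : Equiv.Perm GolayPt) • ptSet octA =
      (a.1 : Equiv.Perm GolayPt) • ((b.1 : Equiv.Perm GolayPt) • ptSet octA) := mul_smul _ _ _
  simp only [octSign, e]
  rcases smul_octA a with ha | ha <;> rcases smul_octA b with hb | hb
  · simp [ha, hb]
  · have h2 : (a.1 : Equiv.Perm GolayPt) • ptSet octB ≠ ptSet octA := fun h =>
      hne (MulAction.injective (a.1 : Equiv.Perm GolayPt) (h.trans ha.symm))
    simp [ha, hb, h2, hne]
  · simp [ha, hb, hne]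
  · have hA : (a.1 : Equiv.Perm GolayPt) • ptSet octB = ptSet octA := by
      rcases smul_octA (a * a) with h | h
      · rw [show ((a * a).1 : Equiv.Perm GolayPt) • ptSet octA =
          (a.1 : Equiv.Perm GolayPt) • ((a.1 : Equiv.Perm GolayPt) • ptSet octA) from mul_smul _ _ _,
          ha] at h
        exact h
      · rw [show ((a * a).1 : Equiv.Perm GolayPt) • ptSet octA =
          (a.1 : Equiv.Perm GolayPt) • ((a.1 : Equiv.Perm GolayPt) • ptSet octA) from mul_smul _ _ _,
          ha] at h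
        exact absurd (MulAction.injective (a.1 : Equiv.Perm GolayPt) (h.trans ha.symm)) hne
    simp [ha, hb, hA, hne]

/-- The linear character of the pair stabiliser. -/
noncomputable def lam : pairStab →* ℂˣ :=
  MonoidHom.mk' (fun h => pairSign h * octSign h) fun a b => by
    rw [pairSign_mul, octSign_mul, mul_mul_mul_comm]

/-- The tables `g`, `h`, `c` of a witness. -/
def wit : List (ℕ × ℕ × ℕ) :=
  [(487086286392676967016493688043259968, 719923664328491199848526586197411872,
      879499436078226358361012155886157856),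
    (923729050310043822216238150389549154, 969202056781860934635753244362607648,
      304619738774807640839382036961036289)]

theorem wit_check : ∀ w ∈ wit, inStab [squareMask] 0 w.1 = true ∧
    inStab [squareMask] 0 w.2.1 = true ∧ inStab [squareMask] 0 w.2.2 = true ∧
    tblMul w.2.1 w.1 = tblMul w.1 w.2.2 ∧
    (tblImg w.2.1 3 = 3 ∧ tblImg w.2.2 3 = 3) ∧
    ((app w.2.1 0 == 0) == (tblImg w.2.1 octA == octA)) = true ∧
    ((app w.2.2 0 == 0) == (tblImg w.2.2 octA == octA)) = false := by
  decide +kernel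

theorem lam_mkPerm {t : ℕ} (hv : validT t = true) {x : pairStab}
    (hx : (x.1 : Equiv.Perm GolayPt) = mkPerm t) :
    lam x = (if ((app t 0 == 0) == (tblImg t octA == octA)) = true then 1 else -1) := by
  have h1 : ((x.1 : Equiv.Perm GolayPt) (pt 0) = pt 0) ↔ app t 0 = 0 := by
    rw [hx, mkPerm_pt hv (by norm_num), pt_inj ((validT_bijective hv).2 0 (by norm_num)) (by norm_num)]
  have h2 : ((x.1 : Equiv.Perm GolayPt) • ptSet octA = ptSet octA) ↔ tblImg t octA = octA := by
    rw [hx, ← ptSet_tblImg hv]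
    refine ⟨fun h => ptSet_injOn ?_ (by decide) h, fun h => by rw [h]⟩
    refine Nat.lt_pow_two_of_testBit _ fun i hi => ?_
    by_contra hb
    obtain ⟨j, hj, -, rfl⟩ := (testBit_tblImg _ _ _).1 (Bool.eq_true_of_not_eq_false hb)
    have := (validT_bijective hv).2 j hj
    omega
  show pairSign x * octSign x = _
  simp only [pairSign, octSign, h1, h2]
  by_cases a : app t 0 = 0 <;> by_cases b : tblImg t octA = octA <;> simp [a, b]

theorem exists_witness (w : ℕ × ℕ × ℕ) (hw : w ∈ wit) :
    ∃ (g : ↥Spor.M12) (h c : pairStab), (g : Equiv.Perm GolayPt) = mkPerm w.1 ∧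
      (h : ↥Spor.M12) * g = g * c ∧ lam h = 1 ∧ lam c ≠ 1 := by
  obtain ⟨hg, hh, hc, heq, ⟨hh3, hc3⟩, hl1, hl2⟩ := wit_check w hw
  have vg : validT w.1 = true := validT_of_inStab hg
  have vh : validT w.2.1 = true := validT_of_inStab hh
  have vc : validT w.2.2 = true := validT_of_inStab hc
  have mg := mem_stabGrp_of_inStab hg
  have mh := mem_stabGrp_of_inStab hh
  have mc := mem_stabGrp_of_inStab hc
  rw [stabGrp_squareMask] at mg mh mc
  have hp : ∀ {t : ℕ}, validT t = true → tblImg t 3 = 3 → mkPerm t • basePair = basePair := by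
    intro t ht h3
    rw [← oct_facts.2.2.1, ← ptSet_tblImg ht, h3]
  refine ⟨⟨_, mg⟩, ⟨⟨_, mh⟩, hp vh hh3⟩, ⟨⟨_, mc⟩, hp vc hc3⟩, rfl, ?_, ?_, ?_⟩
  · refine Subtype.ext ?_
    show mkPerm w.2.1 * mkPerm w.1 = mkPerm w.1 * mkPerm w.2.2
    rw [← (tblMul_spec vh vg).2, ← (tblMul_spec vg vc).2, heq]
  · rw [lam_mkPerm vh rfl, if_pos hl1]
  · rw [lam_mkPerm vc rfl, if_neg (by rw [hl2]; exact Bool.false_ne_true)]
    intro h
    have := congrArg (fun u : ℂˣ => (u : ℂ)) h
    norm_num at this

theorem pts_mem : ∀ i : ℕ, i < 4 → pt i ∈ Spor.squareDodecad := by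
  intro i hi
  have h := oct_facts
  refine pt_mem (by omega) ?_
  interval_cases i
  · exact mask_facts.1
  · exact mask_facts.2
  · exact h.2.2.2.2.1
  · exact h.2.2.2.2.2

/-- A permutation taking four given points of the dodecad to four others. -/
theorem exists_map_four {x y z w : GolayPt} (hx : x ∈ Spor.squareDodecad) (hy : y ∈ Spor.squareDodecad)
    (hz : z ∈ Spor.squareDodecad) (hw : w ∈ Spor.squareDodecad) (hxy : x ≠ y) (hxz : x ≠ z)
    (hxw : x ≠ w) (hyz : y ≠ z) (hyw : y ≠ w) (hzw : z ≠ w) :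
    ∃ σ : ↥Spor.M12, (σ : Equiv.Perm GolayPt) (pt 0) = x ∧ (σ : Equiv.Perm GolayPt) (pt 1) = y ∧
      (σ : Equiv.Perm GolayPt) (pt 2) = z ∧ (σ : Equiv.Perm GolayPt) (pt 3) = w := by
  obtain ⟨e, hex, hey, hez, hew⟩ := five ⟨x, hx⟩ ⟨y, hy⟩ ⟨z, hz⟩ ⟨w, hw⟩
  have hex' : e.1 ≠ x := fun h => hex (Subtype.ext h)
  have hey' : e.1 ≠ y := fun h => hey (Subtype.ext h)
  have hez' : e.1 ≠ z := fun h => hez (Subtype.ext h)
  have hew' : e.1 ≠ w := fun h => hew (Subtype.ext h)
  have hinj : Function.Injective ![x, y, z, w, e.1] := by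
    intro i j hij
    fin_cases i <;> fin_cases j <;> simp at hij <;>
      first
        | rfl
        | exact absurd hij ‹_›
        | exact absurd hij.symm ‹_›
  obtain ⟨σ, hσ, h⟩ := exists_spor_M12_base ⟨![x, y, z, w, e.1], hinj⟩ fun i => by
    fin_cases i <;> first | exact hx | exact hy | exact hz | exact hw | exact e.2
  exact ⟨⟨σ, hσ⟩, h 0, h 1, h 2, h 3⟩

theorem apply_mem' (g : ↥Spor.M12) {p : GolayPt} (hp : p ∈ Spor.squareDodecad) :
    (g : Equiv.Perm GolayPt) p ∈ Spor.squareDodecad := apply_mem g hp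

theorem witness_of (g : ↥Spor.M12) (hg : g ∉ pairStab) :
    ∃ h c : pairStab, (h : ↥Spor.M12) * g = g * c ∧ lam h = 1 ∧ lam c ≠ 1 := by
  set x := (g : Equiv.Perm GolayPt) (pt 0)
  set y := (g : Equiv.Perm GolayPt) (pt 1)
  have hxy : x ≠ y := fun h => absurd ((g : Equiv.Perm GolayPt).injective h) (by decide)
  have hx := apply_mem' g (pts_mem 0 (by norm_num))
  have hy := apply_mem' g (pts_mem 1 (by norm_num))
  have hS : (g : Equiv.Perm GolayPt) • basePair = {x, y} := by
    simp [basePair, Finset.smul_finset_insert, x, y]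
  -- a representative and an element of the pair stabiliser moving its pair to that of `g`
  obtain ⟨w, hw, s, hs, hsS⟩ : ∃ w ∈ wit, ∃ s ∈ pairStab,
      ((s : ↥Spor.M12) : Equiv.Perm GolayPt) • (mkPerm w.1 • basePair) =
        (g : Equiv.Perm GolayPt) • basePair := by
    have hw1 : mkPerm (wit[0]'(by decide)).1 • basePair = {pt 0, pt 2} := by
      rw [← oct_facts.2.2.1, ← ptSet_tblImg (by decide +kernel : validT (wit[0]'(by decide)).1 = true)]
      decide +kernel
    have hw2 : mkPerm (wit[1]'(by decide)).1 • basePair = {pt 2, pt 3} := by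
      rw [← oct_facts.2.2.1, ← ptSet_tblImg (by decide +kernel : validT (wit[1]'(by decide)).1 = true)]
      decide +kernel
    have hne : pt 0 ≠ pt 1 := by decide
    have hstab : ∀ σ : ↥Spor.M12,
        ((σ : Equiv.Perm GolayPt) (pt 0) = pt 0 ∧ (σ : Equiv.Perm GolayPt) (pt 1) = pt 1) ∨
          ((σ : Equiv.Perm GolayPt) (pt 0) = pt 1 ∧ (σ : Equiv.Perm GolayPt) (pt 1) = pt 0) →
        σ ∈ pairStab := by
      intro σ h
      show (σ : Equiv.Perm GolayPt) • basePair = basePair
      rcases h with ⟨a, b⟩ | ⟨a, b⟩ <;>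
        simp [basePair, Finset.smul_finset_insert, a, b, Finset.pair_comm]
    have h0m := pts_mem 0 (by norm_num)
    have h1m := pts_mem 1 (by norm_num)
    -- one common point, or none
    have meet : ∀ a b : GolayPt, a ∈ basePair → b ∉ basePair → b ∈ Spor.squareDodecad →
        ∃ s ∈ pairStab, ((s : ↥Spor.M12) : Equiv.Perm GolayPt) • ({pt 0, pt 2} : Finset GolayPt) =
          {a, b} := by
      intro a b ha hb hbm
      simp only [basePair, Finset.mem_insert, Finset.mem_singleton, not_or] at ha hb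
      obtain ⟨d, hd0, hd1, hdb, -⟩ := five ⟨pt 0, h0m⟩ ⟨pt 1, h1m⟩ ⟨b, hbm⟩ ⟨pt 0, h0m⟩
      have hd0' : pt 0 ≠ d.1 := fun h => hd0 (Subtype.ext h.symm)
      have hd1' : pt 1 ≠ d.1 := fun h => hd1 (Subtype.ext h.symm)
      have hdb' : b ≠ d.1 := fun h => hdb (Subtype.ext h.symm)
      rcases ha with rfl | rfl
      · obtain ⟨σ, s0, s1, s2, -⟩ := exists_map_four h0m h1m hbm d.2 hne (Ne.symm hb.1) hd0'
          (Ne.symm hb.2) hd1' hdb'
        exact ⟨σ, hstab σ (Or.inl ⟨s0, s1⟩), by simp [Finset.smul_finset_insert, s0, s2]⟩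
      · obtain ⟨σ, s0, s1, s2, -⟩ := exists_map_four h1m h0m hbm d.2 hne.symm (Ne.symm hb.2) hd1'
          (Ne.symm hb.1) hd0' hdb'
        exact ⟨σ, hstab σ (Or.inr ⟨s0, s1⟩), by simp [Finset.smul_finset_insert, s0, s2]⟩
    by_cases hxP : x ∈ basePair
    · have hyP : y ∉ basePair := fun h => hg (show (g : Equiv.Perm GolayPt) • basePair = basePair by
        rw [hS]
        refine Finset.eq_of_subset_of_card_le (Finset.insert_subset hxP (Finset.singleton_subset_iff.2 h)) ?_
        rw [Finset.card_pair hxy, basePair, Finset.card_pair hne])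
      obtain ⟨s, hs, he⟩ := meet x y hxP hyP hy
      exact ⟨_, List.getElem_mem (show 0 < wit.length by decide), s, hs, by rw [hw1, he, hS]⟩
    by_cases hyP : y ∈ basePair
    · obtain ⟨s, hs, he⟩ := meet y x hyP hxP hx
      exact ⟨_, List.getElem_mem (show 0 < wit.length by decide), s, hs, by rw [hw1, he, hS, Finset.pair_comm]⟩
    simp only [basePair, Finset.mem_insert, Finset.mem_singleton, not_or] at hxP hyP
    obtain ⟨σ, s0, s1, s2, s3⟩ := exists_map_four h0m h1m hx hy hne (Ne.symm hxP.1)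
      (Ne.symm hyP.1) (Ne.symm hxP.2) (Ne.symm hyP.2) hxy
    exact ⟨_, List.getElem_mem (show 1 < wit.length by decide), σ, hstab σ (Or.inl ⟨s0, s1⟩), by
      rw [hw2, hS]; simp [Finset.smul_finset_insert, s2, s3, x, y]⟩
  obtain ⟨r, h, c, hr, hrel, hl, hlc⟩ := exists_witness w hw
  -- transport the witness along the double coset
  have hb : (s * r)⁻¹ * g ∈ pairStab := by
    show ((((s : ↥Spor.M12) : Equiv.Perm GolayPt) * (r : Equiv.Perm GolayPt))⁻¹ *
      (g : Equiv.Perm GolayPt)) • basePair = basePair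
    rw [mul_smul, inv_smul_eq_iff, mul_smul, hr, hsS]
  set a : pairStab := ⟨s, hs⟩
  set b : pairStab := ⟨_, hb⟩
  refine ⟨a * h * a⁻¹, b⁻¹ * c * b, ?_, ?_, ?_⟩
  · have hgb : g = (a : ↥Spor.M12) * r * (b : ↥Spor.M12) := by
      show g = s * r * ((s * r)⁻¹ * g)
      group
    rw [hgb]
    push_cast
    calc (a : ↥Spor.M12) * h * (a : ↥Spor.M12)⁻¹ * ((a : ↥Spor.M12) * r * b)
        = (a : ↥Spor.M12) * ((h : ↥Spor.M12) * r) * b := by group
      _ = (a : ↥Spor.M12) * (r * c) * b := by rw [hrel]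
      _ = (a : ↥Spor.M12) * r * b * ((b : ↥Spor.M12)⁻¹ * c * b) := by group
  · rw [map_mul, map_mul, map_inv, hl, mul_one, mul_inv_cancel]
  · rwa [map_mul, map_mul, map_inv, mul_right_comm, inv_mul_cancel, one_mul]

theorem index_pairStab : pairStab.index = 66 := by
  haveI : Finite ↥Spor.M12 := Nat.finite_of_card_ne_zero (by rw [card_spor_M12]; norm_num)
  have hstab : pairStab = stabilizer ↥Spor.M12 basePair := by
    ext g; exact Iff.rfl
  rw [hstab, index_stabilizer]
  have horb : orbit ↥Spor.M12 basePair = ↑(Spor.squareDodecad.powersetCard 2) := by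
    ext s
    rw [Finset.mem_coe, Finset.mem_powersetCard]
    constructor
    · rintro ⟨g, rfl⟩
      refine ⟨?_, ?_⟩
      · intro p hp
        obtain ⟨q, hq, rfl⟩ := Finset.mem_smul_finset.1 hp
        refine apply_mem' g ?_
        simp only [basePair, Finset.mem_insert, Finset.mem_singleton] at hq
        rcases hq with rfl | rfl
        · exact pts_mem 0 (by norm_num)
        · exact pts_mem 1 (by norm_num)
      · show ((g : Equiv.Perm GolayPt) • basePair).card = 2
        rw [Finset.card_smul_finset, basePair, Finset.card_pair (by decide)]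
    · rintro ⟨hs, hcard⟩
      obtain ⟨x, y, hxy, rfl⟩ := Finset.card_eq_two.1 hcard
      have hx := hs (Finset.mem_insert_self x _)
      have hy := hs (Finset.mem_insert_of_mem (Finset.mem_singleton_self y))
      obtain ⟨c, hcx, hcy, -, -⟩ := five ⟨x, hx⟩ ⟨y, hy⟩ ⟨x, hx⟩ ⟨y, hy⟩
      obtain ⟨d, hdx, hdy, hdc, -⟩ := five ⟨x, hx⟩ ⟨y, hy⟩ c ⟨x, hx⟩
      obtain ⟨σ, s0, s1, -, -⟩ := exists_map_four hx hy c.2 d.2 hxy
        (fun h => hcx (Subtype.ext h.symm)) (fun h => hdx (Subtype.ext h.symm))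
        (fun h => hcy (Subtype.ext h.symm)) (fun h => hdy (Subtype.ext h.symm))
        (fun h => hdc (Subtype.ext h.symm))
      exact ⟨σ, show (σ : Equiv.Perm GolayPt) • basePair = _ by
        simp [basePair, Finset.smul_finset_insert, s0, s1]⟩
  rw [horb, Set.ncard_coe_finset, Finset.card_powersetCard,
    show Spor.squareDodecad.card = 12 by rw [← ptSet_squareMask]; decide +kernel]
  rfl

theorem mem_degrees_66 : 66 ∈ charDegrees ↥Spor.M12 := by
  classical
  haveI : Finite ↥Spor.M12 := Nat.finite_of_card_ne_zero (by rw [card_spor_M12]; norm_num)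
  haveI := Fintype.ofFinite ↥Spor.M12
  haveI := Fintype.ofFinite pairStab
  refine ⟨⟨_, isIrr_indFun_of_witness pairStab lam witness_of⟩, Linear.SLDegrees.charDegree_eq ?_⟩
  show indFun pairStab (fun h => (lam h : ℂ)) 1 = _
  rw [CharInduce.indFun_one, index_pairStab, map_one, Units.val_one, mul_one]

theorem mem_degrees_55 : 55 ∈ charDegrees ↥Spor.M12 := by
  classical
  haveI : Finite ↥Spor.M12 := Nat.finite_of_card_ne_zero (by rw [card_spor_M12]; norm_num)
  haveI := Fintype.ofFinite ↥Spor.M12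
  haveI : IsMultiplyPretransitive ↥Spor.M12 Pts 4 := by
    rw [isMultiplyPretransitive_iff]
    intro u v
    have hu : ∀ i j, i ≠ j → (u i).1 ≠ (u j).1 := fun i j h e => h (u.injective (Subtype.ext e))
    have hv : ∀ i j, i ≠ j → (v i).1 ≠ (v j).1 := fun i j h e => h (v.injective (Subtype.ext e))
    obtain ⟨α, a0, a1, a2, a3⟩ := exists_map_four (u 0).2 (u 1).2 (u 2).2 (u 3).2
      (hu 0 1 (by decide)) (hu 0 2 (by decide)) (hu 0 3 (by decide)) (hu 1 2 (by decide))
      (hu 1 3 (by decide)) (hu 2 3 (by decide))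
    obtain ⟨β, b0, b1, b2, b3⟩ := exists_map_four (v 0).2 (v 1).2 (v 2).2 (v 3).2
      (hv 0 1 (by decide)) (hv 0 2 (by decide)) (hv 0 3 (by decide)) (hv 1 2 (by decide))
      (hv 1 3 (by decide)) (hv 2 3 (by decide))
    refine ⟨β * α⁻¹, ?_⟩
    refine Function.Embedding.ext fun i => Subtype.ext ?_
    show ((β * α⁻¹ : ↥Spor.M12) : Equiv.Perm GolayPt) (u i).1 = (v i).1
    show (β : Equiv.Perm GolayPt) ((α : Equiv.Perm GolayPt)⁻¹ (u i).1) = (v i).1
    fin_cases i <;> simp [← a0, ← a1, ← a2, ← a3, b0, b1, b2, b3]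
  refine ⟨⟨_, H81.isIrr_alt (G := ↥Spor.M12) (Ω := Pts) (by rw [card_pts]; norm_num)⟩,
    Linear.SLDegrees.charDegree_eq ?_⟩
  obtain ⟨e1, e2⟩ := H81.one_values (G := ↥Spor.M12) (Ω := Pts)
    (by rw [card_pts]; norm_num)
  show (H81.fixC Pts (1 : ↥Spor.M12) ^ 2 - 3 * H81.fixC Pts (1 : ↥Spor.M12) + 2 -
    H81.swapC Pts (1 : ↥Spor.M12)) / 2 = _
  rw [e1, e2, card_pts]
  norm_num

end Cfsg.Agent.H79.MTwelve
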