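import Cfsg.Agent.H79.MTwelve.Cases
import Cfsg.Agent.H79.MTwelve.Graph

/-!
# Groups with the order and degree graph of the dodecad group, up to the order-95040 recognition
-/

set_option autoImplicit false
set_option linter.style.haveILetI false

open Subgroup Cfsg

namespace Cfsg.Agent.H79.MTwelve

universe u

variable {G : Type u} [Group G] [Finite G]

/-- Order and degree graph leave a simple group of order `95040` or `A₄ × M₁₁`. -/
theorem isM12_or_prod (hcard : Nat.card G = Nat.card ↥Cfsg.Spor.M12)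
    (hΔ : Cfsg.degreePrimes G = Cfsg.degreePrimes ↥Cfsg.Spor.M12 ∧
      Cfsg.degreeGraph G = Cfsg.degreeGraph ↥Cfsg.Spor.M12) :
    Cfsg.IsM12 G ∨ Nonempty (G ≃* alternatingGroup (Fin 4) × ↥Cfsg.Spor.M11) := by
  have hn : Nat.card G = 95040 := hcard.trans Golay.card_spor_M12
  have hv : 11 ∈ degreePrimes G := by
    rw [hΔ.1]
    exact ⟨by norm_num, 66, mem_degrees_66, by norm_num⟩
  have hadj : ∀ p q : ℕ, p.Prime → q.Prime → p ≠ q →
      (∃ d ∈ charDegrees ↥Cfsg.Spor.M12, p * q ∣ d) → ∃ d ∈ charDegrees G, p * q ∣ d := by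
    intro p q hp hq hpq h
    have h1 : (Cfsg.degreeGraph G).Adj p q := by
      rw [hΔ.2]; exact ⟨hpq, hp, hq, h⟩
    exact h1.2.2.2
  have h55 : ∃ d ∈ charDegrees G, 55 ∣ d := hadj 5 11 (by norm_num) (by norm_num) (by norm_num)
    ⟨55, mem_degrees_55, dvd_rfl⟩
  have h33 : ∃ d ∈ charDegrees G, 33 ∣ d := hadj 3 11 (by norm_num) (by norm_num) (by norm_num)
    ⟨66, mem_degrees_66, by norm_num⟩
  obtain ⟨E, hE, hidx, hperf, N, hN, hNc, hs, hna, hmem⟩ := exists_section hn fun h =>
    haveI : Fact (Nat.Prime 11) := ⟨by norm_num⟩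
    DegGraphSmall.not_vertex_of_sylow_unique (hn ▸ by norm_num) (by rw [hn]; norm_num) h hv
  haveI := hE
  haveI := hN
  haveI := hs
  simp only [Finset.mem_insert, Finset.mem_singleton] at hmem
  rcases hmem with h | h | h
  · exact (false_660 hn E N hNc h h55).elim
  · obtain ⟨e⟩ := nonempty_equiv_M11 E hperf N hNc h
    exact Or.inr (nonempty_prod hn E e h33)
  · refine Or.inl ⟨?_, hn⟩
    have h1 := card_eq_card_quotient_mul_card_subgroup N
    have h2 := card_le_card_group E
    have hEt : E = ⊤ := eq_top_of_card_eq E (le_antisymm h2 (by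
      rw [h1, h, hn]; exact Nat.le_mul_of_pos_right _ Nat.card_pos))
    have hN1 : N = ⊥ := by
      rw [← card_eq_one]
      rw [h, show Nat.card E = 95040 by rw [hEt, card_top, hn]] at h1
      omega
    let e : (E ⧸ N) ≃* G := (QuotientGroup.quotientMulEquivOfEq hN1).trans
      (QuotientGroup.quotientBot.trans ((MulEquiv.subgroupCongr hEt).trans topEquiv))
    haveI : Nontrivial G := e.toEquiv.symm.nontrivial
    exact IsSimpleGroup.isSimpleGroup_of_surjective e.toMonoidHom e.surjective

end Cfsg.Agent.H79.MTwelve
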