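import Cfsg.Agent.H79.MTwelve.ElevenSearch
import Cfsg.Agent.H79.MTwelve.SymSquare
import Cfsg.Agent.H83.ClassConst
import Cfsg.Agent.H85.RootCount
import Cfsg.Agent.H64.DegreeLtPrime.Basic
import Cfsg.Agent.S0159

/-!
# A simple group of order 95040 has a real character of degree eleven

The hypotheses are the principal 11-block, one column of a 2-central involution, an element of
order five with centraliser of order ten, and the number of involutions.
-/

set_option autoImplicit false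
set_option linter.unusedSectionVars false
set_option linter.style.haveILetI false

namespace Cfsg.Agent.H79.MTwelve

open scoped ComplexConjugate
open Cfsg.Agent.CharBasic

universe u

variable {G : Type u} [Group G] [Fintype G]

/-- In a simple group the value of a character on an involution agrees with the degree mod four. -/
theorem four_dvd_degree_sub [IsSimpleGroup G] (hG : ¬ IsMulCommutative G) (χ : Cfsg.IrrCharacter G)
    {u : G} (hu : u * u = 1) {f : ℕ} (hf : (χ : G → ℂ) 1 = f) {a : ℤ}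
    (ha : (χ : G → ℂ) u = a) : (4 : ℤ) ∣ (f : ℤ) - a := by
  obtain ⟨⟨d, ρ, -, hρ⟩⟩ := PLift.up χ.2
  rw [← hρ] at hf ha
  set φ := ρ u with hφ
  have hφ2 : φ * φ = 1 := by rw [hφ, ← map_mul, hu, map_one]
  set P : (Fin d → ℂ) →ₗ[ℂ] (Fin d → ℂ) := (1 / 2 : ℂ) • (1 - φ) with hP
  have hPP : IsIdempotentElem P := by
    show P * P = P
    rw [hP, smul_mul_smul_comm, sub_mul, one_mul, mul_sub, mul_one, hφ2]
    module
  have hproj : LinearMap.IsProj (LinearMap.range P) P :=
    ⟨fun x => LinearMap.mem_range_self P x, by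
      rintro _ ⟨y, rfl⟩
      exact LinearMap.congr_fun hPP y⟩
  have htr : LinearMap.trace ℂ _ P = (Module.finrank ℂ (LinearMap.range P) : ℂ) := hproj.trace
  set r := Module.finrank ℂ (LinearMap.range P)
  rw [hP, map_smul, map_sub, LinearMap.trace_one, smul_eq_mul,
    show LinearMap.trace ℂ _ φ = (a : ℂ) from ha,
    show ((Module.finrank ℂ (Fin d → ℂ) : ℕ) : ℂ) = (f : ℂ) by rw [← Representation.char_one ρ, hf]]
    at htr
  have h2r : (f : ℤ) - a = 2 * r := by
    have : (((f : ℤ) - a : ℤ) : ℂ) = ((2 * r : ℤ) : ℂ) := by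
      push_cast
      linear_combination 2 * htr
    exact_mod_cast this
  have hk : φ = ((Submodule.prodEquivOfIsCompl _ _ hproj.isCompl : _ →ₗ[ℂ] (Fin d → ℂ))) ∘ₗ
      LinearMap.prodMap (-LinearMap.id) LinearMap.id ∘ₗ
        (Submodule.prodEquivOfIsCompl _ _ hproj.isCompl).symm.toLinearMap := by
    refine LinearMap.ext fun v => ?_
    obtain ⟨⟨p, q⟩, rfl⟩ := (Submodule.prodEquivOfIsCompl _ _ hproj.isCompl).surjective v
    have hfP : φ = 1 - (2 : ℂ) • P := by rw [hP]; module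
    simp only [LinearMap.comp_apply, LinearEquiv.coe_coe, LinearEquiv.symm_apply_apply]
    simp only [Submodule.coe_prodEquivOfIsCompl', LinearMap.prodMap_apply, LinearMap.neg_apply,
      LinearMap.id_coe, id_eq, Submodule.coe_neg, hfP, LinearMap.sub_apply,
      Module.End.one_apply, LinearMap.smul_apply, map_add]
    rw [hproj.map_id _ p.2, LinearMap.mem_ker.1 q.2]
    module
  have hkey : LinearMap.det φ = LinearMap.det (LinearMap.prodMap
      (-LinearMap.id : LinearMap.range P →ₗ[ℂ] LinearMap.range P)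
      (LinearMap.id : LinearMap.ker P →ₗ[ℂ] LinearMap.ker P)) := by
    rw [hk]
    exact LinearMap.det_conj _ _
  rw [LinearMap.det_prodMap, LinearMap.det_id, mul_one,
    ← neg_one_smul ℂ (LinearMap.id : LinearMap.range P →ₗ[ℂ] _), LinearMap.det_smul,
    LinearMap.det_id, mul_one] at hkey
  have hone := H36.hom_comm_eq_one hG (MonoidHom.toHomUnits (LinearMap.det.comp ρ))
  have hd1 : LinearMap.det φ = 1 := congrArg Units.val (DFunLike.congr_fun hone u)
  rw [hd1] at hkey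
  rcases Nat.even_or_odd r with ⟨s, hs⟩ | hodd
  · exact ⟨s, by rw [h2r, hs]; push_cast; ring⟩
  · rw [hodd.neg_one_pow] at hkey
    norm_num at hkey

/-- A value `-1/2` is not an algebraic integer. -/
theorem not_integral_neg_half {z : ℂ} (hz : IsIntegral ℤ z) (h : z + z = -1) : False := by
  have hhalf : z = ((-1 / 2 : ℚ) : ℂ) := by push_cast; linear_combination h / 2
  rw [hhalf, show ((-1 / 2 : ℚ) : ℂ) = algebraMap ℚ ℂ (-1 / 2) by simp] at hz
  obtain ⟨w, hw⟩ := IsIntegrallyClosed.algebraMap_eq_of_integral (R := ℤ)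
    ((isIntegral_algebraMap_iff (algebraMap ℚ ℂ).injective).1 hz)
  have h2 : ((2 * w : ℤ) : ℚ) = ((-1 : ℤ) : ℚ) := by
    rw [eq_intCast] at hw
    push_cast
    rw [hw]; norm_num
  have h3 : 2 * w = -1 := Int.cast_injective h2
  omega

/-- An element of order five with centraliser of order ten is conjugate to all its generators. -/
theorem isConj_pow_five [IsSimpleGroup G] (hn : Nat.card G = 95040) {t : G} (ht : orderOf t = 5)
    (htC : Nat.card (Subgroup.centralizer ({t} : Set G)) = 10) {k : ℕ} (hk : ¬ 5 ∣ k) :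
    IsConj t (t ^ k) := by
  classical
  haveI : Fact (Nat.Prime 5) := ⟨by norm_num⟩
  have hY : Nat.card (Subgroup.zpowers t) = 5 := by rw [Nat.card_zpowers, ht]
  obtain ⟨T, hT⟩ := (IsPGroup.of_card (n := 1) (by rw [hY, pow_one])).exists_le_sylow
  have hTc : Nat.card (T : Subgroup G) = 5 := by
    simpa using H36.card_sylow_eq hn T (a := 1) (m := 19008) (by norm_num) (by norm_num)
  have hTt : (T : Subgroup G) = Subgroup.zpowers t :=
    (Subgroup.eq_of_le_of_card_ge hT (by rw [hY, hTc])).symm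
  have hC : Subgroup.centralizer ((T : Subgroup G) : Set G) =
      Subgroup.centralizer ({t} : Set G) := by
    rw [hTt]
    ext g
    simp only [Subgroup.mem_centralizer_iff, SetLike.mem_coe, Set.mem_singleton_iff, forall_eq]
    refine ⟨fun h => h t (Subgroup.mem_zpowers t), fun h z hz => ?_⟩
    obtain ⟨i, rfl⟩ := Subgroup.mem_zpowers_iff.1 hz
    exact ((show Commute t g from h).zpow_left i).eq
  have hG : ¬ IsMulCommutative G := H36.not_comm_of_simple (by rw [hn]; norm_num)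
  set e := (Subgroup.centralizer ((T : Subgroup G) : Set G)).relIndex
    (Subgroup.normalizer ((T : Subgroup G) : Set G)) with he
  have h1 : 1 < e := H36.one_lt_relIndex_centralizer hG T (by rw [hn]; norm_num)
  have hd : e ∣ 4 := H36.relIndex_centralizer_dvd_of_prime (by norm_num) _ hTc
  have hmul := H36.card_sylow_mul_normalizer T
  rw [H36.card_normalizer_eq_mul, ← he, hC, htC, hn] at hmul
  have hmod : Nat.card (Sylow 5 G) % 5 = 1 := card_sylow_modEq_one 5 G
  have he4 : e = 4 := by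
    have : e ≤ 4 := Nat.le_of_dvd (by norm_num) hd
    interval_cases e <;> omega
  -- the image in the automorphisms is everything
  set φ := (T : Subgroup G).normalizerMonoidHom with hφ
  have hsurj : Function.Surjective φ := by
    haveI : IsCyclic (T : Subgroup G) := isCyclic_of_prime_card hTc
    have hcard : Nat.card (MulAut (T : Subgroup G)) = 4 := by
      rw [IsCyclic.card_mulAut, hTc, Nat.totient_prime (by norm_num)]
    rw [← MonoidHom.range_eq_top]
    refine Subgroup.eq_top_of_card_eq _ ?_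
    have hker : φ.ker = (Subgroup.centralizer ((T : Subgroup G) : Set G)).subgroupOf
        (Subgroup.normalizer ((T : Subgroup G) : Set G)) := Subgroup.normalizerMonoidHom_ker _
    rw [hcard, ← he4, he, Subgroup.relIndex, ← hker, Subgroup.index_ker]
  have hk5 : Nat.Coprime k (Nat.card (T : Subgroup G)) := by
    rw [hTc, Nat.coprime_comm]
    exact (Nat.Prime.coprime_iff_not_dvd (by norm_num)).2 hk
  haveI : IsCyclic (T : Subgroup G) := isCyclic_of_prime_card hTc
  letI : CommGroup (T : Subgroup G) := IsCyclic.commGroup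
  let σ : MulAut (T : Subgroup G) :=
    { powCoprime hk5.symm with map_mul' := fun a b => mul_pow a b k }
  obtain ⟨g, hg⟩ := hsurj σ
  have hval := congrArg (fun τ : MulAut (T : Subgroup G) =>
    ((τ ⟨t, hT (Subgroup.mem_zpowers t)⟩ : (T : Subgroup G)) : G)) hg
  exact isConj_iff.2 ⟨g, hval⟩

set_option maxHeartbeats 2000000 in
/-- A simple group of order `95040` with these data has a real character of degree eleven. -/
theorem exists_real_eleven [IsSimpleGroup G] (hn : Nat.card G = 95040) (hB : DegreeList G)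
    (h45 : Nat.card {ψ : Cfsg.IrrCharacter G // (ψ : G → ℂ) 1 = 45} = 1)
    (h54 : Nat.card {ψ : Cfsg.IrrCharacter G // (ψ : G → ℂ) 1 = 54} = 1)
    (h120 : Nat.card {ψ : Cfsg.IrrCharacter G // (ψ : G → ℂ) 1 = 120} = 1)
    (h144 : Nat.card {ψ : Cfsg.IrrCharacter G // (ψ : G → ℂ) 1 = 144} = 1)
    (h16 : Nat.card {ψ : Cfsg.IrrCharacter G // (ψ : G → ℂ) 1 = 16} = 2)
    {u : G} (hu : u * u = 1) (hu1 : u ≠ 1)
    (huC : Nat.card (Subgroup.centralizer ({u} : Set G)) = 192)
    (hu45 : ∀ ψ : Cfsg.IrrCharacter G, (ψ : G → ℂ) 1 = 45 → (ψ : G → ℂ) u = -3)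
    (hu54 : ∀ ψ : Cfsg.IrrCharacter G, (ψ : G → ℂ) 1 = 54 → (ψ : G → ℂ) u = 6)
    (hu120 : ∀ ψ : Cfsg.IrrCharacter G, (ψ : G → ℂ) 1 = 120 → (ψ : G → ℂ) u = -8)
    (hu144 : ∀ ψ : Cfsg.IrrCharacter G, (ψ : G → ℂ) 1 = 144 → (ψ : G → ℂ) u = 0)
    (hu16 : ∀ ψ : Cfsg.IrrCharacter G, (ψ : G → ℂ) 1 = 16 → (ψ : G → ℂ) u = 0)
    {t : G} (ht : orderOf t = 5)
    (htC : Nat.card (Subgroup.centralizer ({t} : Set G)) = 10)
    (hinv : 892 ≤ Nat.card {s : G // s * s = 1}) :
    ∃ χ : G → ℂ, Cfsg.IsIrrCharacter G χ ∧ χ 1 = 11 ∧ ∀ g, (χ g).im = 0 := by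
  classical
  by_contra hno
  push Not at hno
  have hG : ¬ IsMulCommutative G := H36.not_comm_of_simple (by rw [hn]; norm_num)
  haveI : Fact (Nat.Prime 11) := ⟨by norm_num⟩
  obtain ⟨x, hx⟩ := exists_prime_orderOf_dvd_card' (G := G) 11 (by rw [hn]; norm_num)
  let X := Cfsg.IrrCharacter G
  choose f hfpos hf using fun ψ : X => IsIrr.exists_degree ψ.2
  let T : X := ⟨fun _ => (1 : ℂ), isIrrCharacter_one⟩
  have hfT : f T = 1 := by
    have h : ((1 : ℕ) : ℂ) = (f T : ℂ) := by rw [← hf T, Nat.cast_one]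
    exact_mod_cast h.symm
  have hone : ∀ ψ, f ψ = 1 → ψ = T := fun ψ h1 => by
    by_contra hne
    obtain ⟨d, hd2, hd', -⟩ := H36.SelfCentral.exists_degree_two_le hG (χ := ψ)
      (fun e => hne (e.trans (Subtype.ext rfl)))
    rw [hf ψ, h1] at hd'
    have : (1 : ℕ) = d := by exact_mod_cast hd'
    omega
  have hkind : ∀ ψ, f ψ = 1 ∨ f ψ = 45 ∨ f ψ = 54 ∨ f ψ = 120 ∨ f ψ = 144 ∨ f ψ = 16 ∨
      (11 ∣ f ψ ∧ (ψ : G → ℂ) x = 0) := fun ψ => by
    by_cases h1 : f ψ = 1
    · exact Or.inl h1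
    rcases hB.cases ψ (hf ψ) h1 hx with ⟨e, m, hm⟩ | ⟨e, -⟩ | ⟨e, -⟩ | e | e | ⟨e, -⟩
    · exact Or.inr (Or.inr (Or.inr (Or.inr (Or.inr (Or.inr ⟨⟨m, hm⟩, e⟩)))))
    all_goals simp [e]
  let R : Finset X := Finset.univ.filter fun ψ => 11 ∣ f ψ
  -- splitting a sum over the kinds of characters
  have hsum : ∀ (F : X → ℂ) (c1 c45 c54 c120 c144 c16 : ℂ),
      F T = c1 → (∀ ψ, f ψ = 45 → F ψ = c45) → (∀ ψ, f ψ = 54 → F ψ = c54) →
      (∀ ψ, f ψ = 120 → F ψ = c120) → (∀ ψ, f ψ = 144 → F ψ = c144) →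
      (∀ ψ, f ψ = 16 → F ψ = c16) →
      ∑ ψ, F ψ = c1 + c45 + c54 + c120 + c144 + 2 * c16 + ∑ ψ ∈ R, F ψ := by
    intro F c1 c45 c54 c120 c144 c16 e1 e45 e54 e120 e144 e16
    have hpt : ∀ ψ, F ψ = (if ψ = T then c1 else 0) + (if f ψ = 45 then c45 else 0) +
        (if f ψ = 54 then c54 else 0) + (if f ψ = 120 then c120 else 0) +
        (if f ψ = 144 then c144 else 0) + (if f ψ = 16 then c16 else 0) +
        (if 11 ∣ f ψ then F ψ else 0) := by
      intro ψ
      by_cases hT' : ψ = T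
      · subst hT'; simp [hfT, e1]
      have h1 : f ψ ≠ 1 := fun h => hT' (hone ψ h)
      rcases hkind ψ with h | h | h | h | h | h | ⟨h, -⟩
      · exact absurd h h1
      · simp [hT', h, e45 ψ h]
      · simp [hT', h, e54 ψ h]
      · simp [hT', h, e120 ψ h]
      · simp [hT', h, e144 ψ h]
      · simp [hT', h, e16 ψ h]
      · have : f ψ ≠ 45 ∧ f ψ ≠ 54 ∧ f ψ ≠ 120 ∧ f ψ ≠ 144 ∧ f ψ ≠ 16 := by omega
        simp [hT', h, this]
    have hcnt : ∀ (d : ℕ) (c : ℂ) (N : ℕ), Nat.card {ψ : X // (ψ : G → ℂ) 1 = (d : ℂ)} = N →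
        ∑ ψ, (if f ψ = d then c else 0) = (N : ℂ) * c := by
      intro d c N hN
      rw [Finset.sum_ite, Finset.sum_const_zero, add_zero, Finset.sum_const, nsmul_eq_mul, ← hN,
        Nat.card_eq_fintype_card, Fintype.card_subtype]
      congr 2
      congr 1
      ext ψ
      simp [hf ψ]
    rw [Finset.sum_congr rfl fun ψ _ => hpt ψ]
    simp only [Finset.sum_add_distrib]
    rw [hcnt 45 c45 1 (by exact_mod_cast h45), hcnt 54 c54 1 (by exact_mod_cast h54),
      hcnt 120 c120 1 (by exact_mod_cast h120), hcnt 144 c144 1 (by exact_mod_cast h144),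
      hcnt 16 c16 2 (by exact_mod_cast h16), Finset.sum_ite_eq', if_pos (Finset.mem_univ T),
      ← Finset.sum_filter]
    simp only [R]
    push_cast
    ring
  -- integer values on `u` and `t`
  choose a ha habs using fun ψ : X => H36.SelfCentral.exists_int_involution ψ hu hu1 (hf ψ)
  choose v hv using fun ψ : X => H64.DegreeLtPrime.exists_int_value (IsIrr.isCharacter ψ.2)
    (v := t) fun k hk => by
      obtain ⟨c, hc⟩ := isConj_iff.1 (isConj_pow_five hn ht htC (k := k) (fun h5 => by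
        rw [ht] at hk
        exact absurd (Nat.eq_one_of_dvd_coprimes hk h5 dvd_rfl) (by norm_num)))
      rw [← hc]
      exact IsIrr.isClassFunction ψ.2 t c
  have hv5 : ∀ ψ, (5 : ℤ) ∣ v ψ - f ψ := by
    intro ψ
    obtain ⟨m, hm⟩ := H64.DegreeLtPrime.exists_sum_subgroup (IsIrr.isCharacter ψ.2)
      (Subgroup.zpowers t)
    have hY : Nat.card (Subgroup.zpowers t) = 5 := by rw [Nat.card_zpowers, ht]
    haveI : Fact (Nat.Prime 5) := ⟨by norm_num⟩
    have hconst : ∀ w : Subgroup.zpowers t, (w : G) ≠ 1 → (ψ : G → ℂ) w = v ψ := by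
      intro w hw
      obtain ⟨k, hk'⟩ := mem_powers_iff_mem_zpowers.2 w.2
      simp only at hk'
      have hk5 : ¬ 5 ∣ k := by
        rintro ⟨i, rfl⟩
        exact hw (by rw [← hk']; simp [pow_mul, ← ht, pow_orderOf_eq_one])
      obtain ⟨c, hc⟩ := isConj_iff.1 (isConj_pow_five hn ht htC hk5)
      rw [← hk', ← hc, IsIrr.isClassFunction ψ.2 t c, hv]
    rw [H64.DegreeLtPrime.sum_const_off_one _ hconst, hf ψ, hY] at hm
    have h : (((f ψ : ℤ) + 4 * v ψ : ℤ) : ℂ) = ((5 * m : ℤ) : ℂ) := by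
      push_cast at hm ⊢; linear_combination hm
    have h' : (f ψ : ℤ) + 4 * v ψ = 5 * m := Int.cast_injective h
    omega
  have hsqt : ∑ ψ : X, v ψ * v ψ = 10 := by
    have h := second_orthogonality_self (G := G) t
    rw [htC] at h
    have h' : ((∑ ψ : X, v ψ * v ψ : ℤ) : ℂ) = ((10 : ℤ) : ℂ) := by
      push_cast at h ⊢
      rw [← h]
      exact Finset.sum_congr rfl fun ψ _ => by rw [hv ψ, map_intCast]
    exact Int.cast_injective h'
  have hv10 : ∀ ψ, v ψ * v ψ ≤ 10 := fun ψ =>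
    hsqt ▸ Finset.single_le_sum (f := fun ψ : X => v ψ * v ψ) (fun _ _ => mul_self_nonneg _)
      (Finset.mem_univ ψ)
  have hv3 : ∀ ψ, -3 ≤ v ψ ∧ v ψ ≤ 3 := fun ψ => by
    constructor <;> nlinarith [hv10 ψ]
  have hvT : v T = 1 := by
    have h : ((v T : ℤ) : ℂ) = ((1 : ℤ) : ℂ) := by rw [← hv T, Int.cast_one]
    exact Int.cast_injective h
  have haT : a T = 1 := by
    have h : ((a T : ℤ) : ℂ) = ((1 : ℤ) : ℂ) := by rw [← ha T, Int.cast_one]
    exact Int.cast_injective h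
  have hvk : ∀ ψ, (f ψ = 45 → v ψ = 0) ∧ (f ψ = 54 → v ψ = -1) ∧ (f ψ = 120 → v ψ = 0) ∧
      (f ψ = 144 → v ψ = -1) ∧ (f ψ = 16 → v ψ = 1) := fun ψ => by
    have := hv3 ψ
    have := hv5 ψ
    refine ⟨?_, ?_, ?_, ?_, ?_⟩ <;> intro h <;> rw [h] at this <;> omega
  have hak : ∀ ψ, (f ψ = 45 → a ψ = -3) ∧ (f ψ = 54 → a ψ = 6) ∧ (f ψ = 120 → a ψ = -8) ∧
      (f ψ = 144 → a ψ = 0) ∧ (f ψ = 16 → a ψ = 0) := fun ψ => by
    refine ⟨?_, ?_, ?_, ?_, ?_⟩ <;> intro h
    · have h' := hu45 ψ (by rw [hf ψ, h]; norm_num)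
      rw [ha ψ] at h'; exact_mod_cast h'
    · have h' := hu54 ψ (by rw [hf ψ, h]; norm_num)
      rw [ha ψ] at h'; exact_mod_cast h'
    · have h' := hu120 ψ (by rw [hf ψ, h]; norm_num)
      rw [ha ψ] at h'; exact_mod_cast h'
    · have h' := hu144 ψ (by rw [hf ψ, h]; norm_num)
      rw [ha ψ] at h'; exact_mod_cast h'
    · have h' := hu16 ψ (by rw [hf ψ, h]; norm_num)
      rw [ha ψ] at h'; exact_mod_cast h'
  let m : X → ℤ := fun ψ => ((f ψ / 11 : ℕ) : ℤ)
  have hfm : ∀ ψ ∈ R, (f ψ : ℤ) = 11 * m ψ := fun ψ hψ => by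
    have := (Finset.mem_filter.1 hψ).2
    simp only [m]
    omega
  -- the totals
  have hQ : ∑ ψ ∈ R, m ψ * m ψ = 450 := by
    have h := sum_sq_degree (G := G)
    rw [hn, hsum (fun ψ => (ψ : G → ℂ) 1 ^ 2) 1 2025 2916 14400 20736 256 (by rw [hf T, hfT]; norm_num)
      (fun ψ e => by rw [hf ψ, e]; norm_num) (fun ψ e => by rw [hf ψ, e]; norm_num)
      (fun ψ e => by rw [hf ψ, e]; norm_num) (fun ψ e => by rw [hf ψ, e]; norm_num)
      (fun ψ e => by rw [hf ψ, e]; norm_num),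
      Finset.sum_congr rfl (g := fun ψ => (((121 * (m ψ * m ψ)) : ℤ) : ℂ)) fun ψ hψ => by
        rw [hf ψ, show (f ψ : ℂ) = ((f ψ : ℤ) : ℂ) by norm_num, hfm ψ hψ]
        push_cast; ring] at h
    have h' : ((121 * ∑ ψ ∈ R, m ψ * m ψ : ℤ) : ℂ) = ((54450 : ℤ) : ℂ) := by
      rw [Finset.mul_sum]
      push_cast at h ⊢
      linear_combination h
    have := Int.cast_injective (α := ℂ) h'
    omega
  have hA : ∑ ψ ∈ R, a ψ * a ψ = 82 := by
    have h := second_orthogonality_self (G := G) u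
    rw [huC, Finset.sum_congr rfl (g := fun ψ : X => (((a ψ * a ψ) : ℤ) : ℂ)) fun ψ _ => by
        rw [ha ψ, map_intCast]; push_cast; ring] at h
    rw [hsum (fun ψ => ((a ψ * a ψ : ℤ) : ℂ)) 1 9 36 64 0 0 (by rw [haT]; norm_num)
      (fun ψ e => by rw [(hak ψ).1 e]; norm_num) (fun ψ e => by rw [(hak ψ).2.1 e]; norm_num)
      (fun ψ e => by rw [(hak ψ).2.2.1 e]; norm_num)
      (fun ψ e => by rw [(hak ψ).2.2.2.1 e]; norm_num)
      (fun ψ e => by rw [(hak ψ).2.2.2.2 e]; norm_num)] at h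
    have h' : ((∑ ψ ∈ R, a ψ * a ψ : ℤ) : ℂ) = ((82 : ℤ) : ℂ) := by
      push_cast at h ⊢
      linear_combination h
    exact Int.cast_injective h'
  have hV : ∑ ψ ∈ R, v ψ * v ψ = 5 := by
    have h : ((∑ ψ : X, v ψ * v ψ : ℤ) : ℂ) = 10 := by rw [hsqt]; norm_num
    rw [Int.cast_sum, hsum (fun ψ => ((v ψ * v ψ : ℤ) : ℂ)) 1 0 1 0 1 1 (by rw [hvT]; norm_num)
      (fun ψ e => by rw [(hvk ψ).1 e]; norm_num) (fun ψ e => by rw [(hvk ψ).2.1 e]; norm_num)
      (fun ψ e => by rw [(hvk ψ).2.2.1 e]; norm_num)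
      (fun ψ e => by rw [(hvk ψ).2.2.2.1 e]; norm_num)
      (fun ψ e => by rw [(hvk ψ).2.2.2.2 e]; norm_num)] at h
    have h' : ((∑ ψ ∈ R, v ψ * v ψ : ℤ) : ℂ) = ((5 : ℤ) : ℂ) := by
      push_cast at h ⊢
      linear_combination h
    exact Int.cast_injective h'
  have ho2 : orderOf u = 2 := orderOf_eq_prime (by rw [pow_two, hu]) hu1
  have hne_ut : ¬ IsConj u t := fun h => by
    obtain ⟨c, hc⟩ := isConj_iff.1 h
    have := MulEquiv.orderOf_eq (MulAut.conj c) u
    rw [MulAut.conj_apply, hc, ho2, ht] at this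
    norm_num at this
  have hne_1u : ¬ IsConj (1 : G) u := fun h => hu1 (isConj_one_right.1 h)
  have hne_1t : ¬ IsConj (1 : G) t := fun h => by
    rw [isConj_one_right.1 h, orderOf_one] at ht
    norm_num at ht
  have hMA : ∑ ψ ∈ R, m ψ * a ψ = 70 := by
    have h := second_orthogonality_not_isConj hne_1u
    rw [Finset.sum_congr rfl (g := fun ψ : X => (((f ψ : ℤ) * a ψ : ℤ) : ℂ)) fun ψ _ => by
        rw [hf ψ, ha ψ, map_intCast]; push_cast; ring] at h
    rw [hsum (fun ψ => (((f ψ : ℤ) * a ψ : ℤ) : ℂ)) 1 (-135) 324 (-960) 0 0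
      (by rw [haT, hfT]; norm_num)
      (fun ψ e => by rw [(hak ψ).1 e, e]; norm_num) (fun ψ e => by rw [(hak ψ).2.1 e, e]; norm_num)
      (fun ψ e => by rw [(hak ψ).2.2.1 e, e]; norm_num)
      (fun ψ e => by rw [(hak ψ).2.2.2.1 e, e]; norm_num)
      (fun ψ e => by rw [(hak ψ).2.2.2.2 e, e]; norm_num),
      Finset.sum_congr rfl (g := fun ψ => ((11 * (m ψ * a ψ) : ℤ) : ℂ)) fun ψ hψ => by
        rw [hfm ψ hψ]; push_cast; ring] at h
    have h' : ((11 * ∑ ψ ∈ R, m ψ * a ψ : ℤ) : ℂ) = ((770 : ℤ) : ℂ) := by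
      rw [Finset.mul_sum]
      push_cast at h ⊢
      linear_combination h
    have := Int.cast_injective (α := ℂ) h'
    omega
  have hMV : ∑ ψ ∈ R, m ψ * v ψ = 15 := by
    have h := second_orthogonality_not_isConj hne_1t
    rw [Finset.sum_congr rfl (g := fun ψ : X => (((f ψ : ℤ) * v ψ : ℤ) : ℂ)) fun ψ _ => by
        rw [hf ψ, hv ψ, map_intCast]; push_cast; ring] at h
    rw [hsum (fun ψ => (((f ψ : ℤ) * v ψ : ℤ) : ℂ)) 1 0 (-54) 0 (-144) 16
      (by rw [hvT, hfT]; norm_num)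
      (fun ψ e => by rw [(hvk ψ).1 e, e]; norm_num) (fun ψ e => by rw [(hvk ψ).2.1 e, e]; norm_num)
      (fun ψ e => by rw [(hvk ψ).2.2.1 e, e]; norm_num)
      (fun ψ e => by rw [(hvk ψ).2.2.2.1 e, e]; norm_num)
      (fun ψ e => by rw [(hvk ψ).2.2.2.2 e, e]; norm_num),
      Finset.sum_congr rfl (g := fun ψ => ((11 * (m ψ * v ψ) : ℤ) : ℂ)) fun ψ hψ => by
        rw [hfm ψ hψ]; push_cast; ring] at h
    have h' : ((11 * ∑ ψ ∈ R, m ψ * v ψ : ℤ) : ℂ) = ((165 : ℤ) : ℂ) := by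
      rw [Finset.mul_sum]
      push_cast at h ⊢
      linear_combination h
    have := Int.cast_injective (α := ℂ) h'
    omega
  have hVA : ∑ ψ ∈ R, v ψ * a ψ = 5 := by
    have h := second_orthogonality_not_isConj hne_ut
    rw [Finset.sum_congr rfl (g := fun ψ : X => ((v ψ * a ψ : ℤ) : ℂ)) fun ψ _ => by
        rw [ha ψ, hv ψ, map_intCast]; push_cast; ring] at h
    rw [hsum (fun ψ => ((v ψ * a ψ : ℤ) : ℂ)) 1 0 (-6) 0 0 0 (by rw [hvT, haT]; norm_num)
      (fun ψ e => by rw [(hvk ψ).1 e]; norm_num)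
      (fun ψ e => by rw [(hvk ψ).2.1 e, (hak ψ).2.1 e]; norm_num)
      (fun ψ e => by rw [(hvk ψ).2.2.1 e]; norm_num)
      (fun ψ e => by rw [(hak ψ).2.2.2.1 e]; norm_num)
      (fun ψ e => by rw [(hak ψ).2.2.2.2 e]; norm_num)] at h
    have h' : ((∑ ψ ∈ R, v ψ * a ψ : ℤ) : ℂ) = ((5 : ℤ) : ℂ) := by
      push_cast at h ⊢
      linear_combination h
    exact Int.cast_injective h'
  -- conditions on one character
  have hR : ∀ ψ ∈ R, m ψ ∈ Search.degs ∧ |a ψ| ≤ 9 ∧ |v ψ| ≤ 2 ∧ (v ψ - m ψ) % 5 = 0 ∧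
      (11 * m ψ - a ψ) % 4 = 0 ∧ (495 * a ψ) % (11 * m ψ) = 0 := by
    intro ψ hψ
    have h1 : m ψ * m ψ ≤ 450 := hQ ▸ Finset.single_le_sum (f := fun ψ => m ψ * m ψ)
      (fun _ _ => mul_self_nonneg _) hψ
    have h2 : a ψ * a ψ ≤ 82 := hA ▸ Finset.single_le_sum (f := fun ψ => a ψ * a ψ)
      (fun _ _ => mul_self_nonneg _) hψ
    have h3 : v ψ * v ψ ≤ 5 := hV ▸ Finset.single_le_sum (f := fun ψ => v ψ * v ψ)
      (fun _ _ => mul_self_nonneg _) hψ
    have hdiv : (f ψ : ℕ) ∣ 95040 := by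
      obtain ⟨d, hd2, hd', hdd⟩ := H36.SelfCentral.exists_degree_two_le hG (χ := ψ) (fun e => by
        have h11 := (Finset.mem_filter.1 hψ).2
        rw [show ψ = T from e.trans (Subtype.ext rfl), hfT] at h11
        norm_num at h11)
      rw [hf ψ] at hd'
      have : f ψ = d := by exact_mod_cast hd'
      rw [hn] at hdd
      exact this ▸ hdd
    have hf11 := hfm ψ hψ
    refine ⟨?_, abs_le.2 ⟨by nlinarith, by nlinarith⟩, abs_le.2 ⟨by nlinarith, by nlinarith⟩, ?_, ?_, ?_⟩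
    · have hm22 : f ψ / 11 < 22 := by
        have : m ψ < 22 := by nlinarith
        simp only [m] at this
        omega
      have hfeq : f ψ = 11 * (f ψ / 11) := by
        have := (Finset.mem_filter.1 hψ).2; omega
      rw [hfeq] at hdiv
      have key : ∀ k : ℕ, k < 22 → 11 * k ∣ 95040 → (k : ℤ) ∈ Search.degs := by decide +kernel
      exact key _ hm22 hdiv
    · have := hv5 ψ; rw [hf11] at this; omega
    · have := four_dvd_degree_sub hG ψ hu (hf ψ) (ha ψ)
      rw [hf11] at this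
      omega
    · have hint := H83.omega_class_isIntegral ψ.2 u
      have hidx : (Subgroup.centralizer ({u} : Set G)).index = 495 := by
        have h := (Subgroup.centralizer ({u} : Set G)).card_mul_index
        rw [huC, hn] at h
        omega
      rw [hidx, ha ψ, hf ψ, show (f ψ : ℂ) = ((f ψ : ℤ) : ℂ) by norm_num, hf11] at hint
      rw [show (((495 : ℕ) : ℂ) * (a ψ : ℂ) / ((11 * m ψ : ℤ) : ℂ)) =
        algebraMap ℚ ℂ ((495 * a ψ : ℤ) / (11 * m ψ : ℤ)) by simp] at hint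
      obtain ⟨w, hw⟩ := IsIntegrallyClosed.algebraMap_eq_of_integral (R := ℤ)
        ((isIntegral_algebraMap_iff (algebraMap ℚ ℂ).injective).1 hint)
      have hm0 : (11 * m ψ : ℤ) ≠ 0 := by
        rw [← hf11]; exact_mod_cast (hfpos ψ).ne'
      rw [eq_intCast, eq_div_iff (by exact_mod_cast hm0)] at hw
      have hw' : w * (11 * m ψ) = 495 * a ψ := by exact_mod_cast hw
      rw [← hw']
      exact Int.mul_emod_left _ _
  -- the structure constant
  let C : ℤ := ∑ ψ ∈ R, a ψ * a ψ * v ψ * (720 / m ψ)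
  have hC : ((2640 + C) * 165) % 506880 = 0 := by
    have h := H83.card_pairs_mul_card u u t
    have hidx : (Subgroup.centralizer ({u} : Set G)).index = 495 := by
      have h := (Subgroup.centralizer ({u} : Set G)).card_mul_index
      rw [huC, hn] at h
      omega
    rw [hidx, hn, Finset.sum_congr rfl
      (g := fun ψ : X => ((a ψ * a ψ * v ψ : ℤ) : ℂ) / (f ψ : ℂ)) fun ψ _ => by
        rw [ha ψ, hv ψ, hf ψ, map_intCast]; push_cast; ring] at h
    rw [hsum (fun ψ => ((a ψ * a ψ * v ψ : ℤ) : ℂ) / (f ψ : ℂ)) 1 0 (-2 / 3) 0 0 0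
      (by rw [haT, hvT, hfT]; norm_num)
      (fun ψ e => by rw [(hvk ψ).1 e]; norm_num)
      (fun ψ e => by rw [(hvk ψ).2.1 e, (hak ψ).2.1 e, e]; norm_num)
      (fun ψ e => by rw [(hvk ψ).2.2.1 e]; norm_num)
      (fun ψ e => by rw [(hak ψ).2.2.2.1 e]; norm_num)
      (fun ψ e => by rw [(hak ψ).2.2.2.2 e]; norm_num),
      Finset.sum_congr rfl (g := fun ψ => ((a ψ * a ψ * v ψ * (720 / m ψ) : ℤ) : ℂ) / 7920)
        fun ψ hψ => by
          have hm0 : m ψ ≠ 0 := fun h0 => by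
            have := hfm ψ hψ; rw [h0, mul_zero] at this
            exact (hfpos ψ).ne' (by exact_mod_cast this)
          have hdvd : m ψ ∣ 720 := by
            have key : ∀ k ∈ Search.degs, k ∣ (720 : ℤ) := by decide
            exact key _ (hR ψ hψ).1
          obtain ⟨q, hq⟩ := hdvd
          rw [show (f ψ : ℂ) = ((f ψ : ℤ) : ℂ) by norm_num, hfm ψ hψ, hq,
            Int.mul_ediv_cancel_left _ hm0]
          have hm0' : (m ψ : ℂ) ≠ 0 := Int.cast_ne_zero.2 hm0
          have hq' : (7920 : ℂ) = 11 * ((m ψ : ℂ) * (q : ℂ)) := by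
            rw [← Int.cast_mul, ← hq]; norm_num
          have hq0 : (q : ℂ) ≠ 0 := by
            intro h0; rw [h0, mul_zero, mul_zero] at hq'; norm_num at hq'
          rw [hq']
          push_cast
          field_simp] at h
    generalize Nat.card {s : G // IsConj u s ∧ IsConj u (s⁻¹ * t)} = N at h
    rw [← Finset.sum_div] at h
    have h' : ((506880 * (N : ℤ) : ℤ) : ℂ) = (((2640 + C) * 165 : ℤ) : ℂ) := by
      push_cast [C] at h ⊢
      linear_combination (16 / 3 : ℂ) * h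
    rw [← Int.cast_injective h']
    exact Int.mul_emod_right _ _
  -- Frobenius-Schur
  have hnonreal16 : ∀ ψ : X, f ψ = 16 → ¬ ∀ g, conj ((ψ : G → ℂ) g) = (ψ : G → ℂ) g := by
    intro ψ h16 hr
    rcases hB.cases ψ (hf ψ) (by omega) hx with ⟨-, k, e⟩ | ⟨e, -⟩ | ⟨e, -⟩ | e | e | ⟨-, e⟩
    · omega
    all_goals first | omega | skip
    rw [hr] at e
    exact not_integral_neg_half (IsChar.isIntegral (IsIrr.isCharacter ψ.2) x) e
  have hnonreal11 : ∀ ψ : X, f ψ = 11 → ¬ ∀ g, conj ((ψ : G → ℂ) g) = (ψ : G → ℂ) g := by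
    intro ψ h11 hr
    obtain ⟨g, hg⟩ := hno (ψ : G → ℂ) ψ.2 (by rw [hf ψ, h11]; norm_num)
    exact hg (Complex.conj_eq_iff_im.1 (hr g))
  have hM : 48 ≤ ∑ ψ ∈ R, (if m ψ = 1 then 0 else m ψ) := by
    have h := S0159.result (G := G)
    rw [finsum_eq_sum_of_fintype] at h
    set ν : X → ℂ := fun ψ => (Nat.card G : ℂ)⁻¹ * ∑ s : G, (ψ : G → ℂ) (s * s) with hν
    have hν0 : ∀ ψ : X, (¬ ∀ g, conj ((ψ : G → ℂ) g) = (ψ : G → ℂ) g) → ν ψ = 0 := fun ψ hr => by
      rw [hν]
      simp only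
      rw [H85.sum_sq_eq_zero_of_nonreal ψ.2 hr, mul_zero]
    have hν1 : ∀ ψ : X, (ν ψ).re ≤ 1 := fun ψ => by
      by_cases hr : ∀ g, conj ((ψ : G → ℂ) g) = (ψ : G → ℂ) g
      · rcases H85.indicator_eq_one_or_neg_one ψ.2
          (fun g => Complex.conj_eq_iff_im.1 (hr g)) with e | e <;>
          rw [show ν ψ = _ from e] <;> norm_num
      · simp [hν0 ψ hr]
    let w : X → ℕ := fun ψ => if f ψ = 16 ∨ f ψ = 11 then 0 else f ψ
    have hle : ∀ ψ : X, (ν ψ * (f ψ : ℂ)).re ≤ (w ψ : ℝ) := fun ψ => by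
      simp only [w]
      split_ifs with hc
      · rcases hc with hc | hc
        · simp [hν0 ψ (hnonreal16 ψ hc)]
        · simp [hν0 ψ (hnonreal11 ψ hc)]
      · rw [Complex.mul_re, Complex.natCast_re, Complex.natCast_im, mul_zero, sub_zero]
        exact mul_le_of_le_one_left (Nat.cast_nonneg _) (hν1 ψ)
    have hre := congrArg Complex.re h
    rw [Complex.natCast_re, Complex.re_sum] at hre
    have hsumle : (892 : ℝ) ≤ ((∑ ψ : X, w ψ : ℕ) : ℝ) := by
      push_cast
      refine le_trans ?_ (Finset.sum_le_sum fun ψ _ => hle ψ)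
      simp only [hf] at hre
      rw [← hre]
      exact_mod_cast hinv
    have hw := hsum (fun ψ => ((w ψ : ℕ) : ℂ)) 1 45 54 120 144 0 (by simp [w, hfT])
      (fun ψ e => by simp [w, e]) (fun ψ e => by simp [w, e]) (fun ψ e => by simp [w, e])
      (fun ψ e => by simp [w, e]) (fun ψ e => by simp [w, e])
    rw [Finset.sum_congr rfl (g := fun ψ => ((11 * (if m ψ = 1 then 0 else m ψ) : ℤ) : ℂ))
      (s₁ := R) fun ψ hψ => by
        have hf11 := hfm ψ hψ
        have h16' : f ψ ≠ 16 := by omega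
        by_cases h1 : m ψ = 1
        · simp [w, show f ψ = 11 by omega, h1]
        · simp only [w, if_neg h1, if_neg (show ¬ (f ψ = 16 ∨ f ψ = 11) by omega)]
          rw [show (f ψ : ℂ) = ((f ψ : ℤ) : ℂ) by norm_num, hf11]] at hw
    have hw' : ((∑ ψ : X, w ψ : ℕ) : ℤ) =
        364 + 11 * ∑ ψ ∈ R, (if m ψ = 1 then 0 else m ψ) := by
      refine Int.cast_injective (α := ℂ) ?_
      rw [Finset.mul_sum]
      push_cast at hw ⊢
      linear_combination hw
    have h892 : 892 ≤ ∑ ψ : X, w ψ := by exact_mod_cast hsumle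
    omega
  -- one representative from each conjugate pair of degree eleven
  let bar : X → X := fun ψ => ⟨fun g => conj ((ψ : G → ℂ) g), CharInduce.IsIrr.conj ψ.2⟩
  have hbar2 : ∀ ψ, bar (bar ψ) = ψ := fun ψ => Subtype.ext (funext fun g => Complex.conj_conj _)
  have hbarf : ∀ ψ, f (bar ψ) = f ψ := fun ψ => by
    have h := hf (bar ψ)
    change conj ((ψ : G → ℂ) 1) = _ at h
    rw [hf ψ, Complex.conj_natCast] at h
    exact_mod_cast h.symm
  have hbara : ∀ ψ, a (bar ψ) = a ψ := fun ψ => by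
    have h := ha (bar ψ)
    change conj ((ψ : G → ℂ) u) = _ at h
    rw [ha ψ, map_intCast] at h
    exact_mod_cast h.symm
  have hbarv : ∀ ψ, v (bar ψ) = v ψ := fun ψ => by
    have h := hv (bar ψ)
    change conj ((ψ : G → ℂ) t) = _ at h
    rw [hv ψ, map_intCast] at h
    exact_mod_cast h.symm
  have hbarm : ∀ ψ, m (bar ψ) = m ψ := fun ψ => by simp only [m, hbarf]
  let e := Fintype.equivFin X
  let R1 := R.filter fun ψ => m ψ = 1
  let R2 := R.filter fun ψ => ¬ m ψ = 1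
  let S := R1.filter fun ψ => e ψ < e (bar ψ)
  have hmem1 : ∀ ψ, ψ ∈ R1 ↔ f ψ = 11 := fun ψ => by
    simp only [R1, R, m, Finset.mem_filter, Finset.mem_univ, true_and]
    omega
  have hpair : ∀ F : X → ℤ, (∀ ψ, F (bar ψ) = F ψ) →
      ∑ ψ ∈ R1, F ψ = 2 * ∑ ψ ∈ S, F ψ := by
    intro F hF
    rw [two_mul]
    conv_lhs => rw [← Finset.sum_filter_add_sum_filter_not R1 (fun ψ => e ψ < e (bar ψ))]
    congr 1
    refine Finset.sum_nbij' bar bar ?_ ?_ (fun ψ _ => hbar2 ψ) (fun ψ _ => hbar2 ψ)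
      (fun ψ _ => (hF ψ).symm)
    · intro ψ hψ
      simp only [Finset.mem_filter, hmem1, S] at hψ ⊢
      refine ⟨(hbarf ψ).trans hψ.1, ?_⟩
      rw [hbar2]
      refine lt_of_le_of_ne (not_lt.1 hψ.2) fun heq => ?_
      refine hnonreal11 ψ hψ.1 fun g => ?_
      exact congrFun (congrArg Subtype.val (e.injective heq)) g
    · intro ψ hψ
      simp only [Finset.mem_filter, hmem1, S] at hψ ⊢
      refine ⟨(hbarf ψ).trans hψ.1, ?_⟩
      rw [hbar2]
      exact not_lt.2 hψ.2.le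
  let tri : X → ℤ × ℤ × ℤ := fun ψ => (m ψ, a ψ, v ψ)
  let L := (R2 ∪ S).toList.map tri
  have hdisj : Disjoint R2 S := by
    rw [Finset.disjoint_left]
    intro ψ h1 h2
    exact (Finset.mem_filter.1 h1).2 (Finset.mem_filter.1 (Finset.mem_filter.1 h2).1).2
  let fin : Search.St := ⟨0, 0, 0, 0, 0, 0, 48 - ∑ ψ ∈ R, (if m ψ = 1 then 0 else m ψ), -C⟩
  -- the totals of the list
  have hproj : ∀ (π : Search.St → ℤ), (∀ (s d : Search.St), π (s.addMul 1 d) = π s + π d) →
      ∀ (F : X → ℤ), (∀ ψ, F (bar ψ) = F ψ) →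
      (∀ ψ, π (Search.item (tri ψ)) = if m ψ = 1 then 2 * F ψ else F ψ) →
      π (Search.tot fin L) = π fin + ∑ ψ ∈ R, F ψ := by
    intro π hπ F hF hitem
    have hlist : ∀ M : List (ℤ × ℤ × ℤ), π (Search.tot fin M) =
        π fin + (M.map fun t => π (Search.item t)).sum := by
      intro M
      induction M with
      | nil => simp [Search.tot]
      | cons t M ih => rw [Search.tot, hπ, ih, List.map_cons, List.sum_cons]; ring
    rw [hlist]
    congr 1
    rw [List.map_map, Finset.sum_map_toList, Finset.sum_union hdisj]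
    rw [← Finset.sum_filter_add_sum_filter_not R (fun ψ => m ψ = 1), hpair F hF, add_comm,
      Finset.mul_sum]
    congr 1
    · exact Finset.sum_congr rfl fun ψ hψ => by
        rw [Function.comp_apply, hitem ψ, if_pos (Finset.mem_filter.1 (Finset.mem_filter.1 hψ).1).2]
    · exact Finset.sum_congr rfl fun ψ hψ => by
        rw [Function.comp_apply, hitem ψ, if_neg (Finset.mem_filter.1 hψ).2]
  have htot : Search.tot fin L = Search.target := by
    refine Search.St.ext' ?_ ?_ ?_ ?_ ?_ ?_ ?_ ?_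
    · rw [hproj (·.q) (fun s d => by simp [Search.St.addMul]) (fun ψ => m ψ * m ψ)
        (fun ψ => by rw [hbarm]) (fun ψ => by simp only [tri, Search.item]; split_ifs <;> ring), hQ]
      rfl
    · rw [hproj (·.rv) (fun s d => by simp [Search.St.addMul]) (fun ψ => v ψ * v ψ)
        (fun ψ => by rw [hbarv]) (fun ψ => by simp only [tri, Search.item]; split_ifs <;> ring), hV]
      rfl
    · rw [hproj (·.ra) (fun s d => by simp [Search.St.addMul]) (fun ψ => a ψ * a ψ)
        (fun ψ => by rw [hbara]) (fun ψ => by simp only [tri, Search.item]; split_ifs <;> ring), hA]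
      rfl
    · rw [hproj (·.tmv) (fun s d => by simp [Search.St.addMul]) (fun ψ => m ψ * v ψ)
        (fun ψ => by rw [hbarm, hbarv])
        (fun ψ => by simp only [tri, Search.item]; split_ifs <;> ring), hMV]
      rfl
    · rw [hproj (·.tma) (fun s d => by simp [Search.St.addMul]) (fun ψ => m ψ * a ψ)
        (fun ψ => by rw [hbarm, hbara])
        (fun ψ => by simp only [tri, Search.item]; split_ifs <;> ring), hMA]
      rfl
    · rw [hproj (·.tva) (fun s d => by simp [Search.St.addMul]) (fun ψ => v ψ * a ψ)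
        (fun ψ => by rw [hbarv, hbara])
        (fun ψ => by simp only [tri, Search.item]; split_ifs <;> ring), hVA]
      rfl
    · rw [hproj (·.sm) (fun s d => by simp [Search.St.addMul])
        (fun ψ => if m ψ = 1 then 0 else m ψ) (fun ψ => by simp only [hbarm])
        (fun ψ => by simp only [tri, Search.item]; split_ifs <;> ring)]
      simp only [fin, Search.target]
      ring
    · rw [hproj (·.c) (fun s d => by simp [Search.St.addMul])
        (fun ψ => a ψ * a ψ * v ψ * (720 / m ψ)) (fun ψ => by rw [hbarm, hbarv, hbara])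
        (fun ψ => by simp only [tri, Search.item]; split_ifs <;> ring)]
      simp only [fin, Search.target, C]
      ring
  refine Search.no_solution L ?_ (f := fin) ?_ ?_ htot
  · intro s hs
    obtain ⟨ψ, hψ, rfl⟩ := List.mem_map.1 hs
    rw [Finset.mem_toList, Finset.mem_union] at hψ
    have hψR : ψ ∈ R := by
      rcases hψ with h | h
      · exact (Finset.mem_filter.1 h).1
      · exact (Finset.mem_filter.1 (Finset.mem_filter.1 h).1).1
    exact hR ψ hψR
  · simp only [Search.okB, fin, Bool.and_eq_true, decide_eq_true_eq]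
    refine ⟨⟨⟨⟨⟨⟨?_, ?_⟩, ?_⟩, ?_⟩, ?_⟩, ?_⟩, ?_⟩ <;> omega
  · simp only [Search.final, fin, Bool.and_eq_true, decide_eq_true_eq, beq_iff_eq, sub_neg_eq_add]
    exact ⟨⟨⟨⟨⟨⟨⟨trivial, trivial⟩, trivial⟩, trivial⟩, trivial⟩, trivial⟩, by omega⟩, hC⟩

end Cfsg.Agent.H79.MTwelve
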