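import Mathlib.Tactic.Linarith
import Mathlib.Tactic.Ring
import Mathlib.Tactic.NormNum
import Mathlib.Algebra.Order.BigOperators.Group.List
import Mathlib.Algebra.BigOperators.Group.List.Basic
import Mathlib.Data.List.Sort

/-!
# The arithmetic behind the existence of a character of degree eleven

A triple `(m, a, v)` stands for a character of degree `11 m` (for a pair of complex conjugate
characters if `m = 1`) with value `a` on a 2-central involution and `v` on an element of order five.
-/

set_option autoImplicit false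

namespace Cfsg.Agent.H79.MTwelve.Search

/-- The eight quadratic and linear totals that are followed by the search. -/
structure St where
  q : ℤ
  rv : ℤ
  ra : ℤ
  tmv : ℤ
  tma : ℤ
  tva : ℤ
  sm : ℤ
  c : ℤ

@[ext] theorem St.ext' {s t : St} (h1 : s.q = t.q) (h2 : s.rv = t.rv) (h3 : s.ra = t.ra)
    (h4 : s.tmv = t.tmv) (h5 : s.tma = t.tma) (h6 : s.tva = t.tva) (h7 : s.sm = t.sm)
    (h8 : s.c = t.c) : s = t := by
  cases s; cases t; simp_all

/-- Addition of `j` copies. -/
def St.addMul (s : St) (j : ℤ) (d : St) : St :=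
  ⟨s.q + j * d.q, s.rv + j * d.rv, s.ra + j * d.ra, s.tmv + j * d.tmv, s.tma + j * d.tma,
    s.tva + j * d.tva, s.sm + j * d.sm, s.c + j * d.c⟩

/-- The contribution of a triple. -/
def item (t : ℤ × ℤ × ℤ) : St :=
  let k : ℤ := if t.1 = 1 then 2 else 1
  ⟨k * (t.1 * t.1), k * (t.2.2 * t.2.2), k * (t.2.1 * t.2.1), k * (t.1 * t.2.2), k * (t.1 * t.2.1),
    k * (t.2.2 * t.2.1), if t.1 = 1 then 0 else t.1,
    k * (t.2.1 * t.2.1 * t.2.2 * (720 / t.1))⟩

/-- The totals of a list on top of `f`. -/
def tot (f : St) : List (ℤ × ℤ × ℤ) → St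
  | [] => f
  | t :: L => (tot f L).addMul 1 (item t)

/-- Positivity conditions that any sum of contributions satisfies. -/
def okB (s : St) : Bool :=
  decide (0 ≤ s.q) && decide (0 ≤ s.rv) && decide (0 ≤ s.ra) &&
    decide (s.tma * s.tma ≤ s.ra * s.q) && decide (s.tmv * s.tmv ≤ s.rv * s.q) &&
    decide (s.tva * s.tva ≤ s.ra * s.rv) && decide (2 * s.sm ≤ s.q)

/-- Depth-first search over multiplicities. -/
def search (g : St → Bool) : List (ℤ × ℤ × ℤ) → St → Bool
  | [], s => g s
  | t :: E, s => okB s && (List.range (s.q.toNat / (item t).q.toNat + 1)).any fun j =>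
      decide ((j : ℤ) * (item t).rv ≤ s.rv) && decide ((j : ℤ) * (item t).ra ≤ s.ra) &&
        search g E (s.addMul (-(j : ℤ)) (item t))

theorem gram_add {x y z k m w : ℤ} (hk : 0 ≤ k) (hx : 0 ≤ x) (hy : 0 ≤ y) (h : z * z ≤ x * y) :
    (z + k * (m * w)) * (z + k * (m * w)) ≤ (x + k * (m * m)) * (y + k * (w * w)) := by
  have key : 2 * (z * (m * w)) ≤ x * (w * w) + y * (m * m) := by
    by_contra hlt
    rw [not_le] at hlt
    have h1 : 0 ≤ x * (w * w) + y * (m * m) :=
      add_nonneg (mul_nonneg hx (mul_self_nonneg w)) (mul_nonneg hy (mul_self_nonneg m))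
    have h2 : (x * (w * w) + y * (m * m)) * (x * (w * w) + y * (m * m)) <
        (2 * (z * (m * w))) * (2 * (z * (m * w))) := mul_self_lt_mul_self h1 hlt
    nlinarith [mul_self_nonneg (x * (w * w) - y * (m * m)), mul_self_nonneg (m * w)]
  nlinarith [mul_le_mul_of_nonneg_left key hk]

theorem okB_addMul {s : St} (hs : okB s = true) {t : ℤ × ℤ × ℤ} (ht : 1 ≤ t.1) {j : ℕ} :
    okB (s.addMul j (item t)) = true := by
  obtain ⟨m, a, v⟩ := t
  simp only at ht
  simp only [okB, Bool.and_eq_true, decide_eq_true_eq] at hs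
  obtain ⟨⟨⟨⟨⟨⟨h1, h2⟩, h3⟩, h4⟩, h5⟩, h6⟩, h7⟩ := hs
  set k : ℤ := if m = 1 then 2 else 1 with hk
  have hk0 : 0 ≤ k := by rw [hk]; split_ifs <;> norm_num
  have hjk : (0 : ℤ) ≤ j * k := mul_nonneg (Int.natCast_nonneg j) hk0
  simp only [okB, St.addMul, item, Bool.and_eq_true, decide_eq_true_eq, ← hk, ← mul_assoc]
  simp only [mul_assoc]
  refine ⟨⟨⟨⟨⟨⟨?_, ?_⟩, ?_⟩, ?_⟩, ?_⟩, ?_⟩, ?_⟩
  · nlinarith [mul_nonneg hjk (mul_self_nonneg m)]
  · nlinarith [mul_nonneg hjk (mul_self_nonneg v)]
  · nlinarith [mul_nonneg hjk (mul_self_nonneg a)]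
  · have := gram_add (m := a) (w := m) hjk h3 h1 h4
    nlinarith
  · have := gram_add (m := v) (w := m) hjk h2 h1 h5
    nlinarith
  · have := gram_add (m := a) (w := v) hjk h3 h2 h6
    nlinarith
  · have hsm : 2 * (if m = 1 then 0 else m) ≤ k * (m * m) := by
      rw [hk]
      split_ifs with h
      · subst h; norm_num
      · have : 2 ≤ m := by omega
        nlinarith
    nlinarith [mul_le_mul_of_nonneg_left hsm (Int.natCast_nonneg j)]

theorem okB_tot {f : St} (hf : okB f = true) (L : List (ℤ × ℤ × ℤ)) (hL : ∀ t ∈ L, 1 ≤ t.1) :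
    okB (tot f L) = true := by
  induction L with
  | nil => exact hf
  | cons t L ih =>
    have := okB_addMul (ih fun u hu => hL u (List.mem_cons_of_mem _ hu))
      (hL t List.mem_cons_self) (j := 1)
    simpa [tot] using this

theorem addMul_comm (s d e : St) (i j : ℤ) :
    (s.addMul i d).addMul j e = (s.addMul j e).addMul i d := by
  ext <;> simp only [St.addMul] <;> ring

theorem tot_filter (f : St) (L : List (ℤ × ℤ × ℤ)) (t : ℤ × ℤ × ℤ) :
    tot f L = (tot f (L.filter fun u => decide (u ≠ t))).addMul (L.count t) (item t) := by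
  induction L with
  | nil => ext <;> simp [tot, St.addMul]
  | cons u L ih =>
    by_cases hu : u = t
    · subst hu
      rw [List.filter_cons_of_neg (by simp), List.count_cons_self, tot, ih]
      ext <;> simp only [St.addMul] <;> push_cast <;> ring
    · rw [List.filter_cons_of_pos (by simpa using hu), List.count_cons_of_ne hu, tot, ih, tot,
        addMul_comm]

theorem addMul_neg (s d : St) (j : ℤ) : (s.addMul j d).addMul (-j) d = s := by
  ext <;> simp only [St.addMul] <;> ring

theorem search_sound (g : St → Bool) {f : St} (hf : okB f = true) (hg : g f = true) :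
    ∀ (T L : List (ℤ × ℤ × ℤ)), (∀ t ∈ L, t ∈ T) → (∀ t ∈ T, 1 ≤ t.1) →
      search g T (tot f L) = true := by
  intro T
  induction T with
  | nil =>
    intro L hL _
    have : L = [] := List.eq_nil_iff_forall_not_mem.2 fun t ht => List.not_mem_nil (hL t ht)
    subst this
    exact hg
  | cons t E ih =>
    intro L hL hT
    set L' := L.filter fun u => decide (u ≠ t) with hL'
    have hsub : ∀ u ∈ L', u ∈ E := fun u hu => by
      rw [hL', List.mem_filter] at hu
      rcases List.mem_cons.1 (hL u hu.1) with h | h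
      · exact absurd h (by simpa using hu.2)
      · exact h
    have hT' : ∀ u ∈ E, 1 ≤ u.1 := fun u hu => hT u (List.mem_cons_of_mem _ hu)
    have hok' := okB_tot hf L' fun u hu => hT' u (hsub u hu)
    have hok : okB (tot f L) = true :=
      okB_tot hf L fun u hu => hT u (hL u hu)
    simp only [okB, Bool.and_eq_true, decide_eq_true_eq] at hok'
    obtain ⟨⟨⟨⟨⟨⟨h1, h2⟩, h3⟩, -⟩, -⟩, -⟩, -⟩ := hok'
    simp only [search, Bool.and_eq_true]
    refine ⟨hok, ?_⟩
    rw [List.any_eq_true, tot_filter f L t, ← hL']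
    refine ⟨L.count t, ?_, ?_⟩
    · rw [List.mem_range, Nat.lt_succ_iff]
      have hpos : 1 ≤ (item t).q := by
        have := hT t List.mem_cons_self
        simp only [item]
        split_ifs <;> nlinarith
      rw [Nat.le_div_iff_mul_le (by omega)]
      have he : ((L.count t * (item t).q.toNat : ℕ) : ℤ) = L.count t * (item t).q := by
        push_cast
        rw [Int.toNat_of_nonneg (by omega)]
      have hle : ((L.count t * (item t).q.toNat : ℕ) : ℤ) ≤
          ((tot f L').addMul (L.count t) (item t)).q := by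
        rw [he]
        simp only [St.addMul]
        omega
      omega
    · simp only [Bool.and_eq_true, decide_eq_true_eq]
      refine ⟨⟨?_, ?_⟩, ?_⟩
      · simp only [St.addMul]; omega
      · simp only [St.addMul]; omega
      · rw [addMul_neg]
        exact ih L' hsub hT'

theorem tot_addMul (f d : St) (L : List (ℤ × ℤ × ℤ)) :
    tot (f.addMul 1 d) L = (tot f L).addMul 1 d := by
  induction L with
  | nil => rfl
  | cons u L ih => rw [tot, tot, ih, addMul_comm]

/-- The admissible multiplicities. -/
def degs : List ℤ := [1, 2, 3, 4, 5, 6, 8, 9, 10, 12, 15, 16, 18, 20]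

/-- The admissible triples. -/
def triples (zeroV : Bool) : List (ℤ × ℤ × ℤ) :=
  degs.flatMap fun m => ((List.range 19).flatMap fun i : ℕ => (List.range 5).map fun l : ℕ =>
    (m, (i : ℤ) - 9, (l : ℤ) - 2)).filter fun t =>
      (t.2.2 == 0) == zeroV && (t.2.2 - t.1) % 5 == 0 && (11 * t.1 - t.2.1) % 4 == 0 &&
        (495 * t.2.1) % (11 * t.1) == 0

/-- Larger contributions to the order-five column first. -/
def table (zeroV : Bool) : List (ℤ × ℤ × ℤ) :=
  (triples zeroV).insertionSort fun s t =>
    1000000 * (item t).rv + 5 * (item t).ra + (item t).q ≤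
      1000000 * (item s).rv + 5 * (item s).ra + (item s).q

/-- The final test: all totals used up and the structure constant is an integer. -/
def final (s : St) : Bool :=
  s.q == 0 && s.rv == 0 && s.ra == 0 && s.tmv == 0 && s.tma == 0 && s.tva == 0 &&
    decide (s.sm ≤ 0) && (2640 - s.c) * 165 % 506880 == 0

/-- The characters with value zero on the element of order five come last. -/
def middle (s : St) : Bool := s.rv == 0 && search final (table true) s

/-- The required totals. -/
def target : St := ⟨450, 5, 82, 15, 70, 5, 48, 0⟩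

theorem search_target : search middle (table false) target = false := by decide +kernel

theorem table_pos : ∀ z : Bool, ∀ t ∈ table z, 1 ≤ t.1 := by decide +kernel

theorem mem_table {m a v : ℤ} (hm : m ∈ degs) (ha : |a| ≤ 9) (hv : |v| ≤ 2)
    (h5 : (v - m) % 5 = 0) (h4 : (11 * m - a) % 4 = 0) (hdvd : (495 * a) % (11 * m) = 0) :
    (m, a, v) ∈ table (v == 0) := by
  rw [table, List.mem_insertionSort, triples, List.mem_flatMap]
  rw [abs_le] at ha hv
  refine ⟨m, hm, List.mem_filter.2 ⟨List.mem_flatMap.2 ⟨(a + 9).toNat, List.mem_range.2 (by omega),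
    List.mem_map.2 ⟨(v + 2).toNat, List.mem_range.2 (by omega), ?_⟩⟩, ?_⟩⟩
  · ext <;> simp <;> omega
  · simp [h5, h4, hdvd]

/-- No list of triples has the required totals together with an integral structure constant. -/
theorem no_solution (L : List (ℤ × ℤ × ℤ))
    (hL : ∀ t ∈ L, t.1 ∈ degs ∧ |t.2.1| ≤ 9 ∧ |t.2.2| ≤ 2 ∧ (t.2.2 - t.1) % 5 = 0 ∧
      (11 * t.1 - t.2.1) % 4 = 0 ∧ (495 * t.2.1) % (11 * t.1) = 0)
    {f : St} (hf : okB f = true) (hfin : final f = true) (htot : tot f L = target) : False := by
  have hmem : ∀ t ∈ L, t ∈ table (t.2.2 == 0) := by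
    rintro ⟨m, a, v⟩ ht
    obtain ⟨h1, h2, h3, h4, h5, h6⟩ := hL _ ht
    exact mem_table h1 h2 h3 h4 h5 h6
  set A := L.filter fun t => !(t.2.2 == 0) with hA
  set B := L.filter fun t => t.2.2 == 0 with hB
  have hsplit : tot f L = tot (tot f B) A := by
    rw [hA, hB]
    clear hL hmem htot hA hB A B
    induction L with
    | nil => rfl
    | cons t L ih =>
      by_cases h : t.2.2 = 0
      · rw [List.filter_cons_of_neg (p := fun t : ℤ × ℤ × ℤ => !(t.2.2 == 0)) (by simp [h]),
          List.filter_cons_of_pos (p := fun t : ℤ × ℤ × ℤ => t.2.2 == 0) (by simp [h]), tot, tot,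
          tot_addMul, ih]
      · rw [List.filter_cons_of_pos (p := fun t : ℤ × ℤ × ℤ => !(t.2.2 == 0)) (by simp [h]),
          List.filter_cons_of_neg (p := fun t : ℤ × ℤ × ℤ => t.2.2 == 0) (by simp [h]), tot, tot, ih]
  have hB' : ∀ t ∈ B, t ∈ table true := fun t ht => by
    rw [hB, List.mem_filter] at ht
    simpa [ht.2] using hmem t ht.1
  have hA' : ∀ t ∈ A, t ∈ table false := fun t ht => by
    rw [hA, List.mem_filter] at ht
    simpa [show (t.2.2 == 0) = false by simpa using ht.2] using hmem t ht.1
  have hmid : middle (tot f B) = true := by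
    have hrv : ∀ M : List (ℤ × ℤ × ℤ), (∀ t ∈ M, t.2.2 = 0) → (tot f M).rv = f.rv := by
      intro M hM
      induction M with
      | nil => rfl
      | cons t M ih =>
        rw [tot, St.addMul, ih fun u hu => hM u (List.mem_cons_of_mem _ hu)]
        simp [item, hM t List.mem_cons_self]
    have h0 : (tot f B).rv = 0 := by
      rw [hrv B fun t ht => eq_of_beq
        (List.mem_filter.1 (show t ∈ L.filter (fun t => t.2.2 == 0) from ht)).2]
      simp only [final, Bool.and_eq_true, beq_iff_eq, decide_eq_true_eq] at hfin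
      exact hfin.1.1.1.1.1.1.2
    simp only [middle, Bool.and_eq_true, beq_iff_eq]
    exact ⟨h0, search_sound final hf hfin (table true) B hB' (table_pos true)⟩
  have hokB := okB_tot hf B fun t ht => table_pos true t (hB' t ht)
  have h := search_sound middle hokB hmid (table false) A hA' (table_pos false)
  rw [← hsplit, htot, search_target] at h
  exact Bool.noConfusion h

end Cfsg.Agent.H79.MTwelve.Search
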