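import Cfsg.Agent.H79.MTwelve.Screen
import Cfsg.Agent.H36.SmallInvolution
import Cfsg.Agent.H36.LocalCounting
import Cfsg.Agent.H36.TwoLocal
import Cfsg.Agent.H36.DegreeEq
import Cfsg.Agent.H36.NoSimple
import Cfsg.Agent.H36.Normalizers

/-!
# No simple groups of nine orders dividing 95040
-/

set_option autoImplicit false
set_option linter.unusedSectionVars false
set_option linter.style.haveILetI false

namespace Cfsg.Agent.H79.MTwelve

open Cfsg Cfsg.Agent.H36 Subgroup

variable {G : Type*} [Group G] [Finite G] [IsSimpleGroup G]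

/-- With `144` Sylow `11`-subgroups their normalisers are maximal. -/
theorem normalizer_maximal (hG : ¬ IsMulCommutative G) [Fact (Nat.Prime 11)] (P : Sylow 11 G)
    (hP : Nat.card (P : Subgroup G) = 11) (hk : Nat.card (Sylow 11 G) = 144)
    (hN55 : 55 < Nat.card (normalizer ((P : Subgroup G) : Set G)))
    (M : Subgroup G) (hNM : normalizer ((P : Subgroup G) : Set G) ≤ M) (hM : M ≠ ⊤) :
    M = normalizer ((P : Subgroup G) : Set G) := by
  set N := normalizer ((P : Subgroup G) : Set G)
  have hd : N.relIndex M = Nat.card (Sylow 11 M) := by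
    rw [Sylow.card_eq_index_normalizer (P.subtype (le_normalizer.trans hNM))]
    exact congrArg index (subgroupOf_normalizer_eq (le_normalizer.trans hNM))
  have hmod : N.relIndex M % 11 = 1 := by
    rw [hd, card_sylow_modEq_one 11 M]
  have hmul : N.relIndex M * M.index = 144 := by
    rw [relIndex_mul_index hNM, ← hk, Sylow.card_eq_index_normalizer P]; rfl
  have hdk : N.relIndex M ∈ Nat.divisors 144 :=
    Nat.mem_divisors.2 ⟨⟨_, hmul.symm⟩, by norm_num⟩
  have h3 : N.relIndex M = 1 ∨ N.relIndex M = 12 ∨ N.relIndex M = 144 :=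
    (show ∀ x ∈ Nat.divisors 144, x % 11 = 1 → x = 1 ∨ x = 12 ∨ x = 144 by decide +kernel)
      _ hdk hmod
  rcases h3 with h | h | h
  · exact le_antisymm (relIndex_eq_one.1 h) hNM
  · exfalso
    rw [h] at hmul
    exact absurd (lt_of_lt_of_le hN55 (card_sylow_ne_twelve hG P hP (M := M) (by omega)))
      (lt_irrefl _)
  · exfalso
    rw [h] at hmul
    exact hM (index_eq_one.1 (by omega))

/-- The Sylow `q`-subgroup of `C(P)` is unique when `c` is small. -/
theorem card_sylow_centralizer [Fact (Nat.Prime 11)] (P : Sylow 11 G)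
    (hP : Nat.card (P : Subgroup G) = 11) {q a c : ℕ} [hq : Fact q.Prime]
    (hc : Nat.card (centralizer ((P : Subgroup G) : Set G)) = 11 * c)
    (hqa : q ^ a ∣ c) (huniq : ∀ d ∈ Nat.divisors (c / q ^ a), d % q = 1 → d = 1)
    (hqc : ¬ q ^ (a + 1) ∣ c) (hq11 : q ≠ 11) :
    Nat.card (Sylow q (centralizer ((P : Subgroup G) : Set G))) = 1 := by
  set C := centralizer ((P : Subgroup G) : Set G) with hCdef
  obtain ⟨T⟩ := Sylow.nonempty (p := q) (G := C)
  have hcop : Nat.Coprime (q ^ (a + 1)) 11 :=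
    ((Nat.coprime_primes hq.out (by norm_num)).2 hq11).pow_left _
  have hfac : (Nat.card C).factorization q = a := by
    refine le_antisymm (Nat.le_of_lt_succ ?_) ?_
    · by_contra h
      exact hqc (hcop.dvd_of_dvd_mul_left
        (hc ▸ (hq.out.pow_dvd_iff_le_factorization Nat.card_pos.ne').2 (by omega)))
    · exact (hq.out.pow_dvd_iff_le_factorization Nat.card_pos.ne').1
        (hc ▸ dvd_mul_of_dvd_right hqa 11)
  have hT : Nat.card (T : Subgroup C) = q ^ a := by rw [T.card_eq_multiplicity, hfac]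
  haveI : IsMulCommutative (P : Subgroup G) := by
    haveI : IsCyclic (P : Subgroup G) := isCyclic_of_prime_card hP
    exact IsCyclic.isMulCommutative
  have hPC : (P : Subgroup G) ≤ C := le_centralizer _
  -- `P` is central in `C`, so it normalises `T`
  have hPT : (P : Subgroup G).subgroupOf C ≤ normalizer ((T : Subgroup C) : Set C) := by
    refine le_trans ?_ (centralizer_le_normalizer _)
    intro x hx y hy
    exact Subtype.ext (mem_centralizer_iff.1 y.2 _ hx).symm
  have hdiv : 11 * q ^ a ∣ Nat.card (normalizer ((T : Subgroup C) : Set C)) := by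
    refine Nat.Coprime.mul_dvd_of_dvd_of_dvd ?_ ?_ (hT ▸ card_dvd_of_le le_normalizer)
    · exact Nat.Coprime.pow_right _ ((Nat.coprime_primes (by norm_num) hq.out).2 (Ne.symm hq11))
    · have := card_dvd_of_le hPT
      rwa [Nat.card_congr (subgroupOfEquivOfLe hPC).toEquiv, hP] at this
  have hdiv' : Nat.card (Sylow q C) ∣ c / q ^ a := by
    obtain ⟨e, he⟩ := hdiv
    have h := card_sylow_mul_normalizer T
    rw [he, hc] at h
    refine ⟨e, ?_⟩
    obtain ⟨b, hb⟩ := hqa
    rw [hb, Nat.mul_div_cancel_left _ (pow_pos hq.out.pos a)]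
    rw [hb] at h
    exact Nat.eq_of_mul_eq_mul_left (show 0 < 11 * q ^ a by have := hq.out.pos; positivity)
      (by rw [show 11 * q ^ a * b = 11 * (q ^ a * b) by ring, ← h]; ring)
  refine huniq _ (Nat.mem_divisors.2 ⟨hdiv', fun h0 => ?_⟩) ?_
  · obtain ⟨b, hb⟩ := hqa
    rw [hb, Nat.mul_div_cancel_left _ (pow_pos hq.out.pos a)] at h0
    rw [hb, h0, mul_zero, mul_zero] at hc
    exact Nat.card_pos.ne' hc
  · rw [card_sylow_modEq_one q C]; exact Nat.mod_eq_of_lt hq.out.one_lt

/-- The normaliser of `P` cannot have a normal `q`-subgroup that is Sylow in it and not in `G`. -/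
theorem false_of_normal_part (hG : ¬ IsMulCommutative G) [Fact (Nat.Prime 11)] (P : Sylow 11 G)
    (hP : Nat.card (P : Subgroup G) = 11) (hk : Nat.card (Sylow 11 G) = 144) {q a c : ℕ}
    [hq : Fact q.Prime] (ha : a ≠ 0) (hc : Nat.card (centralizer ((P : Subgroup G) : Set G)) = 11 * c)
    (hqa : q ^ a ∣ c) (hone : Nat.card (Sylow q (centralizer ((P : Subgroup G) : Set G))) = 1)
    (hcN : 55 < Nat.card (normalizer ((P : Subgroup G) : Set G)))
    (hqN : ¬ q ^ (a + 1) ∣ Nat.card (normalizer ((P : Subgroup G) : Set G)))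
    (hqG : q ^ (a + 1) ∣ Nat.card G) (hq11 : q ≠ 11) : False := by
  set N := normalizer ((P : Subgroup G) : Set G) with hNdef
  set C := centralizer ((P : Subgroup G) : Set G) with hCdef
  have hCN : C ≤ N := centralizer_le_normalizer _
  have hqC : ¬ q ^ (a + 1) ∣ Nat.card C := fun h => hqN (h.trans (card_dvd_of_le hCN))
  obtain ⟨T⟩ := Sylow.nonempty (p := q) (G := C)
  have hfac : (Nat.card C).factorization q = a := by
    refine le_antisymm (Nat.le_of_lt_succ ?_) ?_
    · by_contra h
      exact hqC ((hq.out.pow_dvd_iff_le_factorization Nat.card_pos.ne').2 (by omega))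
    · exact (hq.out.pow_dvd_iff_le_factorization Nat.card_pos.ne').1
        (hc ▸ dvd_mul_of_dvd_right hqa 11)
  have hT : Nat.card (T : Subgroup C) = q ^ a := by rw [T.card_eq_multiplicity, hfac]
  haveI : Subsingleton (Sylow q C) := (Nat.card_eq_one_iff_unique.1 hone).1
  haveI : (T : Subgroup C).Normal := T.normal_of_subsingleton
  haveI hchar : (T : Subgroup C).Characteristic := Sylow.characteristic_of_normal T inferInstance
  set Q := (T : Subgroup C).map C.subtype with hQdef
  have hQ : Nat.card Q = q ^ a := by rw [hQdef, card_map_of_injective C.subtype_injective, hT]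
  haveI : (C.subgroupOf N).Normal := by
    rw [hCdef, hNdef]
    infer_instance
  have hNQ : N ≤ normalizer (Q : Set G) := by
    intro n hn
    have hnC : n ∈ normalizer (C : Set G) := by
      rw [mem_normalizer_iff]
      intro x
      constructor
      · intro hx
        exact ((inferInstance : (C.subgroupOf N).Normal).conj_mem ⟨x, hCN hx⟩ hx ⟨n, hn⟩)
      · intro hx
        have h := (inferInstance : (C.subgroupOf N).Normal).conj_mem ⟨_, hCN hx⟩ hx ⟨n⁻¹, N.inv_mem hn⟩
        simpa [mem_subgroupOf, mul_assoc] using h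
    have key : ∀ m ∈ normalizer (C : Set G), ∀ x ∈ Q, m * x * m⁻¹ ∈ Q := by
      rintro m hm _ ⟨t, ht, rfl⟩
      let σ : C ≃* C :=
        { toFun := fun x => ⟨m * x * m⁻¹, (mem_normalizer_iff.1 hm _).1 x.2⟩
          invFun := fun x => ⟨m⁻¹ * x * m, by
            have := (mem_normalizer_iff.1 (inv_mem hm) _).1 x.2
            rwa [inv_inv] at this⟩
          left_inv := fun x => Subtype.ext (by simp [mul_assoc])
          right_inv := fun x => Subtype.ext (by simp [mul_assoc])
          map_mul' := fun x y => Subtype.ext (by simp [mul_assoc]) }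
      exact ⟨σ t, (characteristic_iff_map_le.1 hchar σ) ⟨t, ht, rfl⟩, rfl⟩
    rw [mem_normalizer_iff]
    intro x
    refine ⟨key n hnC x, fun hx => ?_⟩
    have := key n⁻¹ (inv_mem hnC) _ hx
    rwa [show n⁻¹ * (n * x * n⁻¹) * n⁻¹⁻¹ = x by group] at this
  have hne : normalizer (Q : Set G) ≠ ⊤ := by
    refine normalizer_ne_top (fun h => ?_) fun h => ?_
    · rw [h, card_bot] at hQ
      exact (Nat.one_lt_pow ha hq.out.one_lt).ne hQ
    · rw [h, card_top] at hQ
      have := (Nat.prime_dvd_prime_iff_eq (show Nat.Prime 11 by norm_num) hq.out).1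
        ((show Nat.Prime 11 by norm_num).dvd_of_dvd_pow (hQ ▸ (hP ▸ card_subgroup_dvd_card _)))
      exact hq11 this.symm
  have heq := normalizer_maximal hG P hP hk hcN _ hNQ hne
  have hbig := Sylow.prime_pow_dvd_card_normalizer hqG hQ
  rw [heq] at hbig
  exact hqN hbig

theorem false_11880 (hG : ¬ IsMulCommutative G) (hn : Nat.card G = 11880)
    [Fact (Nat.Prime 11)] (P : Sylow 11 G) (hP : Nat.card (P : Subgroup G) = 11)
    (hN : Nat.card (normalizer ((P : Subgroup G) : Set G)) = 22) : False := by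
  classical
  haveI := Fintype.ofFinite G
  obtain ⟨hC, he⟩ := self_central (e := 2) hG P hP (by rw [hN]) Nat.prime_two
  obtain ⟨z, hz, hz1⟩ := exists_involution (G := G) (by rw [hn]; norm_num)
  obtain ⟨B, x, hB2, hB, hB1, hmod, -, heq⟩ :=
    SelfCentral.criterion_two hG hP hC he (by norm_num) hz hz1
  rw [hn] at hB hB1 heq
  have key : ∀ d ∈ Nat.divisors 11880, ∀ s ∈ [(1 : ℤ), -1], 2 ≤ d →
      ((s * d + 1).natAbs ∣ 11880) → ((11 : ℤ) ∣ s * d - 1) → s * d = -10 := by decide +kernel
  have hB10 : B = -10 := by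
    rcases Int.natAbs_eq B with h | h
    · exact h.trans ((one_mul _).symm.trans (key _ (Nat.mem_divisors.2 ⟨hB, by norm_num⟩) 1 (by simp)
        hB2 (by rwa [one_mul, ← h]) (by rw [one_mul, ← h]; exact_mod_cast hmod)))
    · have hh : (-1 : ℤ) * (B.natAbs : ℤ) = B := by omega
      exact hh.symm.trans (key _ (Nat.mem_divisors.2 ⟨hB, by norm_num⟩) (-1) (by simp) hB2
        (by rwa [hh]) (by rw [hh]; exact_mod_cast hmod))
  subst hB10
  set c := Nat.card (centralizer ({z} : Set G))
  have hc0 : 0 < c := Nat.card_pos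
  have h12 : ((-10 - x) ^ 2 * 12 : ℤ) = (c : ℤ) ^ 2 := by push_cast at heq; linarith
  set y := (-10 - x : ℤ).natAbs
  have hy : y ^ 2 * 12 = c ^ 2 := by
    have : ((y ^ 2 * 12 : ℕ) : ℤ) = ((c ^ 2 : ℕ) : ℤ) := by
      push_cast
      rw [← h12, Int.natAbs_sq]
    exact_mod_cast this
  have hfac := congrArg (fun k => k.factorization 3) hy
  have hy0 : y ≠ 0 := fun h => by
    rw [h] at hy
    exact absurd hy.symm (by simpa using (pow_pos hc0 2).ne')
  simp only [Nat.factorization_mul (pow_ne_zero 2 hy0) (show (12 : ℕ) ≠ 0 by norm_num),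
    Nat.factorization_pow, Finsupp.add_apply, Finsupp.smul_apply, smul_eq_mul] at hfac
  rw [show (12 : ℕ).factorization 3 = 1 by
    rw [show 12 = 3 ^ 1 * 4 by norm_num, Nat.factorization_mul (by norm_num) (by norm_num),
      Finsupp.add_apply, Nat.prime_three.factorization_pow, Finsupp.single_eq_same,
      Nat.factorization_eq_zero_of_not_dvd (by norm_num)]] at hfac
  omega

theorem false_15840 (hG : ¬ IsMulCommutative G) (hn : Nat.card G = 15840)
    [Fact (Nat.Prime 11)] (P : Sylow 11 G) (hP : Nat.card (P : Subgroup G) = 11)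
    (hk : Nat.card (Sylow 11 G) = 144)
    (hC : centralizer ((P : Subgroup G) : Set G) = P) : False := by
  classical
  haveI : Fact (Nat.Prime 5) := ⟨by norm_num⟩
  haveI : Fact (Nat.Prime 2) := ⟨Nat.prime_two⟩
  set N := normalizer ((P : Subgroup G) : Set G) with hNdef
  have hN : Nat.card N = 11 * 10 := card_normalizer_of_card_sylow P hn hk (by norm_num)
  have hPcard : ∀ v : G, v ∈ (P : Subgroup G) → orderOf v ∣ 11 := fun v hv =>
    hP ▸ Subgroup.orderOf_dvd_natCard _ hv
  -- an element of order ten in `N`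
  obtain ⟨φ⟩ := SelfCentral.exists_iso hP
  have hker : ∀ n : N, n ∈ (SelfCentral.unitHom φ).ker ↔ (n : G) ∈ (P : Subgroup G) :=
    fun n => SelfCentral.mem_ker_unitHom φ hC n
  have hrange : Nat.card (SelfCentral.unitHom φ).range = 10 := by
    have h1 := (SelfCentral.unitHom φ).ker.card_mul_index
    rw [index_ker] at h1
    have hk11 : Nat.card (SelfCentral.unitHom φ).ker = 11 := by
      have heq : (SelfCentral.unitHom φ).ker = (P : Subgroup G).subgroupOf N := by
        ext n; exact hker n
      rw [heq, Nat.card_congr (subgroupOfEquivOfLe le_normalizer).toEquiv, hP]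
    rw [hk11, hN] at h1
    omega
  obtain ⟨⟨_, n, rfl⟩, hgen⟩ := IsCyclic.exists_ofOrder_eq_natCard
    (α := (SelfCentral.unitHom φ).range)
  rw [hrange, ← orderOf_coe] at hgen
  change orderOf (SelfCentral.unitHom φ n) = 10 at hgen
  have h10 : 10 ∣ orderOf n := hgen ▸ orderOf_map_dvd _ n
  set w : G := ((n ^ (orderOf n / 10) : N) : G) with hwdef
  have hw : orderOf w = 10 := by
    rw [hwdef, orderOf_coe, orderOf_pow_orderOf_div (orderOf_pos n).ne' h10]
  have hwN : w ∈ N := (n ^ (orderOf n / 10) : N).2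
  set u := w ^ 5 with hudef
  set y := w ^ 2 with hydef
  have hu : orderOf u = 2 := by rw [hudef, orderOf_pow, hw]; decide
  have hy : orderOf y = 5 := by rw [hydef, orderOf_pow, hw]; decide
  have huN : u ∈ N := pow_mem hwN 5
  have hyN : y ∈ N := pow_mem hwN 2
  have hyC : y ∉ centralizer ((P : Subgroup G) : Set G) := fun h => by
    have := hPcard y (hC ▸ h)
    rw [hy] at this; norm_num at this
  have hu2 : u * u = 1 := by rw [← pow_two, ← hu, pow_orderOf_eq_one]
  have hu1 : u ≠ 1 := fun h => by rw [h, orderOf_one] at hu; norm_num at hu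
  obtain ⟨f, hf, hf14, hf4⟩ :=
    exists_card_centralizer_involution hG P hP (by norm_num) hC hN (m := 13) hk hu2 hu1 huN
  have hfpos : 0 < f := Nat.pos_of_ne_zero fun h => Nat.card_pos.ne' (by rw [hf, h, mul_zero])
  have hCu : Nat.card (centralizer ({u} : Set G)) = 80 := by
    by_contra h80
    refine false_of_small_involution hG hu (n := 5) (k := 3) (Or.inr ⟨le_rfl, le_rfl⟩)
      (by rw [hn]; norm_num) (by rw [hn]; norm_num) ?_
    rw [hf] at h80 ⊢
    have : f = 4 ∨ f = 8 ∨ f = 12 := by omega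
    rcases this with rfl | rfl | rfl
    · norm_num
    · norm_num at h80
    · norm_num
  -- `y` generates a normal subgroup of the centralizer
  set K := centralizer ({u} : Set G) with hKdef
  have hyK : y ∈ K := mem_centralizer_singleton_iff.2 ((Commute.pow_pow_self w 2 5).eq)
  set Y := zpowers y with hYdef
  have hY : Nat.card Y = 5 := by rw [hYdef, Nat.card_zpowers, hy]
  obtain ⟨R, hR⟩ : ∃ R : Sylow 5 G, Y ≤ (R : Subgroup G) :=
    (IsPGroup.of_card (n := 1) (by rw [hY, pow_one])).exists_le_sylow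
  have hRcard : Nat.card (R : Subgroup G) = 5 :=
    by simpa using card_sylow_eq hn R (a := 1) (m := 3168) (by norm_num) (by norm_num)
  have hRY : (R : Subgroup G) = Y := (eq_of_le_of_card_ge hR (by rw [hY, hRcard])).symm
  have hYK : Y ≤ K := zpowers_le.2 hyK
  set RK := R.subtype (hRY ▸ hYK) with hRK
  have hn5 : Nat.card (Sylow 5 K) = 1 := by
    have hmod := card_sylow_modEq_one 5 K
    have hmul := card_sylow_mul_normalizer RK
    rw [hCu] at hmul
    have hd : 10 ∣ Nat.card (normalizer ((RK : Subgroup K) : Set K)) := by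
      have hsub : (zpowers w).subgroupOf K ≤ normalizer ((RK : Subgroup K) : Set K) := by
        refine le_trans ?_ (centralizer_le_normalizer _)
        intro a ha b hb
        have hb' : (b : G) ∈ Y := hRY ▸ (mem_subgroupOf.1 hb)
        obtain ⟨i, hi⟩ := mem_zpowers_iff.1 hb'
        obtain ⟨j, hj⟩ := mem_zpowers_iff.1 (mem_subgroupOf.1 ha)
        refine Subtype.ext ?_
        show (b : G) * (a : G) = a * b
        rw [← hi, ← hj, hydef]
        exact (((Commute.refl w).pow_left 2).zpow_zpow i j).eq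
      have hwK : zpowers w ≤ K := zpowers_le.2
        (mem_centralizer_singleton_iff.2 ((Commute.refl w).pow_right 5).eq)
      have := card_dvd_of_le hsub
      rwa [Nat.card_congr (subgroupOfEquivOfLe hwK).toEquiv, Nat.card_zpowers, hw] at this
    obtain ⟨e, he⟩ := hd
    have hle : Nat.card (Sylow 5 K) ≤ 8 := by
      rw [he] at hmul
      have : Nat.card (Sylow 5 K) * e = 8 := by linarith
      exact Nat.le_of_dvd (by norm_num) ⟨e, this.symm⟩
    have hdvd : Nat.card (Sylow 5 K) ∣ 80 := ⟨_, hmul.symm⟩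
    have : Nat.card (Sylow 5 K) % 5 = 1 := hmod
    interval_cases h : Nat.card (Sylow 5 K) <;> omega
  have hKN : K ≤ normalizer (Y : Set G) := by
    haveI : Subsingleton (Sylow 5 K) := (Nat.card_eq_one_iff_unique.1 hn5).1
    haveI hnorm : (RK : Subgroup K).Normal := RK.normal_of_subsingleton
    intro k hk
    rw [mem_normalizer_iff]
    intro x
    have key : ∀ k ∈ K, ∀ x ∈ Y, k * x * k⁻¹ ∈ Y := fun k hk x hx => by
      have := hnorm.conj_mem ⟨x, hYK hx⟩ (show x ∈ (R : Subgroup G) by rwa [hRY]) ⟨k, hk⟩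
      exact hRY ▸ (show k * x * k⁻¹ ∈ (R : Subgroup G) from this)
    refine ⟨key k hk x, fun hx => ?_⟩
    have := key k⁻¹ (K.inv_mem hk) _ hx
    rwa [show k⁻¹ * (k * x * k⁻¹) * k⁻¹⁻¹ = x by group] at this
  have hNY : 240 ≤ Nat.card (normalizer (Y : Set G)) := by
    have h80 : 80 ∣ Nat.card (normalizer (Y : Set G)) := hCu ▸ card_dvd_of_le hKN
    have hmul := card_sylow_mul_normalizer R
    rw [hRY, hn] at hmul
    have hmod : Nat.card (Sylow 5 G) % 5 = 1 := card_sylow_modEq_one 5 G
    obtain ⟨e, he⟩ := h80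
    rw [he] at hmul ⊢
    have hde : Nat.card (Sylow 5 G) ∈ Nat.divisors 198 :=
      Nat.mem_divisors.2 ⟨⟨e, by linarith⟩, by norm_num⟩
    have h66 : Nat.card (Sylow 5 G) ≤ 66 :=
      (show ∀ d ∈ Nat.divisors 198, d % 5 = 1 → d ≤ 66 by decide +kernel) _ hde hmod
    by_contra hlt
    have he2 : e ≤ 2 := by omega
    have : Nat.card (Sylow 5 G) * e ≤ 66 * 2 := Nat.mul_le_mul h66 he2
    linarith
  -- it fixes too many Sylow subgroups
  set M := normalizer (Y : Set G) with hMdef
  have hfix : Nat.card (M ⧸ N.subgroupOf M) ≤ Nat.card (MulAction.fixedBy (G ⧸ N) y) := by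
    refine Nat.card_le_card_of_injective
      (fun q => ⟨QuotientGroup.mk ((Quotient.out q : M) : G), ?_⟩) ?_
    · set g : G := ((Quotient.out q : M) : G)
      have hg : g⁻¹ * y * g ∈ Y := by
        have := (mem_normalizer_iff.1 (M.inv_mem (Quotient.out q : M).2) y).1 (mem_zpowers y)
        rwa [inv_inv] at this
      exact (smul_mk_eq_iff N y g).2 ((zpowers_le.2 hyN) hg)
    · intro a b hab
      have h := congrArg Subtype.val hab
      rw [← QuotientGroup.out_eq' a, ← QuotientGroup.out_eq' b]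
      exact QuotientGroup.eq.2 (by simpa [mem_subgroupOf] using QuotientGroup.eq.1 h)
  have horb := card_fixedBy_le_orbits (X := G ⧸ N) (show Nat.Prime 11 by norm_num)
    (P : Subgroup G) hP hyN hyC
  have horb' : Nat.card (MulAction.fixedBy (G ⧸ N) y) ≤ 1 + 13 :=
    horb.trans (le_of_eq (card_orbits_eq P hP 13 hk))
  have hinf : Nat.card (N.subgroupOf M) ∣ 10 := by
    have e1 : Nat.card (N.subgroupOf M) = Nat.card (N ⊓ M : Subgroup G) := by
      rw [← inf_subgroupOf_right, Nat.card_congr (subgroupOfEquivOfLe inf_le_right).toEquiv]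
    rw [e1]
    have h110 : Nat.card (N ⊓ M : Subgroup G) ∣ 11 * 10 := hN ▸ card_dvd_of_le inf_le_left
    refine (Nat.Coprime.dvd_of_dvd_mul_left ?_ h110)
    rw [Nat.coprime_comm, (show Nat.Prime 11 by norm_num).coprime_iff_not_dvd]
    intro h11
    obtain ⟨v, hv⟩ := exists_prime_orderOf_dvd_card' 11 h11
    rw [← orderOf_coe] at hv
    have hvP : (v : G) ∈ (P : Subgroup G) := mem_sylow_of_mem_normalizer P hv (mem_inf.1 v.2).1
    have hvY : (v : G) * y * (v : G)⁻¹ ∈ Y :=
      (mem_normalizer_iff.1 (mem_inf.1 v.2).2 y).1 (mem_zpowers y)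
    have hvy : (v : G) * y * (v : G)⁻¹ * y⁻¹ ∈ (P : Subgroup G) := by
      rw [show (v : G) * y * (v : G)⁻¹ * y⁻¹ = v * (y * (v : G)⁻¹ * y⁻¹) by group]
      exact mul_mem hvP ((mem_normalizer_iff.1 hyN _).1 (inv_mem hvP))
    have h1 := hPcard _ hvy
    have h2 : orderOf ((v : G) * y * (v : G)⁻¹ * y⁻¹) ∣ 5 :=
      hY ▸ Subgroup.orderOf_dvd_natCard _ (mul_mem hvY (inv_mem (mem_zpowers y)))
    have h3 := orderOf_eq_one_iff.1 (Nat.eq_one_of_dvd_coprimes (by norm_num) h2 h1)
    rw [mul_inv_eq_one, mul_inv_eq_iff_eq_mul] at h3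
    apply hyC
    rw [mem_centralizer_iff]
    intro z hz
    rw [← sylow_eq_zpowers P hP hv hvP] at hz
    obtain ⟨i, rfl⟩ := mem_zpowers_iff.1 hz
    exact ((show Commute (v : G) y from h3).zpow_left i).eq
  have hcard := card_eq_card_quotient_mul_card_subgroup (N.subgroupOf M)
  have := Nat.le_of_dvd (by norm_num) hinf
  have := Nat.mul_le_mul (hfix.trans horb') this
  omega

theorem false_of_mem_orders (hG : ¬ IsMulCommutative G) (hn : Nat.card G ∈ orders) : False := by
  haveI : Fact (Nat.Prime 11) := ⟨by norm_num⟩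
  obtain ⟨P⟩ := Sylow.nonempty (p := 11) (G := G)
  obtain ⟨hP, d, r, c, hmem, hd, hr, hc⟩ := exists_survivor hG (List.mem_cons_of_mem _ hn) P
  have hmul := card_normalizer_eq_mul (P : Subgroup G)
  rw [hc, hr] at hmul
  simp only [survivors, List.mem_cons, List.not_mem_nil, or_false, Prod.mk.injEq] at hmem
  rcases hmem with ⟨e, rfl, rfl, rfl⟩ | ⟨e, rfl, rfl, rfl⟩ | ⟨e, rfl, rfl, rfl⟩ |
    ⟨e, rfl, rfl, rfl⟩ | ⟨e, rfl, rfl, rfl⟩ | ⟨e, rfl, rfl, rfl⟩ | ⟨e, -⟩ | ⟨e, -⟩ | ⟨e, -⟩
  · exact false_11880 hG e P hP (by rw [hmul])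
  · refine false_15840 hG e P hP hd ?_
    haveI : IsCyclic (P : Subgroup G) := isCyclic_of_prime_card hP
    haveI : IsMulCommutative (P : Subgroup G) := IsCyclic.isMulCommutative
    exact (eq_of_le_of_card_ge (le_centralizer _) (by rw [hc, hP, mul_one])).symm
  · haveI : Fact (Nat.Prime 3) := ⟨Nat.prime_three⟩
    exact false_of_normal_part hG P hP hd (q := 3) (a := 1) one_ne_zero hc (by norm_num)
      (card_sylow_centralizer (a := 1) P hP hc (by norm_num) (by decide +kernel) (by norm_num) (by norm_num))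
      (by rw [hmul]; norm_num) (by rw [hmul]; norm_num) (by rw [e]; norm_num)
      (by norm_num)
  · haveI : Fact (Nat.Prime 2) := ⟨Nat.prime_two⟩
    exact false_of_normal_part hG P hP hd (q := 2) (a := 2) two_ne_zero hc (by norm_num)
      (card_sylow_centralizer (a := 2) P hP hc (by norm_num) (by decide +kernel) (by norm_num) (by norm_num))
      (by rw [hmul]; norm_num) (by rw [hmul]; norm_num) (by rw [e]; norm_num)
      (by norm_num)
  · haveI : Fact (Nat.Prime 3) := ⟨Nat.prime_three⟩
    exact false_of_normal_part hG P hP hd (q := 3) (a := 1) one_ne_zero hc (by norm_num)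
      (card_sylow_centralizer (a := 1) P hP hc (by norm_num) (by decide +kernel) (by norm_num) (by norm_num))
      (by rw [hmul]; norm_num) (by rw [hmul]; norm_num) (by rw [e]; norm_num)
      (by norm_num)
  · haveI : Fact (Nat.Prime 3) := ⟨Nat.prime_three⟩
    exact false_of_normal_part hG P hP hd (q := 3) (a := 1) one_ne_zero hc (by norm_num)
      (card_sylow_centralizer (a := 1) P hP hc (by norm_num) (by decide +kernel) (by norm_num) (by norm_num))
      (by rw [hmul]; norm_num) (by rw [hmul]; norm_num) (by rw [e]; norm_num)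
      (by norm_num)
  all_goals
    rw [e] at hn
    exact absurd hn (by decide)

end Cfsg.Agent.H79.MTwelve
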