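import Cfsg.Agent.H79.MTwelve.ElevenExists
import Cfsg.Agent.H86.PrimeOrderBlock
import Cfsg.Agent.BlockBasic.Local
import Cfsg.Agent.S0165

/-!
# The centraliser of an element of order five in a simple group of order 95040

Given the list of degrees, the principal five-block excludes two classes of elements of order
five; the character of degree fifty-four excludes a factor three in the centraliser.
-/

set_option autoImplicit false
set_option linter.unusedSectionVars false

namespace Cfsg.Agent.H79.MTwelve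

open scoped ComplexConjugate
open Cfsg.Agent.CharBasic Cfsg.Agent.H81

universe u

variable {G : Type u} [Group G] [Fintype G]

/-- The Sylow five-subgroup at an element of order five. -/
theorem sylow_five (hn : Nat.card G = 95040) [Fact (Nat.Prime 5)] {t : G} (ht : orderOf t = 5) :
    ∃ T : Sylow 5 G, (T : Subgroup G) = Subgroup.zpowers t ∧ Nat.card (T : Subgroup G) = 5 ∧
      Subgroup.centralizer ((T : Subgroup G) : Set G) = Subgroup.centralizer ({t} : Set G) := by
  have hY : Nat.card (Subgroup.zpowers t) = 5 := by rw [Nat.card_zpowers, ht]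
  obtain ⟨T, hT⟩ := (IsPGroup.of_card (n := 1) (by rw [hY, pow_one])).exists_le_sylow
  have hTc : Nat.card (T : Subgroup G) = 5 := by
    simpa using H36.card_sylow_eq hn T (a := 1) (m := 19008) (by norm_num) (by norm_num)
  have hTt : (T : Subgroup G) = Subgroup.zpowers t :=
    (Subgroup.eq_of_le_of_card_ge hT (by rw [hY, hTc])).symm
  refine ⟨T, hTt, hTc, ?_⟩
  rw [hTt]
  ext g
  simp only [Subgroup.mem_centralizer_iff, SetLike.mem_coe, Set.mem_singleton_iff, forall_eq]
  refine ⟨fun h => h t (Subgroup.mem_zpowers t), fun h z hz => ?_⟩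
  obtain ⟨i, rfl⟩ := Subgroup.mem_zpowers_iff.1 hz
  exact ((show Commute t g from h).zpow_left i).eq

/-- The degree of a nontrivial character divides the order and is one of the list. -/
theorem degree_kind [IsSimpleGroup G] (hn : Nat.card G = 95040) (hB : DegreeList G)
    (χ : Cfsg.IrrCharacter G) :
    (χ : G → ℂ) 1 = (Cfsg.charDegree (χ : G → ℂ) : ℂ) ∧
    Cfsg.charDegree (χ : G → ℂ) ∣ 95040 ∧
    ((χ : G → ℂ) = (fun _ => (1 : ℂ)) ∧ Cfsg.charDegree (χ : G → ℂ) = 1 ∨
      Cfsg.charDegree (χ : G → ℂ) ≠ 1 ∧ (11 ∣ Cfsg.charDegree (χ : G → ℂ) ∨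
        Cfsg.charDegree (χ : G → ℂ) = 45 ∨ Cfsg.charDegree (χ : G → ℂ) = 54 ∨
        Cfsg.charDegree (χ : G → ℂ) = 120 ∨ Cfsg.charDegree (χ : G → ℂ) = 144 ∨
        Cfsg.charDegree (χ : G → ℂ) = 16)) := by
  have hG : ¬ IsMulCommutative G := H36.not_comm_of_simple (by rw [hn]; norm_num)
  haveI : Fact (Nat.Prime 11) := ⟨by norm_num⟩
  obtain ⟨x, hx⟩ := exists_prime_orderOf_dvd_card' (G := G) 11 (by rw [hn]; norm_num)
  have hd := (H83.charDegree_eq χ.2).1
  refine ⟨hd, hn ▸ H83.charDegree_dvd_card χ.2, ?_⟩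
  by_cases h1 : (χ : G → ℂ) = fun _ => (1 : ℂ)
  · refine Or.inl ⟨h1, ?_⟩
    rw [h1] at hd ⊢
    have hd' : ((1 : ℕ) : ℂ) = (Cfsg.charDegree (fun _ : G => (1 : ℂ)) : ℂ) :=
      Nat.cast_one.trans hd
    exact_mod_cast hd'.symm
  · have hne : Cfsg.charDegree (χ : G → ℂ) ≠ 1 := fun e => by
      obtain ⟨d, hd2, hd', -⟩ := H36.SelfCentral.exists_degree_two_le hG (χ := χ)
        (fun q => h1 ((congrArg Subtype.val q).trans rfl))
      rw [hd, e] at hd'
      have : (1 : ℕ) = d := by exact_mod_cast hd'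
      omega
    refine Or.inr ⟨hne, ?_⟩
    rcases hB.cases χ hd hne hx with ⟨-, m, hm⟩ | ⟨e, -⟩ | ⟨e, -⟩ | e | e | ⟨e, -⟩
    · exact Or.inl ⟨m, hm⟩
    all_goals simp [e]

/-- There is only one class of cyclic generators: `e = 4`. -/
theorem relIndex_five [IsSimpleGroup G] (hn : Nat.card G = 95040) (hB : DegreeList G)
    [Fact (Nat.Prime 5)] (T : Sylow 5 G) (hTc : Nat.card (T : Subgroup G) = 5) :
    (Subgroup.centralizer ((T : Subgroup G) : Set G)).relIndex
      (Subgroup.normalizer ((T : Subgroup G) : Set G)) = 4 := by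
  classical
  have hG : ¬ IsMulCommutative G := H36.not_comm_of_simple (by rw [hn]; norm_num)
  set e := (Subgroup.centralizer ((T : Subgroup G) : Set G)).relIndex
    (Subgroup.normalizer ((T : Subgroup G) : Set G)) with he
  have h1 : 1 < e := H36.one_lt_relIndex_centralizer hG T (by rw [hn]; norm_num)
  have hd : e ∣ 4 := H36.relIndex_centralizer_dvd_of_prime (by norm_num) _ hTc
  by_contra he4
  have he2 : e = 2 := by
    have : e ≤ 4 := Nat.le_of_dvd (by norm_num) hd
    interval_cases e <;> omega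
  obtain ⟨M, hM⟩ := BlockBasic.exists_isPModular (p := 5) (by norm_num)
  obtain ⟨X, Y, εX, ε, hmem, -, hXc, hYc, hX, hε, hY, -, hrel⟩ :=
    H86.Abelian.exists_structure T hTc hM
  replace hXc : X.card = 2 := hXc.trans he2
  replace hYc : Y.card = 2 := hYc.trans (show (5 - 1) / e = 2 by rw [he2])
  replace hY : ∀ θ ∈ Y, (Cfsg.charDegree (θ : G → ℂ) : ℤ) ≡ ε * 2 [ZMOD 5] := fun θ hθ => by
    have h : (Cfsg.charDegree (θ : G → ℂ) : ℤ) ≡ ε * (e : ℤ) [ZMOD 5] := hY θ hθ
    rwa [he2] at h
  let T1 : Cfsg.IrrCharacter G := ⟨fun _ => (1 : ℂ), isIrrCharacter_one⟩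
  have hT1 : Cfsg.charDegree (T1 : G → ℂ) = 1 := by
    rcases degree_kind hn hB T1 with ⟨-, -, ⟨-, h⟩ | ⟨h, -⟩⟩
    · exact h
    · exfalso
      have hd := (H83.charDegree_eq T1.2).1
      have hd' : ((1 : ℕ) : ℂ) = (Cfsg.charDegree (T1 : G → ℂ) : ℂ) := Nat.cast_one.trans hd
      exact h (by exact_mod_cast hd'.symm)
  have hprinc : T1 ∈ Cfsg.principalBlock M G := fun g => ⟨0, 1, M.zero_mem,
    (Ideal.ne_top_iff_one M).1 hM.2.1.ne_top, by simp [T1]⟩
  have hT1X : T1 ∈ X := by
    refine ((hmem T1).1 hprinc).resolve_right fun hin => ?_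
    have h := hY T1 hin
    rw [hT1] at h
    rcases hε with rfl | rfl <;> simp [Int.ModEq] at h
  have hεT : εX T1 = 1 := by
    obtain ⟨h | h, h', -⟩ := hX T1 hT1X
    · exact h
    · rw [hT1, h] at h'
      simp [Int.ModEq] at h'
  obtain ⟨f, hf⟩ := Finset.card_eq_one.1 (show (X.erase T1).card = 1 by
    rw [Finset.card_erase_of_mem hT1X, hXc])
  have hfX : f ∈ X := Finset.mem_of_mem_erase (hf.symm ▸ Finset.mem_singleton_self f)
  have hfne : f ≠ T1 := Finset.ne_of_mem_erase (hf.symm ▸ Finset.mem_singleton_self f)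
  obtain ⟨θ, hθ⟩ := Finset.card_pos.1 (show 0 < Y.card by rw [hYc]; norm_num)
  have hone := hrel θ hθ 1 (by rw [orderOf_one]; norm_num)
  rw [← Finset.add_sum_erase X _ hT1X, hf, Finset.sum_singleton, hεT] at hone
  obtain ⟨hθd, hθdvd, hθk⟩ := degree_kind hn hB θ
  obtain ⟨hfd, hfdvd, hfk⟩ := degree_kind hn hB f
  rcases hfk with ⟨hf1, -⟩ | ⟨hf1, hfk⟩
  · exact hfne (Subtype.ext hf1)
  rw [hθd, hfd] at hone
  set a := Cfsg.charDegree (f : G → ℂ) with ha
  set b := Cfsg.charDegree (θ : G → ℂ) with hb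
  have heq : ε * (b : ℤ) = 1 + εX f * (a : ℤ) := by
    have h : ((ε * (b : ℤ) : ℤ) : ℂ) = ((1 + εX f * (a : ℤ) : ℤ) : ℂ) := by
      push_cast
      simp only [T1] at hone
      push_cast at hone
      linear_combination hone
    exact Int.cast_injective h
  obtain ⟨hεf, haM, -⟩ := hX f hfX
  have hbM := hY θ hθ
  rw [← ha] at haM
  rw [← hb] at hbM
  rcases hθk with ⟨-, hb1⟩ | ⟨-, hθk⟩
  · rw [hb1] at hbM
    rcases hε with rfl | rfl <;> simp [Int.ModEq] at hbM
  simp only [Int.ModEq] at haM hbM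
  have key : (a = 143 ∨ b = 143) := by
    rcases hε with rfl | rfl <;> rcases hεf with h | h <;> rw [h] at haM heq <;>
      push_cast at hbM <;> omega
  rcases key with h | h
  · rw [h] at hfdvd; norm_num at hfdvd
  · rw [h] at hθdvd; norm_num at hθdvd

/-- An element of order five is conjugate to all its generators. -/
theorem isConj_pow_of_relIndex [IsSimpleGroup G] [Fact (Nat.Prime 5)] {t : G} (T : Sylow 5 G)
    (hTc : Nat.card (T : Subgroup G) = 5) (htT : t ∈ (T : Subgroup G))
    (he : (Subgroup.centralizer ((T : Subgroup G) : Set G)).relIndex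
      (Subgroup.normalizer ((T : Subgroup G) : Set G)) = 4) {k : ℕ} (hk : ¬ 5 ∣ k) :
    IsConj t (t ^ k) := by
  classical
  set φ := (T : Subgroup G).normalizerMonoidHom with hφ
  haveI : IsCyclic (T : Subgroup G) := isCyclic_of_prime_card hTc
  have hsurj : Function.Surjective φ := by
    have hcard : Nat.card (MulAut (T : Subgroup G)) = 4 := by
      rw [IsCyclic.card_mulAut, hTc, Nat.totient_prime (by norm_num)]
    rw [← MonoidHom.range_eq_top]
    refine Subgroup.eq_top_of_card_eq _ ?_
    have hker : φ.ker = (Subgroup.centralizer ((T : Subgroup G) : Set G)).subgroupOf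
        (Subgroup.normalizer ((T : Subgroup G) : Set G)) := Subgroup.normalizerMonoidHom_ker _
    rw [hcard, ← he, Subgroup.relIndex, ← hker, Subgroup.index_ker]
  have hk5 : Nat.Coprime k (Nat.card (T : Subgroup G)) := by
    rw [hTc, Nat.coprime_comm]
    exact (Nat.Prime.coprime_iff_not_dvd (by norm_num)).2 hk
  letI : CommGroup (T : Subgroup G) := IsCyclic.commGroup
  let σ : MulAut (T : Subgroup G) :=
    { powCoprime hk5.symm with map_mul' := fun a b => mul_pow a b k }
  obtain ⟨g, hg⟩ := hsurj σ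
  have hval := congrArg (fun τ : MulAut (T : Subgroup G) =>
    ((τ ⟨t, htT⟩ : (T : Subgroup G)) : G)) hg
  exact isConj_iff.2 ⟨g, hval⟩

/-- Every element of order five is conjugate to `t`. -/
theorem isConj_of_orderOf_five [IsSimpleGroup G] (hn : Nat.card G = 95040) (hB : DegreeList G)
    [Fact (Nat.Prime 5)] {t z : G} (ht : orderOf t = 5) (hz : orderOf z = 5) : IsConj t z := by
  classical
  obtain ⟨T, hTt, hTc, -⟩ := sylow_five hn ht
  obtain ⟨T', hTz, -, -⟩ := sylow_five hn hz
  obtain ⟨c, hc⟩ := MulAction.exists_smul_eq G T' T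
  have hmem : c * z * c⁻¹ ∈ Subgroup.zpowers t := by
    rw [← hTt, ← hc, Sylow.coe_subgroup_smul]
    exact Subgroup.smul_mem_pointwise_smul z (MulAut.conj c) _
      (hTz.symm ▸ Subgroup.mem_zpowers z)
  rw [mem_zpowers_iff_mem_range_orderOf, ht, Finset.mem_image] at hmem
  obtain ⟨k, hk, hkz⟩ := hmem
  rw [Finset.mem_range] at hk
  have hk0 : ¬ 5 ∣ k := by
    intro h
    have : k = 0 := Nat.eq_zero_of_dvd_of_lt h hk
    rw [this, pow_zero, eq_comm, conj_eq_one_iff] at hkz
    rw [hkz, orderOf_one] at hz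
    norm_num at hz
  have h1 := isConj_pow_of_relIndex T hTc (hTt.symm ▸ Subgroup.mem_zpowers t)
    (relIndex_five hn hB T hTc) hk0
  rw [hkz] at h1
  exact h1.trans (isConj_iff.2 ⟨c, rfl⟩).symm

/-- The centraliser of an element of order five commuting with an involution has order ten. -/
theorem card_centralizer_five [IsSimpleGroup G] (hn : Nat.card G = 95040) (hB : DegreeList G)
    [Fact (Nat.Prime 11)] (Q : Sylow 11 G) (hP : Nat.card (Q : Subgroup G) = 11)
    (hC11 : Subgroup.centralizer ((Q : Subgroup G) : Set G) = Q)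
    (h1728 : Nat.card (Sylow 11 G) = 1728)
    {χ : Cfsg.IrrCharacter G} (h54 : (χ : G → ℂ) 1 = ((54 : ℕ) : ℂ))
    {s t : G} (hs : orderOf s = 2) (hcomm : Commute s t) (ht : orderOf t = 5) :
    Nat.card (Subgroup.centralizer ({t} : Set G)) = 10 := by
  classical
  haveI : Fact (Nat.Prime 5) := ⟨by norm_num⟩
  obtain ⟨T, hTt, hTc, hC⟩ := sylow_five hn ht
  have he := relIndex_five hn hB T hTc
  have hmul := H36.card_sylow_mul_normalizer T
  rw [H36.card_normalizer_eq_mul, he, hC, hn] at hmul
  set C := Subgroup.centralizer ({t} : Set G) with hCdef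
  have hmod : Nat.card (Sylow 5 G) % 5 = 1 := card_sylow_modEq_one 5 G
  have htC : t ∈ C := Subgroup.mem_centralizer_singleton_iff.2 rfl
  have hsC : s ∈ C := Subgroup.mem_centralizer_singleton_iff.2 hcomm.eq
  have h5 : 5 ∣ Nat.card C := ht ▸ Subgroup.orderOf_dvd_natCard _ htC
  have h2 : 2 ∣ Nat.card C := hs ▸ Subgroup.orderOf_dvd_natCard _ hsC
  -- no element of order eleven
  have h11 : ¬ 11 ∣ Nat.card C := by
    intro h
    obtain ⟨y, hy⟩ := exists_prime_orderOf_dvd_card' (G := C) 11 h
    rw [← Subgroup.orderOf_coe] at hy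
    have hyQ : Nat.card (Subgroup.zpowers (y : G)) = 11 := by rw [Nat.card_zpowers, hy]
    obtain ⟨Q', hQ'⟩ := (IsPGroup.of_card (n := 1) (by rw [hyQ, pow_one])).exists_le_sylow
    obtain ⟨c, hc⟩ := MulAction.exists_smul_eq G Q' Q
    have hymem : c * y * c⁻¹ ∈ (Q : Subgroup G) := by
      rw [← hc, Sylow.coe_subgroup_smul]
      exact Subgroup.smul_mem_pointwise_smul (y : G) (MulAut.conj c) _
        (hQ' (Subgroup.mem_zpowers (y : G)))
    have hyo : orderOf (c * y * c⁻¹) = 11 := by
      rw [show c * (y : G) * c⁻¹ = MulAut.conj c (y : G) from rfl, MulEquiv.orderOf_eq, hy]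
    have htQ : c * t * c⁻¹ ∈ Subgroup.centralizer ((Q : Subgroup G) : Set G) := by
      refine Subgroup.mem_centralizer_iff.2 fun z hz => ?_
      rw [SetLike.mem_coe, ← H36.sylow_eq_zpowers Q hP hyo hymem] at hz
      obtain ⟨i, rfl⟩ := Subgroup.mem_zpowers_iff.1 hz
      have hc2 : Commute (y : G) t :=
        Subgroup.mem_centralizer_singleton_iff.1 y.2
      exact ((hc2.map (MulAut.conj c).toMonoidHom).zpow_left i).eq
    rw [hC11] at htQ
    have := hP ▸ Subgroup.orderOf_dvd_natCard _ htQ
    rw [show c * t * c⁻¹ = MulAut.conj c t from rfl, MulEquiv.orderOf_eq, ht] at this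
    norm_num at this
  -- no element of order three
  have h3 : ¬ 3 ∣ Nat.card C := by
    intro h
    haveI : Fact (Nat.Prime 3) := ⟨by norm_num⟩
    obtain ⟨y, hy⟩ := exists_prime_orderOf_dvd_card' (G := C) 3 h
    rw [← Subgroup.orderOf_coe] at hy
    have hty : Commute t (y : G) := (Subgroup.mem_centralizer_singleton_iff.1 y.2).symm
    obtain ⟨v, hv⟩ := H64.DegreeLtPrime.exists_int_value (IsIrr.isCharacter χ.2) (v := t)
      fun k hk => by
        obtain ⟨c, hc⟩ := isConj_iff.1 (isConj_pow_of_relIndex T hTc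
          (hTt.symm ▸ Subgroup.mem_zpowers t) he (k := k) (fun h5 => by
            rw [ht] at hk
            exact absurd (Nat.eq_one_of_dvd_coprimes hk h5 dvd_rfl) (by norm_num)))
        rw [← hc]
        exact IsIrr.isClassFunction χ.2 t c
    have hfive : ∀ z : G, orderOf z = 5 → (χ : G → ℂ) z = v := fun z hz => by
      obtain ⟨c, hc⟩ := isConj_iff.1 (isConj_of_orderOf_five hn hB ht hz)
      rw [← hc, IsIrr.isClassFunction χ.2 t c, hv]
    -- the bounds from the normaliser of the Sylow eleven-subgroup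
    set P := (Q : Subgroup G) with hPdef
    set N := Subgroup.normalizer (P : Set G) with hNdef
    have hNc : Nat.card N = 55 := by
      have h := H36.card_sylow_mul_normalizer Q
      rw [h1728, hn, ← hPdef, ← hNdef] at h
      omega
    have hPN : P ≤ N := Subgroup.le_normalizer
    have hord := order_of_mem_normalizer hn Q hP hC11 hNc
    have hPsum : ∑ o : P, (χ : G → ℂ) o = 44 := by
      rw [H64.DegreeLtPrime.sum_const_off_one (χ : G → ℂ) (k := (-1 : ℂ)) fun o ho => ?_, h54, hP]
      · norm_num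
      · have hoo : orderOf (o : G) = 11 := ((Nat.dvd_prime (by norm_num)).1
          (hP ▸ Subgroup.orderOf_dvd_natCard _ o.2)).resolve_left
            (fun h => ho (orderOf_eq_one_iff.1 h))
        rcases hB.cases χ h54 (by norm_num) hoo with
          ⟨-, m, e⟩ | ⟨e, -⟩ | ⟨-, e⟩ | e | e | ⟨e, -⟩
        · omega
        · norm_num at e
        · exact e
        all_goals norm_num at e
    have hNsum : ∑ o : N, (χ : G → ℂ) o = 44 + 44 * v := by
      rw [← Finset.sum_filter_add_sum_filter_not Finset.univ (fun o : N => (o : G) ∈ P)]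
      have hA : ∑ o ∈ Finset.univ.filter (fun o : N => (o : G) ∈ P), (χ : G → ℂ) o = 44 := by
        rw [← hPsum]
        exact Finset.sum_nbij' (fun o => if h : (o : G) ∈ P then ⟨o, h⟩ else 1)
          (fun o => ⟨o, hPN o.2⟩) (by simp) (by simp)
          (fun o ho => by simp [(Finset.mem_filter.1 ho).2])
          (fun o _ => by simp)
          (fun o ho => by simp [(Finset.mem_filter.1 ho).2])
      rw [hA, Finset.sum_congr rfl fun (o : N) ho => hfive (o : G)
        (hord o o.2 (Finset.mem_filter.1 ho).2).1, Finset.sum_const, nsmul_eq_mul]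
      congr 2
      have hfilt : (Finset.univ.filter fun o : N => (o : G) ∈ P).card = 11 := by
        rw [← Fintype.card_subtype, ← Nat.card_eq_fintype_card, ← hP]
        exact Nat.card_congr (Subgroup.subgroupOfEquivOfLe hPN).toEquiv
      have htot := Finset.card_filter_add_card_filter_not
        (s := (Finset.univ : Finset N)) (p := fun o : N => (o : G) ∈ P)
      rw [hfilt, Finset.card_univ, ← Nat.card_eq_fintype_card, hNc] at htot
      have : (Finset.univ.filter fun o : N => ¬ (o : G) ∈ P).card = 44 := by omega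
      rw [this]; norm_num
    obtain ⟨m, hm⟩ := H64.DegreeLtPrime.exists_sum_subgroup (IsIrr.isCharacter χ.2) N
    have hlow : ∃ m : ℤ, 0 ≤ m ∧ 4 * (1 + v) = 5 * m := by
      rw [hNsum, hNc] at hm
      refine ⟨m, by positivity, ?_⟩
      have h' : (((44 + 44 * v : ℤ)) : ℂ) = ((55 * m : ℤ) : ℂ) := by
        push_cast at hm ⊢; linear_combination hm
      have := Int.cast_injective (α := ℂ) h'
      omega
    have hupp : ∃ m : ℕ, cosetMean P (χ : G → ℂ) 1 - cosetMean N (χ : G → ℂ) 1 = m := by
      obtain ⟨d, ρ, -, hρ⟩ := PLift.down (PLift.up χ.2)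
      rw [← hρ, ← trace_repHom ρ, ← trace_mul_avgOn, ← trace_mul_avgOn, map_one, one_mul, one_mul,
        ← Matrix.trace_sub]
      set φ := repHom ρ
      set A := avgOn φ P
      set B := avgOn φ N
      have hBA : B * A = B := mul_avgOn_of_fixed φ P fun o ho => avgOn_mul_right φ N (hPN ho)
      have hAB : A * B = B := avgOn_mul_of_fixed φ P fun o ho => avgOn_mul_left φ N (hPN ho)
      have hidem : (A - B) * (A - B) = A - B := by
        rw [mul_sub, sub_mul, sub_mul, hBA, hAB, avgOn_idem, avgOn_idem]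
        abel
      exact ⟨_, trace_eq_finrank (A - B) (LinearMap.range (A - B).mulVecLin) (fun v => ⟨v, rfl⟩) (by
        rintro _ ⟨w, rfl⟩
        rw [Matrix.mulVecLin_apply, Matrix.mulVec_mulVec, hidem])⟩
    obtain ⟨m', hm'⟩ := hupp
    have hv4 : v = -1 ∨ v = 4 := by
      obtain ⟨m₀, hm0, hm₀⟩ := hlow
      simp only [cosetMean, one_mul, hPsum, hNsum, ← Nat.card_eq_fintype_card, hP, hNc] at hm'
      have h' : ((4 * 5 - 4 * (1 + v) : ℤ) : ℂ) = ((5 * m' : ℤ) : ℂ) := by
        push_cast at hm' ⊢; linear_combination 5 * hm'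
      have := Int.cast_injective (α := ℂ) h'
      omega
    -- the cyclic group of order fifteen
    set w := t * (y : G) with hwdef
    have hw : orderOf w = 15 := by
      rw [hwdef, hty.orderOf_mul_eq_mul_orderOf_of_coprime (by rw [ht, hy]; norm_num), ht, hy]
    have hW : Nat.card (Subgroup.zpowers w) = 15 := by rw [Nat.card_zpowers, hw]
    obtain ⟨k, hk⟩ := H64.DegreeLtPrime.exists_sum_subgroup (IsIrr.isCharacter χ.2)
      (Subgroup.zpowers w)
    have hval : ∀ z : Subgroup.zpowers w, (χ : G → ℂ) z =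
        (if orderOf z = 1 then (54 : ℂ) else 0) + if orderOf z = 5 then (v : ℂ) else 0 := by
      intro z
      have hdz : orderOf z ∣ 15 := hW ▸ orderOf_dvd_natCard z
      have hmem : orderOf z ∈ Nat.divisors 15 := Nat.mem_divisors.2 ⟨hdz, by norm_num⟩
      rw [show Nat.divisors 15 = {1, 3, 5, 15} by decide] at hmem
      simp only [Finset.mem_insert, Finset.mem_singleton] at hmem
      have hcoe : orderOf (z : G) = orderOf z := Subgroup.orderOf_coe z
      obtain ⟨d, ρ, hρi, hρ⟩ := PLift.down (PLift.up χ.2)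
      haveI := hρi
      have hfin : Module.finrank ℂ (Fin d → ℂ) = 54 := by
        have := Representation.char_one ρ
        rw [hρ, h54] at this
        exact_mod_cast this.symm
      have hvan : 3 ∣ orderOf (z : G) → (χ : G → ℂ) z = 0 := fun h => by
        rw [← hρ]
        exact S0165.result ρ 3 3 (by norm_num) (by rw [hn]; norm_num) (by rw [hn]; norm_num)
          (by rw [hfin]; norm_num) _ h
      rcases hmem with h | h | h | h
      · rw [if_pos h, if_neg (by omega), add_zero, orderOf_eq_one_iff.1 h, OneMemClass.coe_one, h54]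
        norm_num
      · rw [if_neg (by omega), if_neg (by omega), add_zero, hvan (by rw [hcoe, h])]
      · rw [if_neg (by omega), if_pos h, zero_add, hfive _ (by rw [hcoe, h])]
      · rw [if_neg (by omega), if_neg (by omega), add_zero, hvan (by rw [hcoe, h]; norm_num)]
    have hcount : ∀ d, d ∣ 15 →
        (Finset.univ.filter fun z : Subgroup.zpowers w => orderOf z = d).card = d.totient :=
      fun d hd => IsCyclic.card_orderOf_eq_totient (by rw [← Nat.card_eq_fintype_card, hW]; exact hd)
    simp only [hval, Finset.sum_add_distrib, Finset.sum_ite, Finset.sum_const_zero, add_zero,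
      Finset.sum_const, nsmul_eq_mul, hcount 1 (by norm_num), hcount 5 (by norm_num), hW] at hk
    rw [Nat.totient_one, Nat.totient_prime (show Nat.Prime 5 by norm_num)] at hk
    have h' : ((54 + 4 * v : ℤ) : ℂ) = ((15 * k : ℤ) : ℂ) := by
      push_cast at hk ⊢; linear_combination hk
    have := Int.cast_injective (α := ℂ) h'
    omega
  -- arithmetic
  have hdvd : Nat.card C ∣ 95040 := hn ▸ Subgroup.card_subgroup_dvd_card C
  obtain ⟨L, hL⟩ := h5
  rw [hL] at hmul h2 h3 h11
  have h4752 : L * Nat.card (Sylow 5 G) = 4752 := by nlinarith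
  have hLd : L ∈ Nat.divisors 4752 := Nat.mem_divisors.2 ⟨Dvd.intro _ h4752, by norm_num⟩
  have key : ∀ L ∈ Nat.divisors 4752, 2 ∣ L → ¬ 3 ∣ L → ¬ 11 ∣ L → 4752 / L % 5 = 1 → L = 2 := by
    decide +kernel
  have hq : 4752 / L = Nat.card (Sylow 5 G) := by
    rw [← h4752, Nat.mul_div_cancel_left _ (Nat.pos_of_mem_divisors hLd)]
  rw [hL, key L hLd (by omega) (by omega) (by omega) (by rw [hq]; exact hmod)]

end Cfsg.Agent.H79.MTwelve
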