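import Cfsg.Agent.H79.MTwelve.Five
import Cfsg.Agent.H79.MTwelve.BlockList
import Cfsg.Agent.H79.MTwelve.Eleven
import Cfsg.Prelude.Def_Sporadic

/-!
# A subgroup of index twelve from the block columns
-/

set_option autoImplicit false
set_option linter.unusedSectionVars false

namespace Cfsg.Agent.H79.MTwelve

open scoped ComplexConjugate
open Cfsg.Agent.CharBasic H28.M12

universe u

variable {G : Type u} [Group G] [Fintype G]

/-- There are at least 892 square roots of one. -/
theorem card_sq_eq_one_ge (hn : Nat.card G = 95040) {w s t : G} (h : Columns G w s t) :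
    892 ≤ Nat.card {z : G // z * z = 1} := by
  classical
  have hidx : ∀ g : G, Nat.card (Subgroup.centralizer ({g} : Set G)) *
      Nat.card {z : G // IsConj g z} = 95040 := fun g => by
    rw [card_conjugates_eq_index, Subgroup.card_mul_index, hn]
  let A : Finset G := Finset.univ.filter fun z => IsConj w z
  let B : Finset G := Finset.univ.filter fun z => IsConj s z
  have hA : A.card = 495 := by
    have := hidx w
    rw [h.u_card, Nat.card_eq_fintype_card, Fintype.card_subtype] at this
    change 192 * A.card = _ at this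
    omega
  have hB : 396 ≤ B.card := by
    have := hidx s
    rw [Nat.card_eq_fintype_card (α := {z : G // IsConj s z}), Fintype.card_subtype] at this
    change _ * B.card = _ at this
    rcases h.s_card with e | e <;> rw [e] at this <;> omega
  have hord : ∀ {g z : G}, IsConj g z → orderOf z = orderOf g := fun {g z} hgz => by
    obtain ⟨c, rfl⟩ := isConj_iff.1 hgz
    exact MulEquiv.orderOf_eq (MulAut.conj c) g
  have hsq : ∀ {z : G}, orderOf z = 2 → z * z = 1 := fun {z} hz => by
    rw [← pow_two, ← hz, pow_orderOf_eq_one]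
  have hAB : Disjoint A B := by
    rw [Finset.disjoint_left]
    intro z hzA hzB
    have hws : IsConj w s := (Finset.mem_filter.1 hzA).2.trans (Finset.mem_filter.1 hzB).2.symm
    have hiff : ∀ z, IsConj w z ↔ IsConj s z :=
      fun z => ⟨fun hz => hws.symm.trans hz, fun hz => hws.trans hz⟩
    have h1 := hidx w
    rw [Nat.card_congr (Equiv.subtypeEquivRight hiff), h.u_card] at h1
    have h2 := hidx s
    rcases h.s_card with e | e <;> rw [e] at h2 <;> omega
  have h1 : (1 : G) ∉ A ∪ B := by
    simp only [Finset.mem_union, A, B, Finset.mem_filter, Finset.mem_univ, true_and]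
    rintro (hc | hc)
    · have := hord hc; rw [orderOf_one, h.u_ord] at this; norm_num at this
    · have := hord hc; rw [orderOf_one, h.s_ord] at this; norm_num at this
  have hsub : insert 1 (A ∪ B) ⊆ Finset.univ.filter fun z : G => z * z = 1 := by
    intro z hz
    simp only [Finset.mem_insert, Finset.mem_union, A, B, Finset.mem_filter, Finset.mem_univ,
      true_and] at hz ⊢
    rcases hz with rfl | hz | hz
    · exact one_mul 1
    · exact hsq ((hord hz).trans h.u_ord)
    · exact hsq ((hord hz).trans h.s_ord)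
  have := Finset.card_le_card hsub
  rw [Finset.card_insert_of_notMem h1, Finset.card_union_of_disjoint hAB, hA] at this
  rw [Nat.card_eq_fintype_card, Fintype.card_subtype]
  omega

/-- A simple group of order `95040` with the block columns has a subgroup of index twelve. -/
theorem exists_index_twelve_of_columns (hG : Cfsg.IsM12 G) {w s t : G} (h : Columns G w s t) :
    ∃ S : Subgroup G, S.index = 12 := by
  classical
  haveI := hG.1
  have hn := hG.2
  haveI : Fact (Nat.Prime 11) := ⟨by norm_num⟩
  obtain ⟨Q⟩ := (inferInstance : Nonempty (Sylow 11 G))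
  obtain ⟨h1728, hC⟩ := sylow_eleven_data hn Q
  have hP : Nat.card (Q : Subgroup G) = 11 := by
    simpa using H36.card_sylow_eq hn Q (a := 1) (m := 8640) (by norm_num) (by norm_num)
  have hC11 : ∀ x : G, orderOf x = 11 → Nat.card (Subgroup.centralizer ({x} : Set G)) = 11 := by
    intro x hx
    have hX : Nat.card (Subgroup.zpowers x) = 11 := by rw [Nat.card_zpowers, hx]
    obtain ⟨Q', hQ'⟩ := (IsPGroup.of_card (n := 1) (by rw [hX, pow_one])).exists_le_sylow
    obtain ⟨-, hC'⟩ := sylow_eleven_data hn Q'
    have hP' : Nat.card (Q' : Subgroup G) = 11 := by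
      simpa using H36.card_sylow_eq hn Q' (a := 1) (m := 8640) (by norm_num) (by norm_num)
    have heq : Subgroup.centralizer ({x} : Set G) = (Q' : Subgroup G) := by
      rw [← hC']
      ext g
      simp only [Subgroup.mem_centralizer_iff, Set.mem_singleton_iff, forall_eq]
      refine ⟨fun hg z hz => ?_, fun hg => hg x (hQ' (Subgroup.mem_zpowers x))⟩
      rw [SetLike.mem_coe, ← H36.sylow_eq_zpowers Q' hP' hx (hQ' (Subgroup.mem_zpowers x))] at hz
      obtain ⟨i, rfl⟩ := Subgroup.mem_zpowers_iff.1 hz
      exact ((show Commute x g from hg).zpow_left i).eq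
    rw [heq, hP']
  have hB := degreeList_of_columns hn h hC11
  have hdata := data_of_columns h
  have h54 := (hdata 1).2
  obtain ⟨⟨χ, hχ⟩⟩ : Nonempty {ψ : Cfsg.IrrCharacter G // (ψ : G → ℂ) 1 = ((54 : ℕ) : ℂ)} := by
    by_contra hne
    rw [not_nonempty_iff] at hne
    rw [show (blockDeg 1 : ℂ) = ((54 : ℕ) : ℂ) from rfl, Nat.card_of_isEmpty,
      show (Finset.univ.filter fun j => blockDeg j = blockDeg 1).card = 1 by decide] at h54
    omega
  have htC := card_centralizer_five hn hB Q hP hC h1728 hχ h.s_ord h.comm h.t_ord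
  have hu : w * w = 1 := by rw [← pow_two, ← h.u_ord, pow_orderOf_eq_one]
  have hu1 : w ≠ 1 := fun e => by
    have := h.u_ord
    rw [e, orderOf_one] at this
    norm_num at this
  have hcnt : ∀ (i : Fin 6) (d : ℂ) (k : ℕ), (blockDeg i : ℂ) = d →
      (Finset.univ.filter fun j => blockDeg j = blockDeg i).card = k →
      Nat.card {ψ : Cfsg.IrrCharacter G // (ψ : G → ℂ) 1 = d} = k := by
    rintro i d k rfl hk
    rw [(hdata i).2, hk]
  have hval : ∀ (i : Fin 6) (d z : ℂ), (blockDeg i : ℂ) = d →
      ((![-3, 6, -8, 0, 0, 0] i : ℤ) : ℂ) = z →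
      ∀ ψ : Cfsg.IrrCharacter G, (ψ : G → ℂ) 1 = d → (ψ : G → ℂ) w = z := by
    rintro i d z rfl rfl ψ hψ
    exact (hdata i).1 ψ hψ
  obtain ⟨χ₀, hirr, hd, hreal⟩ := exists_real_eleven hn hB
    (hcnt 0 45 1 (by simp [blockDeg]) (by decide)) (hcnt 1 54 1 (by simp [blockDeg]) (by decide))
    (hcnt 2 120 1 (by simp [blockDeg]) (by decide)) (hcnt 3 144 1 (by simp [blockDeg]) (by decide))
    (hcnt 4 16 2 (by simp [blockDeg]) (by decide)) hu hu1 h.u_card
    (hval 0 45 (-3) (by simp [blockDeg]) (by simp)) (hval 1 54 6 (by simp [blockDeg]) (by simp))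
    (hval 2 120 (-8) (by simp [blockDeg]) (by simp)) (hval 3 144 0 (by simp [blockDeg]) (by simp))
    (hval 4 16 0 (by simp [blockDeg]) (by simp)) h.t_ord htC (card_sq_eq_one_ge hn h)
  exact exists_index_twelve_of_eleven hn hB hirr hd hreal

end Cfsg.Agent.H79.MTwelve
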