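import Cfsg.Agent.CharInduce.Induce
import Cfsg.Agent.CharInduce.Ops

/-!
# Irreducible monomial characters
-/

set_option autoImplicit false

open scoped ComplexConjugate

namespace Cfsg.Agent.H79.MTwelve

open Cfsg Cfsg.Agent.CharInduce Cfsg.Agent.CharBasic

variable {G : Type*} [Group G] [Fintype G]

/-- Mackey's criterion for a linear character. -/
theorem isIrr_indFun_of_witness (H : Subgroup G) [Fintype H] (l : H →* ℂˣ)
    (hw : ∀ g : G, g ∉ H → ∃ h c : H, (h : G) * g = g * c ∧ l h = 1 ∧ l c ≠ 1) :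
    IsIrrCharacter G (indFun H fun h => (l h : ℂ)) := by
  classical
  have hchar : IsCharacter H (fun h => (l h : ℂ)) := isCharacter_hom l
  refine CharInduce.isIrr_of_norm_one (IsChar.ind H hchar) ?_
  rw [classInner_indFun_left H _ _ (isClassFunction_indFun H _)]
  have hnorm : ∀ h : H, (l h : ℂ) * conj (l h : ℂ) = 1 := by
    intro h
    have h1 : ‖(l h : ℂ)‖ = 1 := by
      refine Complex.norm_eq_one_of_pow_eq_one (n := Nat.card H) ?_ Nat.card_pos.ne'
      rw [← Units.val_pow_eq_pow_val, ← map_pow, pow_card_eq_one', map_one, Units.val_one]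
    rw [Complex.mul_conj, Complex.normSq_eq_norm_sq, h1]; norm_num
  have hsum : ∀ g : G, ∑ h : H, (l h : ℂ) * conj (extendByZero H (fun h => (l h : ℂ)) (g⁻¹ * h * g))
      = if g ∈ H then (Nat.card H : ℂ) else 0 := by
    intro g
    split_ifs with hg
    · rw [Finset.sum_congr rfl (g := fun _ => (1 : ℂ)) fun h _ => ?_]
      · simp [Nat.card_eq_fintype_card]
      · have hmem : g⁻¹ * (h : G) * g ∈ H := H.mul_mem (H.mul_mem (H.inv_mem hg) h.2) hg
        rw [extendByZero_of_mem _ hmem]
        have : l ⟨g⁻¹ * (h : G) * g, hmem⟩ = l h := by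
          rw [show (⟨g⁻¹ * (h : G) * g, hmem⟩ : H) = (⟨g, hg⟩ : H)⁻¹ * h * ⟨g, hg⟩ from rfl, map_mul,
            map_mul, map_inv, mul_right_comm, inv_mul_cancel, one_mul]
        rw [this]
        exact hnorm h
    · obtain ⟨h₀, c₀, hhc, h1, hc⟩ := hw g hg
      set S := ∑ h : H, (l h : ℂ) * conj (extendByZero H (fun h => (l h : ℂ)) (g⁻¹ * h * g))
      have hS : S = conj (l c₀ : ℂ) * S := by
        calc S = ∑ h : H, (l (h₀ * h) : ℂ) *
              conj (extendByZero H (fun h => (l h : ℂ)) (g⁻¹ * ((h₀ * h : H) : G) * g)) :=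
              (Fintype.sum_equiv (Equiv.mulLeft h₀) _ _ fun h => rfl).symm
          _ = _ := by
            rw [Finset.mul_sum]
            refine Finset.sum_congr rfl fun h _ => ?_
            have e : g⁻¹ * ((h₀ * h : H) : G) * g = (c₀ : G) * (g⁻¹ * h * g) := by
              rw [Subgroup.coe_mul, show g⁻¹ * ((h₀ : G) * h) * g = g⁻¹ * ((h₀ : G) * g) * (g⁻¹ * h * g) by
                group, hhc]
              group
            rw [e, map_mul, h1, one_mul]
            by_cases hm : g⁻¹ * (h : G) * g ∈ H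
            · rw [extendByZero_of_mem _ (H.mul_mem c₀.2 hm), extendByZero_of_mem _ hm,
                show (⟨(c₀ : G) * (g⁻¹ * h * g), H.mul_mem c₀.2 hm⟩ : H) = c₀ * ⟨_, hm⟩ from rfl,
                map_mul, Units.val_mul, map_mul]
              ring
            · rw [extendByZero_of_not_mem _ hm, extendByZero_of_not_mem _ fun h' => hm (by
                simpa using H.mul_mem (H.inv_mem c₀.2) h')]
              simp
      have hne : (1 : ℂ) - conj (l c₀ : ℂ) ≠ 0 := by
        intro h0
        apply hc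
        ext
        have h2 : conj (l c₀ : ℂ) = 1 := (sub_eq_zero.1 h0).symm
        have h3 := congrArg (starRingEnd ℂ) h2
        rw [Complex.conj_conj, map_one] at h3
        rw [Units.val_one, h3]
      exact (mul_eq_zero.1 (show (1 - conj (l c₀ : ℂ)) * S = 0 by linear_combination hS)).resolve_left hne
  simp only [classInner_def, indFun_apply, map_mul, map_inv₀, map_natCast, map_sum]
  have key : ∑ h : H, (l h : ℂ) * ((Nat.card H : ℂ)⁻¹ *
      ∑ g : G, conj (extendByZero H (fun h => (l h : ℂ)) (g⁻¹ * h * g))) = (Nat.card H : ℂ) := by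
    calc ∑ h : H, (l h : ℂ) * ((Nat.card H : ℂ)⁻¹ *
          ∑ g : G, conj (extendByZero H (fun h => (l h : ℂ)) (g⁻¹ * h * g)))
        = (Nat.card H : ℂ)⁻¹ * ∑ g : G, ∑ h : H,
            (l h : ℂ) * conj (extendByZero H (fun h => (l h : ℂ)) (g⁻¹ * h * g)) := by
          rw [Finset.sum_comm, Finset.mul_sum]
          refine Finset.sum_congr rfl fun h _ => ?_
          rw [← Finset.mul_sum]
          ring
      _ = (Nat.card H : ℂ)⁻¹ * ((Nat.card H : ℂ) * (Nat.card H : ℂ)) := by
          rw [Finset.sum_congr rfl (fun g _ => hsum g), Finset.sum_ite, Finset.sum_const_zero,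
            add_zero, Finset.sum_const, ← Fintype.card_subtype, nsmul_eq_mul]
          rw [show Fintype.card {x // x ∈ H} = Nat.card H by rw [Nat.card_eq_fintype_card]]
      _ = _ := by rw [← mul_assoc, inv_mul_cancel₀ (card_ne_zero_complex H), one_mul]
  rw [key, inv_mul_cancel₀ (card_ne_zero_complex H)]

end Cfsg.Agent.H79.MTwelve
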