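import Cfsg.Agent.H79.MTwelve.Exclude
import Cfsg.Agent.H79.DegGraphSmall.SylowGood
import Cfsg.Agent.H79.DegGraphSmall.DegreeFacts

/-!
# The nonabelian section containing the eleven-part of a group of order 95040
-/

set_option autoImplicit false
set_option linter.unusedSectionVars false
set_option linter.style.haveILetI false

open Subgroup Cfsg

namespace Cfsg.Agent.H79.MTwelve

universe u

variable {G : Type u} [Group G] [Finite G]

theorem good_eq_one {m : ℕ} (hm : m ∣ 8640) (hg : DegGraphSmall.Good 11 m) : m = 1 := by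
  have h0 : m ≠ 0 := fun h => by rw [h] at hm; norm_num at hm
  have key : ∀ q k : ℕ, q.Prime → m.factorization q ≤ k → (∀ i ∈ List.range' 1 k, q ^ i % 11 ≠ 1) →
      m.factorization q = 0 := by
    intro q k hq hle hk
    by_contra h
    exact hk _ (List.mem_range'_1.2 ⟨by omega, by omega⟩) (hg q hq)
  have hle : ∀ q : ℕ, m.factorization q ≤ (8640 : ℕ).factorization q := fun q =>
    (Nat.factorization_le_iff_dvd h0 (by norm_num)).2 hm q
  have hf : ∀ q k r : ℕ, q.Prime → 8640 = q ^ k * r → ¬ q ∣ r → m.factorization q ≤ k := by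
    intro q k r hq e hr
    refine (hle q).trans (le_of_eq ?_)
    rw [e, Nat.factorization_mul (pow_ne_zero _ hq.ne_zero) (fun h : r = 0 => hr (h ▸ dvd_zero q)),
      Finsupp.add_apply, hq.factorization_pow, Finsupp.single_eq_same,
      Nat.factorization_eq_zero_of_not_dvd hr, add_zero]
  have h2 := key 2 6 Nat.prime_two (hf 2 6 135 Nat.prime_two rfl (by norm_num)) (by decide)
  have h3 := key 3 3 Nat.prime_three (hf 3 3 320 Nat.prime_three rfl (by norm_num)) (by decide)
  have h5 := key 5 1 (by norm_num) (hf 5 1 1728 (by norm_num) rfl (by norm_num)) (by decide)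
  by_contra hm1
  obtain ⟨q, hq, hqm⟩ := Nat.exists_prime_and_dvd hm1
  have hpos := hq.factorization_pos_of_dvd h0 hqm
  have hq' : q = 2 ∨ q = 3 ∨ q = 5 := by
    have h8 : q ∣ 2 ^ 6 * (3 ^ 3 * 5) := hqm.trans hm
    rcases hq.dvd_mul.1 h8 with h | h
    · exact Or.inl ((Nat.prime_dvd_prime_iff_eq hq Nat.prime_two).1 (hq.dvd_of_dvd_pow h))
    · rcases hq.dvd_mul.1 h with h | h
      · exact Or.inr (Or.inl ((Nat.prime_dvd_prime_iff_eq hq Nat.prime_three).1
          (hq.dvd_of_dvd_pow h)))
      · exact Or.inr (Or.inr ((Nat.prime_dvd_prime_iff_eq hq (by norm_num)).1 h))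
  rcases hq' with rfl | rfl | rfl <;> omega

/-- A group with eleven dividing its order once, not normally, whose order divides 95040, has a
normal subgroup that is a central extension of a simple group by way of its commutator subgroup. -/
theorem exists_section (hn : Nat.card G = 95040) (hone : Nat.card (Sylow 11 G) ≠ 1) :
    ∃ E : Subgroup G, E.Normal ∧ ¬ 11 ∣ E.index ∧ commutator E = ⊤ ∧
      ∃ N : Subgroup E, ∃ _ : N.Normal, N ≤ center E ∧ IsSimpleGroup (E ⧸ N) ∧
        ¬ IsMulCommutative (E ⧸ N) ∧ Nat.card (E ⧸ N) ∈ ({660, 7920, 95040} : Finset ℕ) := by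
  classical
  haveI : Fact (Nat.Prime 11) := ⟨by norm_num⟩
  have h11 : 11 ∣ Nat.card G := by rw [hn]; norm_num
  have h112 : ¬ 11 ^ 2 ∣ Nat.card G := by rw [hn]; norm_num
  obtain ⟨P⟩ := Sylow.nonempty (p := 11) (G := G)
  set E := Subgroup.normalClosure ((P : Subgroup G) : Set G) with hEdef
  haveI hE : E.Normal := Subgroup.normalClosure_normal
  have hPE : (P : Subgroup G) ≤ E := Subgroup.le_normalClosure
  have hP : Nat.card (P : Subgroup G) = 11 := by
    simpa using H36.card_sylow_eq hn P (a := 1) (m := 8640) (by norm_num) (by norm_num)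
  have hpE : 11 ∣ Nat.card E := hP ▸ card_dvd_of_le hPE
  have hEd : Nat.card E ∣ 95040 := hn ▸ card_subgroup_dvd_card E
  have hE2 : ¬ 11 ^ 2 ∣ Nat.card E := fun h => h112 (h.trans (hn.symm ▸ hEd))
  have hidx : ¬ 11 ∣ E.index := fun h => h112 (by
    rw [← E.card_mul_index, pow_two]; exact mul_dvd_mul hpE h)
  have honeE : Nat.card (Sylow 11 E) ≠ 1 := by
    rcases DegGraphSmall.card_sylow_of_normal h11 h112 E with ⟨-, h⟩ | ⟨h, -⟩
    · rwa [← h]
    · exact absurd hpE h
  -- a normal subgroup of `E` containing a Sylow subgroup is everything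
  have hgen : ∀ K : Subgroup E, K.Normal → 11 ∣ Nat.card K → K = ⊤ := by
    intro K hK hdvd
    obtain ⟨x, hx⟩ := exists_prime_orderOf_dvd_card' 11 hdvd
    rw [← orderOf_coe] at hx
    obtain ⟨R, hR⟩ := H36.exists_sylow_mem (p := 11) hx
    have hRc : Nat.card (R : Subgroup E) = 11 := by
      refine (R.card_eq_multiplicity).trans ?_
      have hf : (Nat.card E).factorization 11 = 1 :=
        le_antisymm (Nat.le_of_lt_succ (by
          by_contra h
          exact hE2 (((show Nat.Prime 11 by norm_num).pow_dvd_iff_le_factorization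
            Nat.card_pos.ne').2 (by omega))))
          (((show Nat.Prime 11 by norm_num).dvd_iff_one_le_factorization Nat.card_pos.ne').1 hpE)
      rw [hf, pow_one]
    have hRK : (R : Subgroup E) ≤ K := by
      rw [← H36.sylow_eq_zpowers R hRc hx hR, zpowers_le]
      exact x.2
    haveI := hK
    have hall : ∀ S : Sylow 11 E, (S : Subgroup E) ≤ K := by
      intro S
      obtain ⟨g, rfl⟩ := MulAction.exists_smul_eq E R S
      intro y hy
      have := hK.conj_mem _ (hRK ((H36.mem_smul_sylow_iff g y R).1 hy)) g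
      simpa [mul_assoc] using this
    rw [eq_top_iff]
    intro y _
    have hle : E ≤ K.map E.subtype := by
      show Subgroup.normalClosure ((P : Subgroup G) : Set G) ≤ K.map E.subtype
      refine Subgroup.closure_le _ |>.2 ?_
      intro z hz
      obtain ⟨a, ha, hza⟩ := Group.mem_conjugatesOfSet_iff.1 hz
      obtain ⟨g, hg⟩ := isConj_iff.1 hza
      have hzE : z ∈ E := hg ▸ hE.conj_mem a (hPE ha) g
      have hz11 : orderOf (⟨z, hzE⟩ : E) ∣ 11 := by
        rw [Subgroup.orderOf_mk, ← hg, show g * a * g⁻¹ = MulAut.conj g a from rfl,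
          MulEquiv.orderOf_eq]
        exact hP ▸ Subgroup.orderOf_dvd_natCard _ ha
      refine ⟨⟨z, hzE⟩, ?_, rfl⟩
      rcases (Nat.dvd_prime (show Nat.Prime 11 by norm_num)).1 hz11 with h | h
      · rw [orderOf_eq_one_iff.1 h]; exact one_mem K
      · obtain ⟨S, hS⟩ := H36.exists_sylow_mem (p := 11) h
        exact hall S hS
    obtain ⟨w, hw, hwy⟩ := hle y.2
    exact Subtype.ext hwy ▸ hw
  haveI : Nontrivial E := Finite.one_lt_card_iff_nontrivial.1
    (lt_of_lt_of_le (by norm_num) (Nat.le_of_dvd Nat.card_pos hpE))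
  obtain ⟨N, hN, hmax⟩ := (Set.toFinite {K : Subgroup E | K.Normal ∧ K ≠ ⊤}).exists_maximal
    ⟨⊥, inferInstance, bot_ne_top⟩
  obtain ⟨hNn, hNt⟩ := hN
  haveI := hNn
  have hN11 : ¬ 11 ∣ Nat.card N := fun h => hNt (hgen N hNn h)
  have hcen : ∀ S : Sylow 11 E, (S : Subgroup E) ≤ centralizer (N : Set E) := by
    intro S
    have hSc : Nat.card (S : Subgroup E) = 11 := by
      rw [← H36.card_sylow_congr (P.subtype hPE) S, P.coe_subtype hPE,
        Nat.card_congr (subgroupOfEquivOfLe hPE).toEquiv, hP]
    have hg := DegGraphSmall.good_centralizer_index (S : Subgroup E) N hSc hN11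
    have hd : (centralizer ((S : Subgroup E) : Set E)).relIndex N ∣ 8640 := by
      refine (relIndex_dvd_card _ _).trans ?_
      refine Nat.Coprime.dvd_of_dvd_mul_left (m := 11) ?_ (by
        rw [show 11 * 8640 = 95040 by norm_num]; exact (card_subgroup_dvd_card N).trans hEd)
      exact ((show Nat.Prime 11 by norm_num).coprime_iff_not_dvd.2 hN11).symm
    exact le_centralizer_iff.1 (relIndex_eq_one.1 (good_eq_one hd hg))
  have hNc : N ≤ center E := by
    haveI : (centralizer (N : Set E)).Normal := inferInstance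
    have htop : centralizer (N : Set E) = ⊤ := hgen _ inferInstance (by
      refine dvd_trans ?_ (card_dvd_of_le (hcen (P.subtype hPE)))
      rw [P.coe_subtype hPE, Nat.card_congr (subgroupOfEquivOfLe hPE).toEquiv, hP])
    intro n hn
    rw [mem_center_iff]
    intro g
    exact (mem_centralizer_iff.1 (htop ▸ mem_top g) n hn).symm
  have hsimple : IsSimpleGroup (E ⧸ N) := by
    haveI : Nontrivial (E ⧸ N) := QuotientGroup.nontrivial_iff.2 hNt
    refine ⟨fun H hH => ?_⟩
    haveI := hH
    set W := H.comap (QuotientGroup.mk' N) with hW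
    have hNW : N ≤ W := fun x hx => by
      show (x : E ⧸ N) ∈ H
      rw [(QuotientGroup.eq_one_iff x).2 hx]; exact one_mem H
    by_cases hWt : W = ⊤
    · right
      rw [eq_top_iff]
      intro x _
      obtain ⟨y, rfl⟩ := QuotientGroup.mk'_surjective N x
      exact (hWt ▸ mem_top y : y ∈ W)
    · left
      have hWN : W ≤ N := hmax ⟨inferInstance, hWt⟩ hNW
      rw [eq_bot_iff]
      intro x hx
      obtain ⟨y, rfl⟩ := QuotientGroup.mk'_surjective N x
      exact (QuotientGroup.eq_one_iff y).2 (hWN hx)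
  haveI := hsimple
  have hcard := card_eq_card_quotient_mul_card_subgroup N
  have hQd : Nat.card (E ⧸ N) ∣ 95040 := (Dvd.intro _ hcard.symm).trans hEd
  have hQ11 : 11 ∣ Nat.card (E ⧸ N) :=
    ((show Nat.Prime 11 by norm_num).dvd_mul.1 (hcard ▸ hpE)).resolve_right hN11
  have hna : ¬ IsMulCommutative (E ⧸ N) := by
    intro hab
    haveI := hab
    letI : CommGroup (E ⧸ N) := { (inferInstance : Group (E ⧸ N)) with mul_comm := hab.is_comm.comm }
    have hprime : (Nat.card (E ⧸ N)).Prime := IsSimpleGroup.prime_card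
    have hQ : Nat.card (E ⧸ N) = 11 :=
      ((Nat.prime_dvd_prime_iff_eq (by norm_num) hprime).1 hQ11).symm
    -- then `E` is the product of a Sylow subgroup and `N`
    obtain ⟨R⟩ := Sylow.nonempty (p := 11) (G := E)
    have hRc : Nat.card (R : Subgroup E) = 11 := by
      rw [← H36.card_sylow_congr (P.subtype hPE) R, P.coe_subtype hPE,
        Nat.card_congr (subgroupOfEquivOfLe hPE).toEquiv, hP]
    have hle : (R : Subgroup E) ⊔ N ≤ normalizer ((R : Subgroup E) : Set E) :=
      sup_le le_normalizer (le_trans (fun n hn => mem_centralizer_iff.2 fun r _ =>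
        mem_center_iff.1 (hNc hn) r) (centralizer_le_normalizer _))
    have hinf : (R : Subgroup E) ⊓ N = ⊥ := inf_eq_bot_of_coprime (by
      rw [hRc]; exact (show Nat.Prime 11 by norm_num).coprime_iff_not_dvd.2 hN11)
    have hsup : (R : Subgroup E) ⊔ N = ⊤ := by
      apply eq_top_of_card_eq
      have h := Cores.card_sup_mul_card_inf (R : Subgroup E) N
      rw [hinf, card_bot, mul_one, hRc] at h
      rw [h, hcard, hQ]
    rw [hsup, top_le_iff] at hle
    haveI := normalizer_eq_top_iff.1 hle
    haveI := Sylow.unique_of_normal R inferInstance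
    exact honeE Nat.card_unique
  have hperf : commutator E = ⊤ := by
    refine hgen _ inferInstance ?_
    by_contra h
    have hle : commutator E ≤ N := by
      by_contra hnle
      have htop : commutator E ⊔ N = ⊤ := by
        by_contra hne
        exact hnle (le_sup_left.trans (hmax ⟨inferInstance, hne⟩ le_sup_right))
      have h1 := Cores.card_sup_mul_card_inf (commutator E) N
      rw [htop, card_top] at h1
      rcases (show Nat.Prime 11 by norm_num).dvd_mul.1 (h1 ▸ dvd_mul_of_dvd_left hpE _) with h2 | h2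
      · exact h h2
      · exact hN11 h2
    apply hna
    refine ⟨⟨fun a b => ?_⟩⟩
    obtain ⟨x, rfl⟩ := QuotientGroup.mk'_surjective N a
    obtain ⟨y, rfl⟩ := QuotientGroup.mk'_surjective N b
    rw [← commutatorElement_eq_one_iff_mul_comm, ← map_commutatorElement]
    exact (QuotientGroup.eq_one_iff _).2 (hle (commutator_mem_commutator (mem_top x) (mem_top y)))
  refine ⟨E, hE, hidx, hperf, N, hNn, hNc, hsimple, hna, ?_⟩
  set t := Nat.card (E ⧸ N) with ht
  rcases Nat.lt_or_ge t 6000 with hlt | hge
  · have h := DegGraphSmall.simple_order_cases hna hlt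
    rw [← ht] at h
    have := (show ∀ k ∈ ({60, 168, 360, 504, 660, 1092, 2448, 2520, 3420, 4080, 5616} : Finset ℕ),
      k % 11 = 0 → k = 660 by decide +kernel) t h (Nat.mod_eq_zero_of_dvd hQ11)
    simp [this]
  · obtain ⟨e, he⟩ := hQd
    have hepos : 1 ≤ e := by
      rcases Nat.eq_zero_or_pos e with h0 | h0
      · rw [h0, mul_zero] at he; norm_num at he
      · exact h0
    have hele : e ≤ 15 := by
      by_contra hlt
      have := Nat.mul_le_mul hge (show 16 ≤ e by omega)
      rw [← he] at this
      norm_num at this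
    have h : t ∈ orders ∨ t = 7920 ∨ t = 95040 := by
      have h11 := Nat.mod_eq_zero_of_dvd hQ11
      simp only [orders, List.mem_cons, List.not_mem_nil, or_false]
      interval_cases e <;> omega
    rcases h with h | h | h
    · exact (false_of_mem_orders hna h).elim
    · simp [h]
    · simp [h]

end Cfsg.Agent.H79.MTwelve
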