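import Cfsg.Agent.H79.MTwelve.Eleven
import Cfsg.Agent.H79.MTwelve.Section
import Cfsg.Agent.Golay.Mathieu

/-!
# Order and element counts of the dodecad group force simplicity
-/

set_option autoImplicit false
set_option linter.style.haveILetI false

namespace Cfsg.Agent.H79.MTwelve

open Cfsg Subgroup

universe u

variable {G : Type u} [Group G] [Finite G]

/-- Ten elements of order `11` for each Sylow `11`-subgroup. -/
theorem card_orderOf_eleven [Fact (Nat.Prime 11)] (hn : Nat.card G = 95040) :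
    Nat.card {g : G // orderOf g = 11} = Nat.card (Sylow 11 G) * 10 := by
  obtain ⟨P⟩ := Sylow.nonempty (p := 11) (G := G)
  have hP : Nat.card (P : Subgroup G) = 11 := by
    simpa using H36.card_sylow_eq hn P (a := 1) (m := 8640) (by norm_num) (by norm_num)
  rw [H36.card_orderOf_eq P hP]

/-- In a simple group of order `95040` the other element counts are multiples of eleven. -/
theorem eleven_dvd_card_orderOf [IsSimpleGroup G] (hn : Nat.card G = 95040) {n : ℕ} (h1 : n ≠ 1)
    (h11 : n ≠ 11) : 11 ∣ Nat.card {g : G // orderOf g = n} := by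
  haveI : Fact (Nat.Prime 11) := ⟨by norm_num⟩
  obtain ⟨P⟩ := Sylow.nonempty (p := 11) (G := G)
  obtain ⟨-, hC⟩ := sylow_eleven_data hn P
  have hP : Nat.card (P : Subgroup G) = 11 := by
    simpa using H36.card_sylow_eq hn P (a := 1) (m := 8640) (by norm_num) (by norm_num)
  letI : MulAction (P : Subgroup G) {g : G // orderOf g = n} :=
    { smul := fun p g => ⟨(p : G) * g * (p : G)⁻¹, by
        rw [show (p : G) * g * (p : G)⁻¹ = MulAut.conj (p : G) g from rfl, MulEquiv.orderOf_eq]
        exact g.2⟩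
      one_smul := fun g => Subtype.ext (show (1 : G) * g * (1 : G)⁻¹ = g by group)
      mul_smul := fun a b g => Subtype.ext
        (show (a : G) * b * g * ((a : G) * b)⁻¹ = a * (b * g * (b : G)⁻¹) * (a : G)⁻¹ by group) }
  have h := P.2.card_modEq_card_fixedPoints {g : G // orderOf g = n}
  have h0 : Nat.card (MulAction.fixedPoints (P : Subgroup G) {g : G // orderOf g = n}) = 0 := by
    rw [Nat.card_eq_zero]
    refine Or.inl ⟨fun x => ?_⟩
    obtain ⟨⟨g, hg⟩, hfix⟩ := x
    have hgC : g ∈ centralizer ((P : Subgroup G) : Set G) := mem_centralizer_iff.2 fun p hp => by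
      have := congrArg Subtype.val (hfix ⟨p, hp⟩)
      change p * g * p⁻¹ = g at this
      exact mul_inv_eq_iff_eq_mul.1 this
    have hd : orderOf g ∣ 11 := hP ▸ Subgroup.orderOf_dvd_natCard _ (hC ▸ hgC)
    rw [hg] at hd
    rcases (Nat.dvd_prime (by norm_num)).1 hd with e | e
    · exact h1 e
    · exact h11 e
  rw [h0] at h
  exact Nat.modEq_zero_iff_dvd.1 h

/-- Order and element counts make the group simple of order `95040`. -/
theorem isM12_of_nse (hcard : Nat.card G = Nat.card ↥Cfsg.Spor.M12)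
    (hnse : {c : ℕ | 0 < c ∧ ∃ n : ℕ, c = Nat.card {g : G // orderOf g = n}} =
      {c : ℕ | 0 < c ∧ ∃ n : ℕ, c = Nat.card {g : ↥Cfsg.Spor.M12 // orderOf g = n}}) :
    Cfsg.IsM12 G := by
  haveI : Fact (Nat.Prime 11) := ⟨by norm_num⟩
  have hM := Golay.isM12_spor
  have hMn : Nat.card ↥Cfsg.Spor.M12 = 95040 := hM.2
  haveI : Finite ↥Cfsg.Spor.M12 := Nat.finite_of_card_ne_zero (by rw [hMn]; norm_num)
  haveI := hM.1
  have hn : Nat.card G = 95040 := hcard.trans hMn
  set d := Nat.card (Sylow 11 G) with hd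
  have hmod : d % 11 = 1 := card_sylow_modEq_one 11 G
  have hmem : d * 10 ∈ {c : ℕ | 0 < c ∧ ∃ n : ℕ, c = Nat.card {g : G // orderOf g = n}} :=
    ⟨Nat.mul_pos Nat.card_pos (by norm_num), 11, (card_orderOf_eleven hn).symm⟩
  rw [hnse] at hmem
  obtain ⟨-, n, hk⟩ := hmem
  have hk1 : Nat.card {g : ↥Cfsg.Spor.M12 // orderOf g = 1} = 1 := by
    haveI : Unique {g : ↥Cfsg.Spor.M12 // orderOf g = 1} :=
      { default := ⟨1, orderOf_one⟩
        uniq := fun g => Subtype.ext (orderOf_eq_one_iff.1 g.2) }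
    exact Nat.card_unique
  obtain ⟨P⟩ := Sylow.nonempty (p := 11) (G := ↥Cfsg.Spor.M12)
  have hd1728 : d = 1728 := by
    by_cases h1 : n = 1
    · rw [h1, hk1] at hk; omega
    by_cases h11 : n = 11
    · rw [h11, card_orderOf_eleven hMn, (sylow_eleven_data hMn P).1] at hk; omega
    · obtain ⟨j, hj⟩ := eleven_dvd_card_orderOf hMn h1 h11
      rw [hj] at hk; omega
  obtain ⟨E, hE, hidx, hperf, N, hN, hNc, hs, hna, hmem⟩ := exists_section hn (by omega)
  haveI := hE
  haveI := hN
  haveI := hs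
  have h11 : 11 ∣ Nat.card G := by rw [hn]; norm_num
  have h112 : ¬ 11 ^ 2 ∣ Nat.card G := by rw [hn]; norm_num
  have hcE := card_eq_card_quotient_mul_card_subgroup N
  have hpE : 11 ∣ Nat.card E := ((show Nat.Prime 11 by norm_num).dvd_mul.1
    (E.card_mul_index.symm ▸ h11)).resolve_right hidx
  have hdE : Nat.card (Sylow 11 E) = 1728 := by
    rcases DegGraphSmall.card_sylow_of_normal h11 h112 E with ⟨-, h⟩ | ⟨h, -⟩
    · omega
    · exact absurd hpE h
  have hEd : Nat.card E ∣ 95040 := hn ▸ card_subgroup_dvd_card E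
  have hE2 : ¬ 11 ^ 2 ∣ Nat.card E := fun h => h112 (h.trans (card_subgroup_dvd_card E))
  simp only [Finset.mem_insert, Finset.mem_singleton] at hmem
  have hQd : 1728 ∣ Nat.card (E ⧸ N) := by
    rcases DegGraphSmall.card_sylow_of_normal hpE hE2 N with ⟨hpN, -⟩ | ⟨-, -, r, hr0, hr, heq⟩
    · exfalso
      obtain ⟨a, ha⟩ := hpN
      apply hE2
      rw [hcE, ha]
      rcases hmem with e | e | e <;> rw [e]
      · exact ⟨60 * a, by ring⟩
      · exact ⟨720 * a, by ring⟩
      · exact ⟨8640 * a, by ring⟩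
    · rw [hdE] at heq
      have hr1 : r = 1 := good_eq_one (⟨5 * Nat.card (Sylow 11 (E ⧸ N)), by
        rw [show 8640 = 5 * 1728 by norm_num, heq]; ring⟩) hr
      rw [hr1, mul_one] at heq
      obtain ⟨Q⟩ := Sylow.nonempty (p := 11) (G := E ⧸ N)
      exact heq ▸ Q.card_dvd_index.trans (index_dvd_card _)
  rcases hmem with h | h | h
  · rw [h] at hQd; omega
  · rw [h] at hQd; omega
  · refine ⟨?_, hn⟩
    have h2 := card_le_card_group E
    have hEt : E = ⊤ := eq_top_of_card_eq E (le_antisymm h2 (by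
      rw [hcE, h, hn]; exact Nat.le_mul_of_pos_right _ Nat.card_pos))
    have hN1 : N = ⊥ := by
      rw [← card_eq_one]
      rw [h, show Nat.card E = 95040 by rw [hEt, card_top, hn]] at hcE
      omega
    let e : (E ⧸ N) ≃* G := (QuotientGroup.quotientMulEquivOfEq hN1).trans
      (QuotientGroup.quotientBot.trans ((MulEquiv.subgroupCongr hEt).trans topEquiv))
    haveI : Nontrivial G := e.toEquiv.symm.nontrivial
    exact IsSimpleGroup.isSimpleGroup_of_surjective e.toMonoidHom e.surjective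

end Cfsg.Agent.H79.MTwelve
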