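import Cfsg.Agent.H36.OrderScreen
import Cfsg.Agent.H36.PermNormalizer

/-!
# The degree equation for orders dividing 95040
-/

set_option autoImplicit false
set_option linter.style.haveILetI false

namespace Cfsg.Agent.H79.MTwelve

open Cfsg Cfsg.Agent.H36 Cfsg.Agent.H36.OrderScreen Subgroup

/-- The possible signed degrees, up to the square root of 95040. -/
def degreesBig (n p c : ℕ) : List ℤ :=
  ((List.range 309).flatMap fun f : ℕ => [(f : ℤ), -(f : ℤ)]).filter fun F =>
    decide (2 ≤ F.natAbs) && n % F.natAbs == 0 && (F - 1) % (p : ℤ) == 0 && !excluded p c F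

/-- The degree equation for the prime `11` has a solution. -/
def solvableBig (n r c : ℕ) : Bool :=
  search n (fun s sq => good n 11 r c s sq) (degreesBig n 11 c) (r - 1) 1 1

/-- The Sylow numbers and indices left by the degree equation. -/
def survivors : List (ℕ × ℕ × ℕ × ℕ) :=
  [(11880, 540, 2, 1), (15840, 144, 10, 1), (23760, 144, 5, 3), (31680, 144, 5, 4),
    (47520, 144, 5, 6), (47520, 144, 10, 3), (95040, 144, 5, 12), (95040, 144, 10, 6),
    (95040, 1728, 5, 1)]

/-- The orders to be excluded. -/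
def orders : List ℕ := [6336, 9504, 10560, 11880, 15840, 19008, 23760, 31680, 47520]

/-- The check for one order. -/
def check (n : ℕ) : Bool :=
  (List.range 786).all fun k =>
    let d := 11 * (k + 1) + 1
    !((n / 11) % d == 0) || d == 12 || [2, 5, 10].all fun r =>
      !((n / 11 / d) % r == 0) || survivors.contains (n, d, r, n / 11 / d / r) ||
        !solvableBig n r (n / 11 / d / r)

theorem orders_check : ∀ n ∈ 95040 :: orders, check n = true := by decide +kernel

variable {G : Type*} [Group G] [Finite G] [IsSimpleGroup G]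

theorem solvableBig_of_normalizer (hG : ¬ IsMulCommutative G) (hn : Nat.card G ≤ 95040)
    [Fact (Nat.Prime 11)] (P : Sylow 11 G) (hP : Nat.card (P : Subgroup G) = 11) {r c : ℕ}
    (hr : (centralizer ((P : Subgroup G) : Set G)).relIndex
      (normalizer ((P : Subgroup G) : Set G)) = r)
    (hc : Nat.card (centralizer ((P : Subgroup G) : Set G)) = 11 * c) :
    solvableBig (Nat.card G) r c = true := by
  obtain ⟨L, θ, hlen, hL, hθ2, hθd, hθr, hθs, hsum, hsq, -⟩ :=
    BlockDegree.exists_data hG P hP hr hc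
  set n := Nat.card G
  have hex : ∀ F : ℤ, (c ≠ 1 → ¬ BlockDegree.Small 11 F) → excluded 11 c F = false := by
    intro F h
    by_cases hc1 : c = 1
    · simp [excluded, hc1]
    · simp [excluded, hc1, h hc1]
  have hT : (0 : ℤ) ≤ ((11 - 1) / r : ℕ) * θ ^ 2 := by positivity
  refine search_eq_true n _ _ L _ 1 1 (fun F hF => ?_) (by omega) ?_ (by omega)
  · obtain ⟨h2, hd, hm, hs, -⟩ := hL F hF
    have h1 : F ^ 2 ≤ (L.map fun F => F ^ 2).sum := List.single_le_sum (by
      intro x hx; obtain ⟨y, -, rfl⟩ := List.mem_map.1 hx; positivity) _ (List.mem_map.2 ⟨F, hF, rfl⟩)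
    have h3 : (F.natAbs : ℤ) ^ 2 < 95040 := by rw [Int.natAbs_sq]; omega
    have hlt : F.natAbs < 309 := by
      by_contra h80
      have : (309 : ℤ) ≤ F.natAbs := by exact_mod_cast not_lt.1 h80
      nlinarith
    simp only [degreesBig, List.mem_filter, List.mem_flatMap, List.mem_range, Bool.and_eq_true,
      decide_eq_true_eq, beq_iff_eq, Bool.not_eq_true']
    exact ⟨⟨F.natAbs, hlt, by simpa using Int.natAbs_eq F⟩, ⟨⟨h2, Nat.mod_eq_zero_of_dvd hd⟩,
      Int.emod_eq_zero_of_dvd hm⟩, hex F hs⟩
  · rw [hsum]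
    simp only [good, Bool.and_eq_true, decide_eq_true_eq, beq_iff_eq, Bool.not_eq_true']
    exact ⟨⟨⟨⟨hθ2, Nat.mod_eq_zero_of_dvd hθd⟩, Int.emod_eq_zero_of_dvd hθr⟩, hex _ hθs⟩, hsq⟩

/-- A Sylow `11`-subgroup has twelve conjugates only in small groups. -/
theorem card_sylow_ne_twelve (hG : ¬ IsMulCommutative G) [Fact (Nat.Prime 11)]
    (P : Sylow 11 G) (hP : Nat.card (P : Subgroup G) = 11) {M : Subgroup G}
    (hM : M.index = 12) : Nat.card (normalizer ((P : Subgroup G) : Set G)) ≤ 55 := by
  have h := two_mul_card_normalizer_dvd hG (p := 11) (by norm_num) (H := M)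
    (fun h => by rw [h, index_top] at hM; omega) (by rw [hM]; norm_num) _ hP
  rw [hM] at h
  norm_num at h
  exact Nat.le_of_dvd (by norm_num) (Nat.dvd_of_mul_dvd_mul_left (k := 2) (by norm_num) h)

/-- The cases left by the degree equation. -/
theorem exists_survivor (hG : ¬ IsMulCommutative G) (hn : Nat.card G ∈ 95040 :: orders)
    [Fact (Nat.Prime 11)] (P : Sylow 11 G) :
    Nat.card (P : Subgroup G) = 11 ∧ ∃ d r c, (Nat.card G, d, r, c) ∈ survivors ∧
      Nat.card (Sylow 11 G) = d ∧ (centralizer ((P : Subgroup G) : Set G)).relIndex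
        (normalizer ((P : Subgroup G) : Set G)) = r ∧
      Nat.card (centralizer ((P : Subgroup G) : Set G)) = 11 * c := by
  set n := Nat.card G with hn'
  have hfacts : 11 * (n / 11) = n ∧ ¬ 11 ∣ n / 11 ∧ n / 11 ≤ 8640 ∧ 660 < n ∧ n ≤ 95040 :=
    (show ∀ k ∈ 95040 :: orders, 11 * (k / 11) = k ∧ ¬ 11 ∣ k / 11 ∧ k / 11 ≤ 8640 ∧ 660 < k ∧ k ≤ 95040
      by decide) n hn
  obtain ⟨hm, hndvd, hle, hbig, htop⟩ := hfacts
  set m := n / 11
  have hpn : n = 11 ^ 1 * m := by rw [pow_one, hm]
  obtain ⟨k, hk, hkd, hd, -⟩ := exists_candidate hG hpn one_ne_zero hndvd (by omega)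
  have hP : Nat.card (P : Subgroup G) = 11 := by simpa using card_sylow_eq hn'.symm P hpn hndvd
  refine ⟨hP, ?_⟩
  set d := (k + 1) * 11 + 1 with hd'
  have hN : d * Nat.card (normalizer ((P : Subgroup G) : Set G)) = 11 * m := by
    rw [← hd, card_sylow_mul_normalizer, hm]
  set r := (centralizer ((P : Subgroup G) : Set G)).relIndex
    (normalizer ((P : Subgroup G) : Set G)) with hr
  obtain ⟨c, hc⟩ := dvd_card_centralizer_of_prime (Fact.out : (11 : ℕ).Prime) (P : Subgroup G) hP
  have hr1 : 1 < r := one_lt_relIndex_centralizer hG P (hP ▸ card_subgroup_dvd_card _)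
  have hrp : r ∣ 10 := relIndex_centralizer_dvd_of_prime Fact.out _ hP
  have hmul := card_normalizer_eq_mul (P : Subgroup G)
  rw [hc, ← hr] at hmul
  rw [hmul] at hN
  have hmd : m = d * (r * c) := by
    refine Nat.eq_of_mul_eq_mul_left (show 0 < 11 by norm_num) ?_
    rw [← hN]; ring
  have hN' : m / d = r * c := by rw [hmd, Nat.mul_div_cancel_left _ (Nat.succ_pos _)]
  have hcc : m / d / r = c := by rw [hN', Nat.mul_div_cancel_left _ (by omega)]
  have h := orders_check n hn
  simp only [check, List.all_eq_true, List.mem_range, Bool.or_eq_true, Bool.not_eq_true',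
    beq_eq_false_iff_ne, beq_iff_eq, List.contains_iff_mem] at h
  have hk' : k < 786 := by omega
  have hd11 : 11 * (k + 1) + 1 = d := by rw [hd']; ring
  have h1 := h k hk'
  rw [hd11] at h1
  rcases h1 with (h1 | h1) | h1
  · exact absurd hkd h1
  · exfalso
    rw [h1] at hd
    have hidx := (P.card_eq_index_normalizer).symm.trans hd
    have h55 := card_sylow_ne_twelve hG P hP hidx
    have := card_sylow_mul_normalizer P
    rw [hd] at this
    omega
  · have hr' : r ∈ [2, 5, 10] := by
      have : r ∈ Nat.divisors 10 := Nat.mem_divisors.2 ⟨hrp, by norm_num⟩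
      rw [show Nat.divisors 10 = {1, 2, 5, 10} by decide] at this
      simp only [Finset.mem_insert, Finset.mem_singleton] at this
      rcases this with h | h | h | h <;> simp [h] at hr1 ⊢
    rcases h1 r hr' with (h2 | h2) | h2
    · exact absurd (by rw [hN', Nat.mul_mod_right]) h2
    · exact ⟨d, r, c, hcc ▸ h2, hd, hr.symm, hc⟩
    · rw [hcc, hn', solvableBig_of_normalizer hG htop P hP hr.symm hc] at h2
      exact Bool.noConfusion h2

end Cfsg.Agent.H79.MTwelve
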