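import Cfsg.Agent.H79.MTwelve.Spherical
import Cfsg.Agent.H36.Basic
import Cfsg.Agent.CharBasic.Complete

/-!
# A real character of degree eleven gives a subgroup of index twelve

The orbit of the vector fixed by `N = 11 : 5` is a regular simplex, so it has at most twelve
vectors.
-/

set_option autoImplicit false
set_option linter.unusedSectionVars false
set_option linter.style.haveILetI false

namespace Cfsg.Agent.H79.MTwelve

open Matrix Cfsg.Agent.H81
open scoped Kronecker ComplexConjugate

universe u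

/-- The map `x ↦ (11 x² - 1) / 10`. -/
noncomputable def simplexStep (x : ℝ) : ℝ := (11 * x ^ 2 - 1) / 10

/-- The periodic points of `simplexStep` are `1` and `-1/11`. -/
theorem periodic_simplexStep {x : ℝ} {k : ℕ} (hk : 0 < k) (h : simplexStep^[k] x = x) :
    x = 1 ∨ x = -1 / 11 := by
  have hsucc : ∀ (i : ℕ) (y : ℝ), simplexStep^[i + 1] y = simplexStep (simplexStep^[i] y) :=
    fun i y => Function.iterate_succ_apply' _ i y
  have hbig : ∀ y : ℝ, simplexStep^[k] y = y → |y| ≤ 1 := by
    intro y hy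
    by_contra hlt
    rw [not_le] at hlt
    have hstep : ∀ z : ℝ, 1 < |z| → |z| < |simplexStep z| := by
      intro z hz
      refine lt_of_lt_of_le ?_ (le_abs_self _)
      rw [simplexStep, lt_div_iff₀ (by norm_num : (0 : ℝ) < 10), ← sq_abs z]
      nlinarith
    have hinc : ∀ i : ℕ, |y| < |simplexStep^[i + 1] y| := by
      intro i
      induction i with
      | zero => simpa using hstep y hlt
      | succ i ih => rw [hsucc (i + 1)]; exact ih.trans (hstep _ (hlt.trans ih))
    have := hinc (k - 1)
    rw [Nat.sub_add_cancel hk, hy] at this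
    exact lt_irrefl _ this
  have hiter : ∀ i, simplexStep^[k] (simplexStep^[i] x) = simplexStep^[i] x := fun i => by
    rw [← Function.iterate_add_apply, add_comm, Function.iterate_add_apply, h]
  have hge : ∀ i, -1 / 10 ≤ simplexStep^[i] x := fun i => by
    rw [← hiter i, ← Nat.sub_add_cancel hk, hsucc, simplexStep]
    nlinarith [sq_nonneg (simplexStep^[k - 1] (simplexStep^[i] x))]
  have hle : ∀ i, simplexStep^[i] x ≤ 1 := fun i => (abs_le.1 (hbig _ (hiter i))).2
  have hneg : ∀ y : ℝ, simplexStep^[k] y = y → -1 / 10 ≤ y → y < 0 → y = -1 / 11 := by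
    intro y hy hy0 hy1
    have hinv : ∀ i, (-1 / 10 ≤ simplexStep^[i] y ∧ simplexStep^[i] y < 0) ∧
        |simplexStep^[i] y + 1 / 11| ≤ (22 / 100) ^ i * |y + 1 / 11| := by
      intro i
      induction i with
      | zero => simp [hy0, hy1]
      | succ i ih =>
        obtain ⟨⟨h1, h2⟩, h3⟩ := ih
        rw [hsucc]
        set z := simplexStep^[i] y
        refine ⟨⟨?_, ?_⟩, ?_⟩
        · rw [simplexStep]; nlinarith [sq_nonneg z]
        · rw [simplexStep]; nlinarith
        · have he : simplexStep z + 1 / 11 = 11 / 10 * (z - 1 / 11) * (z + 1 / 11) := by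
            rw [simplexStep]; ring
          rw [he, abs_mul, pow_succ, mul_comm _ (22 / 100 : ℝ), mul_assoc]
          refine mul_le_mul ?_ h3 (abs_nonneg _) (by norm_num)
          rw [abs_le]; constructor <;> linarith
    have h3 := (hinv k).2
    rw [hy] at h3
    have hlt : ((22 : ℝ) / 100) ^ k < 1 := pow_lt_one₀ (by norm_num) (by norm_num) hk.ne'
    have : |y + 1 / 11| = 0 := by
      by_contra h0
      have hpos : 0 < |y + 1 / 11| := lt_of_le_of_ne (abs_nonneg _) (Ne.symm h0)
      nlinarith
    rw [abs_eq_zero] at this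
    linarith
  by_cases hx : x < 0
  · exact Or.inr (hneg x h (hge 0) hx)
  have hfix : simplexStep (-1 / 11) = -1 / 11 := by rw [simplexStep]; norm_num
  have hpos : ∀ i, 0 ≤ simplexStep^[i] x := by
    intro i
    by_contra hi
    have hy := hneg _ (hiter i) (hge i) (not_le.1 hi)
    have hall : ∀ j, simplexStep^[i + j] x = -1 / 11 := by
      intro j
      induction j with
      | zero => exact hy
      | succ j ih => rw [← add_assoc, hsucc, ih, hfix]
    have hper : ∀ j, simplexStep^[k * j] x = x := by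
      intro j
      induction j with
      | zero => simp
      | succ j ih => rw [Nat.mul_succ, Function.iterate_add_apply, h, ih]
    have hij : i ≤ k * i := Nat.le_mul_of_pos_left i hk
    have hcontra := hall (k * i - i)
    rw [Nat.add_sub_cancel' hij, hper] at hcontra
    linarith
  have hmono : ∀ i, simplexStep^[i + 1] x ≤ simplexStep^[i] x := fun i => by
    rw [hsucc, simplexStep]
    nlinarith [hpos i, hle i]
  have hanti : Antitone fun i => simplexStep^[i] x := antitone_nat_of_succ_le hmono
  have h1 := hanti (show 1 ≤ k from hk)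
  have h2 := hmono 0
  simp only [h, Function.iterate_one, zero_add, Function.iterate_zero, id_eq] at h1 h2
  have h3 : simplexStep x = x := le_antisymm h2 h1
  rw [simplexStep] at h3
  have h4 : (x - 1) * (11 * x + 1) = 0 := by linarith
  rcases mul_eq_zero.1 h4 with h5 | h5
  · exact Or.inl (by linarith)
  · exact Or.inr (by linarith)

section Inner

variable {G : Type*} [Group G] [Fintype G] {ι : Type*} [Fintype ι] [DecidableEq ι]
  (φ : G →* Matrix ι ι ℂ)

/-- An invariant inner product. -/
noncomputable def invInner (u w : ι → ℂ) : ℂ :=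
  ∑ g : G, star (φ g *ᵥ u) ⬝ᵥ (φ g *ᵥ w)

theorem invInner_smul (c : ℂ) (u w : ι → ℂ) :
    invInner φ u (c • w) = c * invInner φ u w := by
  simp [invInner, mulVec_smul, Finset.mul_sum]

theorem invInner_act (h : G) (u w : ι → ℂ) :
    invInner φ (φ h *ᵥ u) (φ h *ᵥ w) = invInner φ u w := by
  simp only [invInner, mulVec_mulVec, ← map_mul]
  exact Fintype.sum_equiv (Equiv.mulRight h) _ _ fun g => rfl

theorem invInner_act_left (h : G) (u w : ι → ℂ) :
    invInner φ (φ h *ᵥ u) w = invInner φ u (φ h⁻¹ *ᵥ w) := by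
  rw [← invInner_act φ h u (φ h⁻¹ *ᵥ w), mulVec_mulVec, ← map_mul, mul_inv_cancel, map_one,
    one_mulVec]

theorem invInner_self (z : ι → ℂ) :
    invInner φ z z = ((∑ g : G, ∑ i, Complex.normSq ((φ g *ᵥ z) i) : ℝ) : ℂ) := by
  rw [Complex.ofReal_sum]
  refine Finset.sum_congr rfl fun g _ => ?_
  rw [Complex.ofReal_sum]
  refine Finset.sum_congr rfl fun i _ => ?_
  rw [Pi.star_apply, Complex.normSq_eq_conj_mul_self]
  rfl

theorem eq_zero_of_invInner_self {z : ι → ℂ} (h : invInner φ z z = 0) : z = 0 := by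
  rw [invInner_self, Complex.ofReal_eq_zero, Finset.sum_eq_zero_iff_of_nonneg (fun g _ =>
    Finset.sum_nonneg fun i _ => Complex.normSq_nonneg _)] at h
  have h1 := h 1 (Finset.mem_univ _)
  rw [map_one, one_mulVec, Finset.sum_eq_zero_iff_of_nonneg
    (fun i _ => Complex.normSq_nonneg _)] at h1
  exact funext fun i => Complex.normSq_eq_zero.1 (h1 i (Finset.mem_univ _))

theorem invInner_add_left (u u' w : ι → ℂ) :
    invInner φ (u + u') w = invInner φ u w + invInner φ u' w := by
  simp [invInner, mulVec_add, add_dotProduct, Finset.sum_add_distrib]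

theorem invInner_sum_sum (O : Finset (ι → ℂ)) :
    invInner φ (∑ x ∈ O, x) (∑ x ∈ O, x) = ∑ x ∈ O, ∑ y ∈ O, invInner φ x y := by
  simp only [invInner, mulVec_sum, star_sum, sum_dotProduct, dotProduct_sum]
  conv_rhs => rw [Finset.sum_comm]
  rw [Finset.sum_comm]
  exact Finset.sum_congr rfl fun x _ => Finset.sum_comm

/-- A trace-one fixed space whose spherical function takes the values `1` and `-1/11` only
gives a proper subgroup of index at most twelve. -/
theorem exists_index_le (N : Subgroup G) [Fintype N]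
    (h1 : cosetMean N (fun x => (φ x).trace) 1 = 1)
    (hval : ∀ g, cosetMean N (fun x => (φ x).trace) g = 1 ∨
      cosetMean N (fun x => (φ x).trace) g = -1 / 11)
    (hex : ∃ g, cosetMean N (fun x => (φ x).trace) g ≠ 1) :
    ∃ S : Subgroup G, N ≤ S ∧ S.index ≤ 12 ∧ S ≠ ⊤ := by
  classical
  set E := avgOn φ N with hE
  have hE2 : E * E = E := avgOn_idem φ N
  have hEt : E.trace = 1 := by rw [← h1, ← trace_mul_avgOn, map_one, one_mul]
  obtain ⟨v, hv0, hEv, -⟩ := exists_rank_one E hE2 hEt
  set f : G → ℂ := cosetMean N (fun x => (φ x).trace) with hf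
  have hact : ∀ g, E *ᵥ (φ g *ᵥ v) = f g • v := fun g => by
    have h := congrArg (fun M : Matrix ι ι ℂ => M *ᵥ v) (compress E hE2 hEt (φ g))
    simp only [← mulVec_mulVec, smul_mulVec] at h
    rw [hEv] at h
    rw [h, hE, trace_mul_avgOn]
  have hNv : ∀ n ∈ N, φ n *ᵥ v = v := fun n hn => by
    conv_lhs => rw [← hEv]
    rw [mulVec_mulVec, hE, avgOn_mul_left φ N hn, ← hE, hEv]
  have hip : ∀ g, invInner φ v (φ g *ᵥ v) = f g * invInner φ v v := fun g => by
    rw [← invInner_smul, ← hact g, hE, avgOn, smul_mulVec, invInner_smul, Matrix.sum_mulVec]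
    have hsum : ∀ (w : N → ι → ℂ), invInner φ v (∑ n, w n) = ∑ n, invInner φ v (w n) := fun w => by
      simp only [invInner, mulVec_sum, dotProduct_sum]
      exact Finset.sum_comm
    rw [hsum, Finset.sum_congr rfl fun (n : N) _ => (show invInner φ v (φ (n : G) *ᵥ (φ g *ᵥ v)) =
      invInner φ v (φ g *ᵥ v) from
        (congrArg (fun u => invInner φ u (φ (n : G) *ᵥ (φ g *ᵥ v))) (hNv n n.2)).symm.trans
          (invInner_act φ _ _ _)), Finset.sum_const, Finset.card_univ, nsmul_eq_mul, ← mul_assoc,
      inv_mul_cancel₀ (Nat.cast_ne_zero.2 Fintype.card_ne_zero), one_mul]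
  set b := ∑ g : G, ∑ i, Complex.normSq ((φ g *ᵥ v) i) with hb
  have hbv : invInner φ v v = (b : ℂ) := invInner_self φ v
  have hb0 : 0 < b := lt_of_le_of_ne (Finset.sum_nonneg fun g _ =>
    Finset.sum_nonneg fun i _ => Complex.normSq_nonneg _) fun h =>
      hv0 (eq_zero_of_invInner_self φ (by rw [hbv, ← h, Complex.ofReal_zero]))
  have heq : ∀ g, f g = 1 → φ g *ᵥ v = v := fun g hg => by
    rw [← sub_eq_zero]
    refine eq_zero_of_invInner_self φ ?_
    have e1 := hip g
    rw [hg, one_mul] at e1
    have e3 : invInner φ (φ g *ᵥ v) (φ g *ᵥ v) = invInner φ v v := invInner_act φ g v v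
    have e2 : invInner φ (φ g *ᵥ v) v = invInner φ v v := by
      rw [invInner_act_left, hip]
      have hconj : f g⁻¹ = 1 := by
        have h0 : invInner φ (φ g *ᵥ v) v = conj (invInner φ v (φ g *ᵥ v)) := by
          simp [invInner, dotProduct, map_sum, mul_comm]
        rw [invInner_act_left, hip, e1, hbv, Complex.conj_ofReal] at h0
        exact mul_right_cancel₀ (Complex.ofReal_ne_zero.2 hb0.ne') (h0.trans (one_mul _).symm)
      rw [hconj, one_mul]
    simp only [invInner, mulVec_sub, star_sub, sub_dotProduct, dotProduct_sub,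
      Finset.sum_sub_distrib] at e1 e2 e3 ⊢
    rw [e1, e2, e3]; ring
  set S : Subgroup G :=
    { carrier := {g | φ g *ᵥ v = v}
      one_mem' := by simp
      mul_mem' := fun {a b} ha hb => by
        rw [Set.mem_ofPred_eq] at ha hb ⊢
        rw [map_mul, ← mulVec_mulVec, hb, ha]
      inv_mem' := fun {a} ha => by
        rw [Set.mem_ofPred_eq] at ha ⊢
        conv_lhs => rw [← ha, mulVec_mulVec, ← map_mul, inv_mul_cancel, map_one, one_mulVec] } with hS
  refine ⟨S, hNv, ?_, fun htop => ?_⟩
  · set O := Finset.univ.image fun g : G => φ g *ᵥ v with hO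
    have hidx : S.index = O.card := by
      have hwd : ∀ a b : G, a⁻¹ * b ∈ S ↔ φ a *ᵥ v = φ b *ᵥ v := fun a b => by
        change φ (a⁻¹ * b) *ᵥ v = v ↔ _
        constructor
        · intro h
          conv_lhs => rw [← h, mulVec_mulVec, ← map_mul, mul_inv_cancel_left]
        · intro h
          rw [map_mul, ← mulVec_mulVec, ← h, mulVec_mulVec, ← map_mul, inv_mul_cancel, map_one,
            one_mulVec]
      let F : G ⧸ S → O := Quotient.lift (fun g => ⟨φ g *ᵥ v, Finset.mem_image_of_mem _
        (Finset.mem_univ g)⟩) (fun a b hab => Subtype.ext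
          ((hwd a b).1 (QuotientGroup.leftRel_apply.1 hab)))
      have hbij : Function.Bijective F := by
        constructor
        · intro a b hab
          induction a using Quotient.inductionOn with
          | h a =>
            induction b using Quotient.inductionOn with
            | h b =>
              exact Quotient.sound (QuotientGroup.leftRel_apply.2
                ((hwd a b).2 (congrArg Subtype.val hab)))
        · rintro ⟨x, hx⟩
          obtain ⟨g, -, rfl⟩ := Finset.mem_image.1 hx
          exact ⟨QuotientGroup.mk g, rfl⟩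
      rw [Subgroup.index, Nat.card_congr (Equiv.ofBijective F hbij), Nat.card_eq_fintype_card,
        Fintype.card_coe]
    have hpair : ∀ x ∈ O, ∀ y ∈ O,
        invInner φ x y = (if x = y then 1 else (-1 / 11 : ℂ)) * (b : ℂ) := by
      intro x hx y hy
      obtain ⟨g, -, rfl⟩ := Finset.mem_image.1 hx
      obtain ⟨h, -, rfl⟩ := Finset.mem_image.1 hy
      rw [invInner_act_left, mulVec_mulVec, ← map_mul, hip, hbv]
      congr 1
      split_ifs with he
      · have h0 : φ (g⁻¹ * h) *ᵥ v = v := by
          rw [map_mul, ← mulVec_mulVec, ← he, mulVec_mulVec, ← map_mul, inv_mul_cancel, map_one,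
            one_mulVec]
        have h2 := hip (g⁻¹ * h)
        rw [h0, hbv] at h2
        exact mul_right_cancel₀ (Complex.ofReal_ne_zero.2 hb0.ne')
          (h2.symm.trans (one_mul _).symm)
      · refine (hval _).resolve_left fun hh => he ?_
        have h0 := heq _ hh
        conv_lhs => rw [← h0, mulVec_mulVec, ← map_mul, mul_inv_cancel_left]
    have hs := invInner_sum_sum φ O
    rw [invInner_self, Finset.sum_congr rfl fun x hx =>
      Finset.sum_congr rfl fun y hy => hpair x hx y hy] at hs
    have hrow : ∀ x ∈ O, ∑ y ∈ O, (if x = y then 1 else (-1 / 11 : ℂ)) * (b : ℂ) =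
        (12 / 11 - (O.card : ℂ) / 11) * b := by
      intro x hx
      rw [← Finset.sum_mul]
      congr 1
      rw [← Finset.add_sum_erase _ _ hx, if_pos rfl, Finset.sum_congr rfl fun y hy =>
        (show (if x = y then 1 else (-1 / 11 : ℂ)) = -1 / 11 from
          if_neg fun he => (Finset.mem_erase.1 hy).1 he.symm), Finset.sum_const,
        Finset.card_erase_of_mem hx, nsmul_eq_mul,
        Nat.cast_sub (Finset.card_pos.2 ⟨x, hx⟩), Nat.cast_one]
      ring
    rw [Finset.sum_congr rfl hrow, Finset.sum_const, nsmul_eq_mul] at hs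
    set r := ∑ g : G, ∑ i, Complex.normSq ((φ g *ᵥ ∑ x ∈ O, x) i) with hr
    have hr0 : 0 ≤ r := Finset.sum_nonneg fun g _ =>
      Finset.sum_nonneg fun i _ => Complex.normSq_nonneg _
    have hreal : r = (O.card : ℝ) * ((12 / 11 - (O.card : ℝ) / 11) * b) := by
      refine Complex.ofReal_injective ?_
      rw [hs]; push_cast; ring
    rw [hidx]
    by_contra hlt
    have h13 : (13 : ℝ) ≤ O.card := by exact_mod_cast not_le.1 hlt
    have hneg : (O.card : ℝ) * ((12 / 11 - (O.card : ℝ) / 11) * b) < 0 :=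
      mul_neg_of_pos_of_neg (by linarith) (mul_neg_of_neg_of_pos (by linarith) hb0)
    linarith
  · obtain ⟨g, hg⟩ := hex
    refine hg ?_
    have hgS : φ g *ᵥ v = v := (htop ▸ Subgroup.mem_top g : g ∈ S)
    have h := hip g
    rw [hgS, hbv] at h
    exact mul_right_cancel₀ (Complex.ofReal_ne_zero.2 hb0.ne') (h.symm.trans (one_mul _).symm)

end Inner

section Family

variable {G : Type u} [Group G] [Fintype G]

/-- The matrix form of a representation. -/
noncomputable def repHom {d : ℕ} (ρ : Representation ℂ G (Fin d → ℂ)) :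
    G →* Matrix (Fin d) (Fin d) ℂ where
  toFun := CharBasic.repMat ρ
  map_one' := CharBasic.repMat_one ρ
  map_mul' := CharBasic.repMat_mul ρ

theorem trace_repHom {d : ℕ} (ρ : Representation ℂ G (Fin d → ℂ)) :
    (fun x => (repHom ρ x).trace) = ρ.character :=
  funext fun x => (CharBasic.character_eq_trace_repMat ρ x).symm

/-- A character without invariants in `N` has vanishing coset means. -/
theorem cosetMean_eq_zero {R : G → ℂ} (hR : Cfsg.IsCharacter G R) (N : Subgroup G) [Fintype N]
    (h0 : cosetMean N R 1 = 0) (g : G) : cosetMean N R g = 0 := by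
  obtain ⟨d, ρ, rfl⟩ := hR
  rw [← trace_repHom ρ, ← trace_mul_avgOn, map_one, one_mul] at h0
  rw [← trace_repHom ρ, ← trace_mul_avgOn, eq_zero_of_trace _ (avgOn_idem _ N) h0, mul_zero,
    Matrix.trace_zero]

theorem cosetMean_top (χ : G → ℂ) (h : G) [Fintype (⊤ : Subgroup G)] :
    cosetMean (⊤ : Subgroup G) χ h = (Fintype.card G : ℂ)⁻¹ * ∑ g : G, χ g := by
  have hc : Fintype.card (⊤ : Subgroup G) = Fintype.card G :=
    Fintype.card_congr Subgroup.topEquiv.toEquiv
  rw [cosetMean, hc]
  congr 1
  exact Fintype.sum_equiv (Subgroup.topEquiv.toEquiv.trans (Equiv.mulLeft h)) _ _ fun g => rfl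

/-- A nontrivial irreducible character sums to zero. -/
theorem sum_irr_eq_zero {χ : G → ℂ} (hχ : Cfsg.IsIrrCharacter G χ) (h1 : χ 1 ≠ 1) :
    ∑ g : G, χ g = 0 := by
  have h := CharBasic.classInner_irr_of_ne hχ CharBasic.isIrrCharacter_one
    (fun he => h1 (congrFun he 1))
  rw [Cfsg.classInner] at h
  simpa using (mul_eq_zero.1 h).resolve_left
    (inv_ne_zero (Nat.cast_ne_zero.2 Nat.card_pos.ne'))

/-- The mean square of the spherical function. -/
theorem mean_sq {d : ℕ} (ρ : Representation ℂ G (Fin d → ℂ)) [ρ.IsIrreducible]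
    (N : Subgroup G) [Fintype N] (h1 : cosetMean N ρ.character 1 = 1) :
    (d : ℂ) * ∑ g : G, cosetMean N ρ.character g * cosetMean N ρ.character g⁻¹ =
      Fintype.card G := by
  rw [← trace_repHom ρ] at h1 ⊢
  simp only [← trace_mul_avgOn] at h1 ⊢
  rw [map_one, one_mul] at h1
  set φ := repHom ρ with hφ
  set E := avgOn φ N with hE
  have hterm : ∀ g, (φ g * E).trace * (φ g⁻¹ * E).trace = (φ g * E * φ g⁻¹ * E).trace :=
    fun g => by
      have hEE : E * E = E := avgOn_idem φ N
      have h := congrArg Matrix.trace (congrArg₂ (· * ·) (compress E hEE h1 (φ g))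
        (compress E hEE h1 (φ g⁻¹)))
      simp only [smul_mul_assoc, mul_smul_comm, smul_smul, hEE, Matrix.trace_smul, smul_eq_mul,
        h1, mul_one] at h
      rw [show E * φ g * E * (E * φ g⁻¹ * E) = E * (φ g * E * φ g⁻¹ * E) by
          simp only [mul_assoc]; rw [← mul_assoc E E, hEE], Matrix.trace_mul_comm,
        show φ g * E * φ g⁻¹ * E * E = φ g * E * φ g⁻¹ * E by rw [mul_assoc _ E E, hEE]] at h
      exact (h.trans (mul_comm _ _)).symm
  rw [Finset.sum_congr rfl fun g _ => hterm g]
  set A := ∑ g : G, φ g * E * φ g⁻¹ with hA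
  have hAc : ∀ h, A * φ h = φ h * A := fun h => by
    rw [hA, Finset.sum_mul, Finset.mul_sum]
    refine Fintype.sum_equiv (Equiv.mulLeft h⁻¹) _ _ fun g => ?_
    simp only [Equiv.coe_mulLeft, mul_assoc, ← map_mul, _root_.mul_inv_rev, inv_inv]
    rw [← mul_assoc (φ h), ← map_mul, mul_inv_cancel_left]
  obtain ⟨c, hc⟩ := CharBasic.schur_scalar ρ (Matrix.toLin' A) fun h => by
    have he : ρ h = Matrix.toLin' (φ h) := (Matrix.toLin'_toMatrix' _).symm
    rw [he, Module.End.mul_eq_comp, Module.End.mul_eq_comp, ← Matrix.toLin'_mul,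
      ← Matrix.toLin'_mul, hAc]
  have hA' : A = c • (1 : Matrix (Fin d) (Fin d) ℂ) := by
    have h := congrArg LinearMap.toMatrix' hc
    rwa [LinearMap.toMatrix'_toLin', map_smul, LinearMap.toMatrix'_id] at h
  have htr : A.trace = (Fintype.card G : ℂ) := by
    rw [hA, Matrix.trace_sum, Finset.sum_congr rfl fun g _ => (show (φ g * E * φ g⁻¹).trace = 1 by
      rw [Matrix.trace_mul_comm, ← mul_assoc, ← map_mul, inv_mul_cancel, map_one, one_mul, h1]),
      Finset.sum_const, Finset.card_univ, nsmul_eq_mul, mul_one]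
  rw [hA', Matrix.trace_smul, Matrix.trace_one, Fintype.card_fin, smul_eq_mul] at htr
  rw [← Matrix.trace_sum, ← Finset.sum_mul, ← hA, hA', smul_mul_assoc, one_mul,
    Matrix.trace_smul, h1, smul_eq_mul, mul_one, mul_comm, htr]

/-- The square of the spherical function of a real character of degree eleven. -/
theorem sq_eq (N : Subgroup G) [Fintype N] {χ χ' R : G → ℂ}
    (hχ : Cfsg.IsIrrCharacter G χ) (hd : χ 1 = 11) (hreal : ∀ g, (χ g).im = 0)
    (h1 : cosetMean N χ 1 = 1) (hχ' : Cfsg.IsIrrCharacter G χ') (hd' : χ' 1 = 11)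
    (h1' : cosetMean N χ' 1 = 1) (hR : Cfsg.IsCharacter G R) (hR0 : cosetMean N R 1 = 0)
    (hdec : ∀ g, symSq χ g = 1 + χ' g + R g) (g : G) :
    cosetMean N χ g ^ 2 = 1 / 11 + 10 / 11 * cosetMean N χ' g := by
  classical
  obtain ⟨d, ρ, hρ, hρχ⟩ := hχ
  haveI := hρ
  have hd11 : (d : ℂ) = 11 := by
    rw [← hd, ← hρχ, Representation.char_one, Module.finrank_pi, Fintype.card_fin]
  have htr : (fun x => (repHom ρ x).trace) = χ := (trace_repHom ρ).trans hρχ
  have hsplit : ∀ g, cosetMean N (symSq χ) g = 1 + cosetMean N χ' g := fun g => by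
    have h := cosetMean_eq_zero hR N hR0 g
    simp only [cosetMean, hdec, Finset.sum_add_distrib, mul_add] at h ⊢
    rw [h, Finset.sum_const, Finset.card_univ, nsmul_eq_mul, mul_one,
      inv_mul_cancel₀ (Nat.cast_ne_zero.2 Fintype.card_ne_zero), add_zero]
  have hχ'0 := sum_irr_eq_zero hχ' (by rw [hd']; norm_num)
  have hR00 : ∑ g : G, R g = 0 := by
    have h : ∑ g : G, cosetMean N R g = 0 :=
      Finset.sum_eq_zero fun g _ => cosetMean_eq_zero hR N hR0 g
    simp only [cosetMean, ← Finset.mul_sum] at h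
    rw [Finset.sum_comm, Finset.sum_congr rfl fun (n : N) _ =>
      (show ∑ g : G, R (g * n) = ∑ g : G, R g from
        Fintype.sum_equiv (Equiv.mulRight (n : G)) _ _ fun g => rfl)] at h
    rw [Finset.sum_const, Finset.card_univ, nsmul_eq_mul, ← mul_assoc,
      inv_mul_cancel₀ (Nat.cast_ne_zero.2 Fintype.card_ne_zero), one_mul] at h
    exact h
  have h0 : cosetMean (⊤ : Subgroup G) (symSq χ) 1 = 1 := by
    rw [cosetMean_top, Finset.sum_congr rfl fun g _ => hdec g, Finset.sum_add_distrib,
      Finset.sum_add_distrib, hχ'0, hR00, Finset.sum_const, Finset.card_univ, nsmul_eq_mul,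
      mul_one, add_zero, add_zero, inv_mul_cancel₀ (Nat.cast_ne_zero.2 Fintype.card_ne_zero)]
  obtain ⟨a, b, hab⟩ := spherical_sq (repHom ρ) N (by rw [htr]; exact h1)
    (by rw [htr, hsplit, h1']; norm_num) (by rw [htr]; exact h0)
  simp only [htr, hsplit, add_sub_cancel_left] at hab
  have hab1 : (1 : ℂ) = a + b := by
    have h := hab 1
    rwa [h1, h1', one_pow, mul_one] at h
  have hchar : Cfsg.IsCharacter G χ := ⟨d, ρ, hρχ⟩
  have hinv : ∀ g, cosetMean N χ g⁻¹ = cosetMean N χ g := fun g => by
    simp only [cosetMean]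
    congr 1
    refine Fintype.sum_equiv (Equiv.inv N) _ _ fun n => ?_
    rw [Equiv.inv_apply, InvMemClass.coe_inv]
    have h := CharBasic.IsChar.inv_apply hchar ((n : G)⁻¹ * g)
    rw [Complex.conj_eq_iff_im.2 (hreal _), _root_.mul_inv_rev, inv_inv] at h
    rw [h]
    have hc := CharBasic.IsChar.isClassFunction hchar ((g : G) * (n : G)⁻¹) (n : G)⁻¹
    rw [← hc]
    congr 1
    group
  have hsum := mean_sq ρ N (by rw [hρχ]; exact h1)
  simp only [hρχ, hinv, ← sq] at hsum
  have hf' : ∑ g : G, cosetMean N χ' g = 0 := by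
    simp only [cosetMean, ← Finset.mul_sum]
    rw [Finset.sum_comm, Finset.sum_congr rfl fun (n : N) _ =>
      (show ∑ g : G, χ' (g * n) = ∑ g : G, χ' g from
        Fintype.sum_equiv (Equiv.mulRight (n : G)) _ _ fun g => rfl), hχ'0]
    simp
  rw [Finset.sum_congr rfl fun g _ => hab g, Finset.sum_add_distrib, ← Finset.mul_sum, hf',
    mul_zero, add_zero, Finset.sum_const, Finset.card_univ, nsmul_eq_mul, hd11] at hsum
  have ha : a = 1 / 11 := by
    have hc : (Fintype.card G : ℂ) ≠ 0 := Nat.cast_ne_zero.2 Fintype.card_ne_zero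
    have h11 : (Fintype.card G : ℂ) * (11 * a) = (Fintype.card G : ℂ) * 1 := by
      rw [mul_one]; linear_combination hsum
    have := mul_left_cancel₀ hc h11
    linear_combination this / 11
  rw [hab g, ha]
  have hb : b = 10 / 11 := by rw [ha] at hab1; linear_combination -hab1
  rw [hb]

/-- A closed family of real characters of degree eleven gives a subgroup of index twelve. -/
theorem exists_index_twelve [IsSimpleGroup G] (hn : Nat.card G = 95040) (N : Subgroup G)
    [Fintype N] (hN : Nat.card N = 55) (F : Set (G → ℂ)) (hne : F.Nonempty)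
    (hF : ∀ χ ∈ F, Cfsg.IsIrrCharacter G χ ∧ χ 1 = 11 ∧ (∀ g, (χ g).im = 0) ∧
      cosetMean N χ 1 = 1 ∧ ∃ χ' ∈ F, ∃ R : G → ℂ, Cfsg.IsCharacter G R ∧
        cosetMean N R 1 = 0 ∧ ∀ g, symSq χ g = 1 + χ' g + R g) :
    ∃ S : Subgroup G, S.index = 12 := by
  classical
  haveI : Finite (Cfsg.IrrCharacter G) := CharBasic.finite_irrCharacter
  haveI : Finite F := Finite.of_injective
    (fun χ : F => (⟨(χ : G → ℂ), (hF χ χ.2).1⟩ : Cfsg.IrrCharacter G))
    fun a b h => Subtype.ext (congrArg (fun x : Cfsg.IrrCharacter G => x.1) h)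
  choose s hsF R hR using fun χ : F => (hF χ χ.2).2.2.2.2
  let next : F → F := fun χ => ⟨s χ, hsF χ⟩
  obtain ⟨χ₀, hχ₀⟩ := hne
  obtain ⟨i, j, hij, he⟩ := Finite.exists_ne_map_eq_of_infinite
    fun i : ℕ => next^[i] ⟨χ₀, hχ₀⟩
  wlog hlt : i < j generalizing i j
  · exact this j i hij.symm he.symm (by omega)
  set χ := next^[i] (⟨χ₀, hχ₀⟩ : F) with hχdef
  have hper : next^[j - i] χ = χ := by
    rw [hχdef, ← Function.iterate_add_apply, Nat.sub_add_cancel hlt.le]
    exact he.symm
  have hreal : ∀ (ψ : F) (g : G), (cosetMean N (ψ : G → ℂ) g).im = 0 := fun ψ g => by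
    have him := (hF ψ ψ.2).2.2.1
    simp [cosetMean, Complex.mul_im, Complex.im_sum, him, Complex.inv_im]
  have hstep : ∀ (ψ : F) (g : G), (cosetMean N (next ψ : G → ℂ) g).re =
      simplexStep (cosetMean N (ψ : G → ℂ) g).re := fun ψ g => by
    obtain ⟨hi, hd, hr, h1, -⟩ := hF ψ ψ.2
    obtain ⟨hi', hd', -, h1', -⟩ := hF (next ψ) (next ψ).2
    have h := sq_eq N hi hd hr h1 hi' hd' h1' (hR ψ).1 (hR ψ).2.1 (hR ψ).2.2 g
    have hre : cosetMean N (ψ : G → ℂ) g = ((cosetMean N (ψ : G → ℂ) g).re : ℂ) :=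
      Complex.ext (by simp) (by simp [hreal ψ g])
    have hre' : cosetMean N (next ψ : G → ℂ) g = ((cosetMean N (next ψ : G → ℂ) g).re : ℂ) :=
      Complex.ext (by simp) (by simp [hreal (next ψ) g])
    rw [hre, hre'] at h
    have h' : (cosetMean N (ψ : G → ℂ) g).re ^ 2 =
        1 / 11 + 10 / 11 * (cosetMean N (next ψ : G → ℂ) g).re := by
      refine Complex.ofReal_injective ?_
      push_cast
      exact h
    rw [simplexStep]
    linarith
  have hiter : ∀ (g : G) (m : ℕ), (cosetMean N (next^[m] χ : G → ℂ) g).re =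
      simplexStep^[m] (cosetMean N (χ : G → ℂ) g).re := by
    intro g m
    induction m with
    | zero => rfl
    | succ m ih => rw [Function.iterate_succ_apply', hstep, ih, Function.iterate_succ_apply']
  obtain ⟨hi', hd, hr, h1, χ', hχ'F, R', hR', hR0', hdec'⟩ := hF χ χ.2
  have hval : ∀ g, cosetMean N (χ : G → ℂ) g = 1 ∨ cosetMean N (χ : G → ℂ) g = -1 / 11 := by
    intro g
    have h := hiter g (j - i)
    rw [hper] at h
    rcases periodic_simplexStep (by omega) h.symm with e | e
    · exact Or.inl (Complex.ext (by simp [e]) (by simp [hreal χ g]))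
    · exact Or.inr (Complex.ext (by rw [e]; norm_num) (by rw [hreal χ g]; norm_num))
  obtain ⟨d, ρ, hρ, hρχ⟩ := hi'
  haveI := hρ
  have htr : (fun x => (repHom ρ x).trace) = (χ : G → ℂ) := (trace_repHom ρ).trans hρχ
  have hd11 : (d : ℂ) = 11 := by
    rw [← hd, ← hρχ, Representation.char_one, Module.finrank_pi, Fintype.card_fin]
  obtain ⟨S, hNS, hle, hne'⟩ := exists_index_le (repHom ρ) N (by rw [htr]; exact h1)
    (by rw [htr]; exact hval) (by
      rw [htr]
      by_contra hall
      push Not at hall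
      have h := mean_sq ρ N (by rw [hρχ]; exact h1)
      rw [hρχ, Finset.sum_congr rfl fun g _ => show cosetMean N (χ : G → ℂ) g *
        cosetMean N (χ : G → ℂ) g⁻¹ = 1 by rw [hall, hall, one_mul], Finset.sum_const,
        Finset.card_univ, nsmul_eq_mul, mul_one, hd11] at h
      have hc : (Fintype.card G : ℂ) ≠ 0 := Nat.cast_ne_zero.2 Fintype.card_ne_zero
      exact hc (by linear_combination h / 10))
  refine ⟨S, ?_⟩
  have hidx : S.index ∣ 1728 := by
    have h := (Subgroup.index_dvd_of_le hNS)
    have hNi : N.index = 1728 := by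
      have h := N.card_mul_index
      rw [hN, hn] at h
      omega
    rwa [hNi] at h
  have h1' : S.index ≠ 1 := fun h => hne' (Subgroup.index_eq_one.1 h)
  have hfac := H36.card_dvd_factorial hne'
  rw [hn] at hfac
  interval_cases h : S.index <;> first
    | omega
    | exact absurd hfac (by decide)

end Family

end Cfsg.Agent.H79.MTwelve
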