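import Cfsg.Agent.H81.FixedProjection
import Cfsg.Agent.CharBasic.Indicator
import Cfsg.Agent.CharBasic.Orth
import Mathlib.Analysis.Matrix.PosDef

/-!
# Spherical functions of a representation with a one-dimensional fixed space

For a matrix representation `φ` and a subgroup `N` whose averaging projection `E` has trace one,
the function `f g = tr (φ g * E)` is studied: its square is an affine function of the spherical
function of the symmetric square, its mean square is `1 / d`, and the orbit of a fixed vector is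
a two-distance configuration for an invariant inner product.
-/

set_option autoImplicit false
set_option linter.unusedSectionVars false

namespace Cfsg.Agent.H79.MTwelve

open Matrix Cfsg.Agent.H81
open scoped Kronecker ComplexConjugate

variable {G : Type*} [Group G] [Fintype G] {ι : Type*} [Fintype ι] [DecidableEq ι]

/-- The values of the symmetric square. -/
noncomputable def symSq (χ : G → ℂ) (g : G) : ℂ := (χ g ^ 2 + χ (g * g)) / 2

/-- The average of a function over a left coset of a subgroup. -/
noncomputable def cosetMean (N : Subgroup G) [Fintype N] (χ : G → ℂ) (g : G) : ℂ :=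
  (Fintype.card N : ℂ)⁻¹ * ∑ n : N, χ (g * n)

theorem trace_mul_avgOn (φ : G →* Matrix ι ι ℂ) (N : Subgroup G) [Fintype N] (g : G) :
    (φ g * avgOn φ N).trace = cosetMean N (fun x => (φ x).trace) g := by
  simp [avgOn, cosetMean, Finset.mul_sum, Matrix.trace_sum, map_mul]

theorem avgOn_idem (φ : G →* Matrix ι ι ℂ) (N : Subgroup G) [Fintype N] :
    avgOn φ N * avgOn φ N = avgOn φ N := by
  conv_lhs => arg 1; rw [avgOn]
  rw [smul_mul_assoc, Finset.sum_mul, Finset.sum_congr rfl fun (o : N) _ =>
    avgOn_mul_left φ N o.2, Finset.sum_const, Finset.card_univ, ← Nat.cast_smul_eq_nsmul ℂ,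
    smul_smul, inv_mul_cancel₀ (Nat.cast_ne_zero.2 Fintype.card_ne_zero), one_smul]

/-- An idempotent of trace one is a rank-one projection. -/
theorem exists_rank_one (M : Matrix ι ι ℂ) (hM : M * M = M) (h1 : M.trace = 1) :
    ∃ v : ι → ℂ, v ≠ 0 ∧ M *ᵥ v = v ∧ ∀ w, ∃ c : ℂ, M *ᵥ w = c • v := by
  have htr := trace_eq_finrank M (LinearMap.range M.mulVecLin) (fun v => ⟨v, rfl⟩) (by
    rintro _ ⟨w, rfl⟩
    rw [Matrix.mulVecLin_apply, mulVec_mulVec, hM])
  have hr : Module.finrank ℂ (LinearMap.range M.mulVecLin) = 1 := by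
    have h : (1 : ℂ) = (Module.finrank ℂ (LinearMap.range M.mulVecLin) : ℂ) := h1.symm.trans htr
    exact_mod_cast h.symm
  obtain ⟨v, hv0, hv⟩ := finrank_eq_one_iff'.1 hr
  refine ⟨(v : ι → ℂ), fun h => hv0 (Subtype.ext h), ?_, fun w => ?_⟩
  · obtain ⟨w, hw⟩ := v.2
    rw [← hw, Matrix.mulVecLin_apply, mulVec_mulVec, hM]
  · obtain ⟨c, hc⟩ := hv ⟨M *ᵥ w, w, rfl⟩
    exact ⟨c, (congrArg Subtype.val hc).symm⟩

/-- A rank-one projection compresses every matrix to a multiple of itself. -/
theorem compress (M : Matrix ι ι ℂ) (hM : M * M = M) (h1 : M.trace = 1) (A : Matrix ι ι ℂ) :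
    M * A * M = (A * M).trace • M := by
  obtain ⟨v, -, hMv, hv⟩ := exists_rank_one M hM h1
  obtain ⟨a, ha⟩ := hv (A *ᵥ v)
  have hkey : M * A * M = a • M := by
    refine Matrix.ext_of_mulVec_single fun j => ?_
    obtain ⟨c, hc⟩ := hv (Pi.single j 1)
    rw [← mulVec_mulVec, ← mulVec_mulVec, smul_mulVec, hc, mulVec_smul, mulVec_smul, ha,
      smul_comm]
  have htr := congrArg Matrix.trace hkey
  rw [Matrix.trace_smul, h1, smul_eq_mul, mul_one, Matrix.trace_mul_comm, ← mul_assoc, hM,
    Matrix.trace_mul_comm] at htr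
  rw [hkey, htr]

/-- An idempotent of trace zero vanishes. -/
theorem eq_zero_of_trace (M : Matrix ι ι ℂ) (hM : M * M = M) (h0 : M.trace = 0) : M = 0 := by
  have htr := trace_eq_finrank M (LinearMap.range M.mulVecLin) (fun v => ⟨v, rfl⟩) (by
    rintro _ ⟨w, rfl⟩
    rw [Matrix.mulVecLin_apply, mulVec_mulVec, hM])
  rw [h0] at htr
  have hbot := Submodule.finrank_eq_zero.1 (Nat.cast_eq_zero.1 htr.symm)
  refine Matrix.ext_of_mulVec_single fun j => ?_
  have : M *ᵥ Pi.single j 1 ∈ LinearMap.range M.mulVecLin := ⟨_, rfl⟩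
  rw [hbot, Submodule.mem_bot] at this
  rw [this, zero_mulVec]

section Square

variable (φ : G →* Matrix ι ι ℂ)

/-- The tensor square. -/
def tensorSq : G →* Matrix (ι × ι) (ι × ι) ℂ where
  toFun g := φ g ⊗ₖ φ g
  map_one' := by rw [map_one, one_kronecker_one]
  map_mul' a b := by rw [map_mul, mul_kronecker_mul]

/-- The exchange of the two tensor factors. -/
def swapMat : Matrix (ι × ι) (ι × ι) ℂ :=
  (1 : Matrix (ι × ι) (ι × ι) ℂ).submatrix Prod.swap id

theorem swapMat_mul (A : Matrix (ι × ι) (ι × ι) ℂ) : swapMat * A = A.submatrix Prod.swap id := by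
  rw [swapMat]
  ext a b
  simp [Matrix.mul_apply, Matrix.one_apply]

theorem mul_swapMat (A : Matrix (ι × ι) (ι × ι) ℂ) : A * swapMat = A.submatrix id Prod.swap := by
  rw [swapMat]
  ext a b
  simp [Matrix.mul_apply, Matrix.one_apply, Prod.swap_eq_iff_eq_swap]

theorem swapMat_sq : swapMat (ι := ι) * swapMat = 1 := by
  rw [swapMat_mul, swapMat]
  ext a b
  simp [Matrix.one_apply]

theorem swapMat_kron (A : Matrix ι ι ℂ) : swapMat * (A ⊗ₖ A) = (A ⊗ₖ A) * swapMat := by
  rw [swapMat_mul, mul_swapMat]
  ext ⟨a, b⟩ ⟨c, d⟩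
  simp [mul_comm]

theorem trace_swapMat_kron (A : Matrix ι ι ℂ) : (swapMat * (A ⊗ₖ A)).trace = (A * A).trace := by
  rw [swapMat_mul]
  simp only [Matrix.trace, Matrix.diag_apply, submatrix_apply, Matrix.mul_apply, id,
    Fintype.sum_prod_type, Prod.swap_prod_mk, kroneckerMap_apply]
  exact Finset.sum_congr rfl fun a _ => Finset.sum_congr rfl fun b _ => mul_comm _ _

/-- The projection onto symmetric tensors. -/
noncomputable def symMat : Matrix (ι × ι) (ι × ι) ℂ := (2 : ℂ)⁻¹ • (1 + swapMat)

theorem symMat_idem : symMat (ι := ι) * symMat = symMat := by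
  rw [symMat, smul_mul_assoc, mul_smul_comm, smul_smul, add_mul, mul_add, mul_add, swapMat_sq,
    one_mul, mul_one, one_mul, add_comm swapMat (1 : Matrix (ι × ι) (ι × ι) ℂ), ← two_smul ℂ,
    smul_smul]
  norm_num

theorem symMat_comm (g : G) : symMat * tensorSq φ g = tensorSq φ g * symMat := by
  simp only [symMat, smul_mul_assoc, mul_smul_comm, add_mul, mul_add, one_mul, mul_one]
  rw [show swapMat * tensorSq φ g = tensorSq φ g * swapMat from swapMat_kron _]

theorem symMat_avgOn (H : Subgroup G) [Fintype H] :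
    symMat * avgOn (tensorSq φ) H = avgOn (tensorSq φ) H * symMat := by
  simp only [avgOn, mul_smul_comm, smul_mul_assoc, Finset.mul_sum, Finset.sum_mul]
  exact congrArg _ (Finset.sum_congr rfl fun h _ => symMat_comm φ _)

theorem trace_symMat_tensorSq (g : G) :
    (symMat * tensorSq φ g).trace = symSq (fun x => (φ x).trace) g := by
  simp only [symMat, smul_mul_assoc, add_mul, one_mul, Matrix.trace_smul, Matrix.trace_add]
  rw [show tensorSq φ g = φ g ⊗ₖ φ g from rfl, trace_kronecker, trace_swapMat_kron, ← map_mul,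
    symSq, smul_eq_mul]
  ring

theorem trace_mul_symAvg (H : Subgroup G) [Fintype H] (g : G) :
    (tensorSq φ g * (symMat * avgOn (tensorSq φ) H)).trace =
      cosetMean H (symSq fun x => (φ x).trace) g := by
  rw [← mul_assoc, ← symMat_comm, avgOn, mul_smul_comm, Finset.mul_sum, Matrix.trace_smul,
    Matrix.trace_sum, cosetMean, smul_eq_mul]
  congr 1
  refine Finset.sum_congr rfl fun n _ => ?_
  rw [mul_assoc, ← map_mul, trace_symMat_tensorSq]

/-- The square of the spherical function, through the symmetric square. -/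
theorem spherical_sq (N : Subgroup G) [Fintype N] [Fintype (⊤ : Subgroup G)]
    (h1 : cosetMean N (fun x => (φ x).trace) 1 = 1)
    (h2 : cosetMean N (symSq fun x => (φ x).trace) 1 = 2)
    (h0 : cosetMean (⊤ : Subgroup G) (symSq fun x => (φ x).trace) 1 = 1) :
    ∃ a b : ℂ, ∀ g, cosetMean N (fun x => (φ x).trace) g ^ 2 =
      a + b * (cosetMean N (symSq fun x => (φ x).trace) g - 1) := by
  set E := avgOn φ N with hE
  have hE2 : E * E = E := avgOn_idem φ N
  have hEt : E.trace = 1 := by
    rw [← h1, ← trace_mul_avgOn, map_one, one_mul]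
  set X := E ⊗ₖ E with hX
  have hX2 : X * X = X := by rw [hX, ← mul_kronecker_mul, hE2]
  have hXt : X.trace = 1 := by rw [hX, trace_kronecker, hEt, one_mul]
  have hXs : swapMat * X = X := by
    have h := compress X hX2 hXt swapMat
    rw [trace_swapMat_kron, hE2, hEt, one_smul] at h
    conv_lhs => rw [← hX2, ← mul_assoc, show swapMat * X = X * swapMat from swapMat_kron E]
    exact h
  set k := tensorSq φ with hk
  set S := avgOn k N with hS
  set T := avgOn k (⊤ : Subgroup G) with hT
  set P := symMat * S with hP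
  set R := symMat * T with hR
  have hTk : ∀ g, T * k g = T := fun g => avgOn_mul_right k ⊤ trivial
  have hkT : ∀ g, k g * T = T := fun g => avgOn_mul_left k ⊤ trivial
  have hTS : T * S = T := by
    rw [hS, avgOn, mul_smul_comm, Finset.mul_sum, Finset.sum_congr rfl fun (o : N) _ => hTk o,
      Finset.sum_const, Finset.card_univ, ← Nat.cast_smul_eq_nsmul ℂ, smul_smul,
      inv_mul_cancel₀ (Nat.cast_ne_zero.2 Fintype.card_ne_zero), one_smul]
  have hST : S * T = T := by
    rw [hS, avgOn, smul_mul_assoc, Finset.sum_mul, Finset.sum_congr rfl fun (o : N) _ => hkT o,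
      Finset.sum_const, Finset.card_univ, ← Nat.cast_smul_eq_nsmul ℂ, smul_smul,
      inv_mul_cancel₀ (Nat.cast_ne_zero.2 Fintype.card_ne_zero), one_smul]
  have hPP : P * P = P := by
    rw [hP, show symMat * S * (symMat * S) = symMat * (S * symMat) * S by simp only [mul_assoc],
      hS, ← symMat_avgOn, ← mul_assoc, symMat_idem, mul_assoc, avgOn_idem]
  have hRP : R * P = R := by
    rw [hR, hP, show symMat * T * (symMat * S) = symMat * (T * symMat) * S by simp only [mul_assoc],
      hT, ← symMat_avgOn, ← mul_assoc, symMat_idem, mul_assoc, hTS]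
  have hPR : P * R = R := by
    rw [hR, hP, show symMat * S * (symMat * T) = symMat * (S * symMat) * T by simp only [mul_assoc],
      hS, ← symMat_avgOn, ← mul_assoc, symMat_idem, mul_assoc, hST]
  have hRR : R * R = R := by
    rw [hR, show symMat * T * (symMat * T) = symMat * (T * symMat) * T by simp only [mul_assoc],
      hT, ← symMat_avgOn, ← mul_assoc, symMat_idem, mul_assoc, avgOn_idem]
  have hRk : ∀ g, R * k g = R := fun g => by rw [hR, mul_assoc, hTk]
  have hkR : ∀ g, k g * R = R := fun g => by
    rw [hR, ← mul_assoc, hk, ← symMat_comm, mul_assoc, ← hk, hkT]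
  set Q := P - R with hQ
  have hQ2 : Q * Q = Q := by
    rw [hQ, sub_mul, mul_sub, mul_sub, hPP, hPR, hRP, hRR, sub_self, sub_zero]
  have hRt : R.trace = 1 := by
    rw [← h0, hR, hT, hk, ← trace_mul_symAvg, map_one, one_mul]
  have hQt : ∀ g, (k g * Q).trace = cosetMean N (symSq fun x => (φ x).trace) g - 1 := fun g => by
    rw [hQ, mul_sub, Matrix.trace_sub, hkR, hRt, hP, hS, hk, trace_mul_symAvg]
  have hQ1 : Q.trace = 1 := by
    have h := hQt 1
    rw [map_one, one_mul, h2] at h
    rw [h]; norm_num
  have hSX : S * X = X := by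
    rw [hS, avgOn, smul_mul_assoc, Finset.sum_mul, Finset.sum_congr rfl fun (o : N) _ =>
      (show k (o : G) * X = X by
        rw [hk, show tensorSq φ (o : G) = φ o ⊗ₖ φ o from rfl, hX, ← mul_kronecker_mul, hE,
          avgOn_mul_left φ N o.2]),
      Finset.sum_const, Finset.card_univ, ← Nat.cast_smul_eq_nsmul ℂ, smul_smul,
      inv_mul_cancel₀ (Nat.cast_ne_zero.2 Fintype.card_ne_zero), one_smul]
  have hXS : X * S = X := by
    rw [hS, avgOn, mul_smul_comm, Finset.mul_sum, Finset.sum_congr rfl fun (o : N) _ =>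
      (show X * k (o : G) = X by
        rw [hk, show tensorSq φ (o : G) = φ o ⊗ₖ φ o from rfl, hX, ← mul_kronecker_mul, hE,
          avgOn_mul_right φ N o.2]),
      Finset.sum_const, Finset.card_univ, ← Nat.cast_smul_eq_nsmul ℂ, smul_smul,
      inv_mul_cancel₀ (Nat.cast_ne_zero.2 Fintype.card_ne_zero), one_smul]
  have hsX : symMat * X = X := by
    rw [symMat, smul_mul_assoc, add_mul, one_mul, hXs, ← two_smul ℂ, smul_smul]; norm_num
  have hXsym : X * symMat = X := by
    rw [symMat, mul_smul_comm, mul_add, mul_one,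
      show X * swapMat = swapMat * X from (swapMat_kron E).symm, hXs, ← two_smul ℂ, smul_smul]
    norm_num
  refine ⟨(R * X).trace, (Q * X).trace, fun g => ?_⟩
  rw [← hQt g, ← trace_mul_avgOn]
  calc (φ g * E).trace ^ 2 = (k g * X).trace := by
        rw [hk, show tensorSq φ g = φ g ⊗ₖ φ g from rfl, hX, ← mul_kronecker_mul, trace_kronecker,
          sq]
    _ = (P * k g * P * X).trace := by
        have hPX : P * X = X := by rw [hP, mul_assoc, hSX, hsX]
        have hXP : X * P = X := by rw [hP, ← mul_assoc, hXsym, hXS]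
        conv_lhs => rw [← hXP, ← hPX]
        rw [show k g * (P * X * P) = k g * P * X * P by simp only [mul_assoc],
          Matrix.trace_mul_comm]
        simp only [mul_assoc]
    _ = _ := by
        have hkey : P * k g * P = R + (k g * Q).trace • Q := by
          rw [← compress Q hQ2 hQ1 (k g), show P = R + Q by rw [hQ, add_sub_cancel]]
          simp only [add_mul, mul_add, hRk, hRR]
          rw [show R * Q = 0 by rw [hQ, mul_sub, hRP, hRR, sub_self],
            show Q * k g * R = 0 by
              rw [mul_assoc, hkR, hQ, sub_mul, hPR, hRR, sub_self], add_zero, zero_add]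
        rw [hkey, add_mul, smul_mul_assoc, Matrix.trace_add, Matrix.trace_smul, smul_eq_mul]
        ring

end Square

end Cfsg.Agent.H79.MTwelve
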